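/-
Project F6: construction of the structure `NM` from the split extension `N(A) / O = 2⁶ : Sp₆(2)`.
-/
import Cfsg.Agent.F6.NB2

set_option autoImplicit false

namespace CL.F6

open Subgroup CL.Even CL.Grp CL.U6 CL.Fc Cfsg
open scoped Pointwise

universe u v

namespace ASMJ

theorem ext3 {A B : ℕ} (hA : A < 2 ^ 64) (hB : B < 2 ^ 64) (h1 : ∀ x < 64, ap A x = ap B x) (h2 : ap A 64 = ap B 64)
    (h3 : ap A 128 = ap B 128) : A = B := by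
  rw [mk8_ap hA, mk8_ap hB, h1 1 (by omega), h1 2 (by omega), h1 4 (by omega), h1 8 (by omega), h1 16 (by omega),
    h1 32 (by omega), h2, h3]

theorem tr64 {x : ℕ} (hx : x < 64) : ap (tr x) 64 = 64 ^^^ x := (ap_tr x hx).1

theorem mm_tr {c y : ℕ} (h : SP c) (hy : y < 64) : mm c (tr y) = mm (tr (ap c y)) c := by
  have h1 := h.1.lt hy
  refine ext3 (mm_lt _ _) (mm_lt _ _) (fun x hx => ?_) ?_ ?_ <;> rw [ap_mm, ap_mm]
  · rw [(ap_tr y hy).2.2 x hx, (ap_tr _ h1).2.2 _ (h.1.lt hx)]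
  · rw [tr64 hy, ap_xor, h.2, tr64 h1]
  · rw [(ap_tr y hy).2.1, h.1.2.1, (ap_tr _ h1).2.1]

theorem split {c : ℕ} (h : AS c) : ∃ x < 64, ∃ c', SP c' ∧ c = mm (tr x) c' := by
  have h1 := (aff_iff _ (ap_lt c 64)).1 ⟨h.2.2.1, h.2.2.2.1⟩
  refine ⟨_, h1, mm (tr (ap c 64 ^^^ 64)) c, ⟨(tr_TC _ h1).1.mul h, ?_⟩, ?_⟩
  · rw [ap_mm]
    conv_lhs => rw [← Nat.xor_xor_cancel_right (ap c 64) 64]
    rw [Nat.xor_xor_cancel_right (_ ^^^ 64), ap_xor, (ap_tr _ h1).2.2 _ h1, tr64 h1, Nat.xor_comm 64, Nat.xor_xor_cancel_left]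
  · rw [← mm_assoc, tr_mul _ h1 _ h1, Nat.xor_self, tr_zero, I8_mm h.1]

/-- `c - 1` lowers the flag by `k` steps -/
def Lw (k c : ℕ) : Prop := ∀ i ≤ 7, ∀ y < 2 ^ i, ap c y ^^^ y < 2 ^ (i - k)

theorem Lw.sq {k c : ℕ} (h : Lw k c) : Lw (k + k) (mm c c) := fun i hi y hy => by
  have := h (i - k) (by omega) _ (h i hi y hy)
  rwa [ap_xor, Nat.xor_assoc, Nat.xor_xor_cancel_left, Nat.sub_sub, ← ap_mm] at this

theorem lw {c : ℕ} (h : TC c) : Lw 1 c := fun i hi =>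
  ind_bits (k := i) (by rw [ap_zero]; exact Nat.two_pow_pos _) fun a _ m hm e => by
    have h1 : ap c (2 ^ m) ^^^ 2 ^ m < 2 ^ m := by
      rcases (by omega : m < 6 ∨ m = 6) with h2 | rfl
      exacts [h.2 m h2, (aff_iff _ (ap_lt c 64)).1 ⟨h.1.2.2.1, h.1.2.2.2.1⟩]
    rw [ap_xor, show ap c a ^^^ ap c (2 ^ m) ^^^ (a ^^^ 2 ^ m) = ap c a ^^^ a ^^^ (ap c (2 ^ m) ^^^ 2 ^ m) by ac_rfl]
    exact Nat.xor_lt_two_pow e (h1.trans_le (Nat.pow_le_pow_right two_pos (by omega)))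

theorem tc_mul {c c' : ℕ} (h : TC c) (h' : TC c') : TC (mm c c') := ⟨h.1.mul h'.1, fun i hi => by
  have h1 := h'.2 i hi
  have h2 : 2 ^ i < 2 ^ (i + 1) := Nat.pow_lt_pow_right (by omega) (by omega)
  have h3 := Nat.xor_lt_two_pow (h1.trans h2) h2
  rw [Nat.xor_xor_cancel_right] at h3
  have h4 := Nat.xor_lt_two_pow (lw h (i + 1) (by omega) _ h3) h1
  rwa [Nat.xor_assoc, Nat.xor_xor_cancel_left, ← ap_mm] at h4⟩

theorem eq_I8 {c : ℕ} (h : AS c) (h' : Lw 8 c) : c = I8 := by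
  have : ∀ y < 128, ap c y = ap I8 y := fun y hy => by
    rw [ap_I8 y (by omega)]
    exact Nat.xor_eq_zero_iff.1 (Nat.lt_one_iff.1 (h' 7 le_rfl y hy))
  exact ext3 h.1 TC_I8.1.1 (fun x hx => this x (by omega)) (this 64 (by omega)) (h.2.1.trans TC_I8.1.2.1.symm)

theorem flag : ∀ i < 6, ∀ x < 64, (x < 2 ^ (i + 1) ∨ ∃ l ∈ LT, ¬ ap l x ^^^ x < 2 ^ i) ∧
    (x < 2 ^ (i + 1) → x < 2 ^ i ∨ x ^^^ 2 ^ i < 2 ^ i) := by decide +kernel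

variable {G : Type u} {Γ : Type v} [Group G] [Group Γ] {A O K : Subgroup G} {a : ℕ → G}

theorem odd_two {Y : Subgroup G} (hO : Odd (Nat.card O)) (hY : IsPGroup 2 Y) {x : G} (h1 : x ∈ O) (h2 : x ∈ Y) :
    x = 1 := by
  obtain ⟨k, hk⟩ := hY ⟨x, h2⟩
  exact orderOf_eq_one_iff.1 ((Nat.coprime_self _).1 ((((Nat.coprime_two_right.2 hO).pow_right k).coprime_dvd_left
    (O.orderOf_dvd_natCard h1)).coprime_dvd_right (orderOf_dvd_of_pow_eq_one (congrArg Subtype.val hk))))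

theorem a_sq (h : AC A a) {x : ℕ} (hx : x < 64) : a x * a x = 1 := by
  rw [← h.xor x hx x hx, Nat.xor_self]
  exact mul_eq_left.1 (h.xor 0 (by omega) 0 (by omega)).symm

theorem two (h : AC A a) : IsPGroup 2 A := fun y => by
  obtain ⟨x, hx, e⟩ := (h.mem y).1 y.2
  exact ⟨1, Subtype.ext (by simpa [sq, e] using a_sq h hx)⟩

/-- the map `ν` -/
structure Nu (A O : Subgroup G) (a : ℕ → G) (ν : G → ℕ) : Prop where
  mul : ∀ {x y}, x ∈ 𝒩(A) → y ∈ 𝒩(A) → ν (x * y) = mm (ν x) (ν y)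
  as : ∀ {x}, x ∈ 𝒩(A) → AS (ν x)
  ker : ∀ {x}, x ∈ 𝒩(A) → (ν x = I8 ↔ x ∈ O)
  tr : ∀ x < 64, ν (a x) = tr x
  surj : ∀ c, AS c → ∃ n ∈ 𝒩(A), ν n = c
  act : ∀ {n}, n ∈ 𝒩(A) → ∀ x < 64, n * a x * n⁻¹ = a (ap (ν n) x)

theorem exists_nu {μ : Γ → ℕ} {ρ : 𝒩(A) →* Γ} (hμ : SpM μ) (h : AC A a) (hρ : Function.Surjective ρ)
    (hk : ∀ n, ρ n = 1 ↔ (n : G) ∈ 𝒞(A)) (act : ∀ n : 𝒩(A), ∀ x < 64, (n : G) * a x * (n : G)⁻¹ = a (ap (μ (ρ n)) x))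
    (odd : Odd (Nat.card O)) (hC : O ⊔ A = 𝒞(A)) (h1 : K ⊔ (O ⊔ A) = 𝒩(A)) (h2 : K ⊓ (O ⊔ A) = O) :
    ∃ ν, Nu A O a ν := by
  classical
  have aA : ∀ x < 64, a x ∈ A := fun x hx => (h.mem _).2 ⟨x, hx, rfl⟩
  have OK : O ≤ K := h2 ▸ inf_le_left
  have μ1 : μ 1 = I8 := by
    obtain ⟨γ, e⟩ := hμ.surj I8 ⟨TC_I8.1, ap_I8 64 (by omega)⟩
    have := hμ.mul γ 1
    rwa [mul_one, e, I8_mm (hμ.sp 1).1.1, eq_comm] at this
  have ex : ∀ n : 𝒩(A), ∃ x < 64, a x * n ∈ K := fun n => by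
    have h3 : (n : G) ∈ (A : Set G) * K := by
      rw [← coe_mul_of_right_le_normalizer_left A K (h1 ▸ le_sup_left), sup_comm, ← sup_eq_left.2 OK, sup_assoc, h1]
      exact n.2
    obtain ⟨y, hy, k, hk, e⟩ := h3
    obtain ⟨x, hx, rfl⟩ := (h.mem y).1 hy
    exact ⟨x, hx, by rw [← e, ← mul_assoc, a_sq h hx, one_mul]; exact hk⟩
  choose ξ ξ1 ξ2 using ex
  have un : ∀ (n : 𝒩(A)), ∀ x < 64, a x * n ∈ K → ξ n = x := fun n x hx e => by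
    have h3 := mul_mem (ξ2 n) (inv_mem e)
    rw [mul_inv_rev, mul_assoc, mul_inv_cancel_left, inv_eq_of_mul_eq_one_right (a_sq h hx), ← h.xor _ (ξ1 n) x hx] at h3
    have h4 := aA _ (xor64 (ξ1 n) hx)
    exact Nat.xor_eq_zero_iff.1 (h.inj _ (xor64 (ξ1 n) hx) (odd_two odd (two h) (h2.le ⟨h3, mem_sup_right h4⟩) h4))
  have a0 : a 0 = 1 := mul_eq_left.1 (h.xor 0 (by omega) 0 (by omega)).symm
  let ν : G → ℕ := fun n => if hn : n ∈ 𝒩(A) then mm (tr (ξ ⟨n, hn⟩)) (μ (ρ ⟨n, hn⟩)) else 0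
  have hν : ∀ {n} (hn : n ∈ 𝒩(A)), ν n = mm (tr (ξ ⟨n, hn⟩)) (μ (ρ ⟨n, hn⟩)) := fun hn => dif_pos hn
  have mul : ∀ {x y}, x ∈ 𝒩(A) → y ∈ 𝒩(A) → ν (x * y) = mm (ν x) (ν y) := fun {x y} hx hy => by
    have h3 := (hμ.sp (ρ ⟨x, hx⟩)).1.lt (ξ1 ⟨y, hy⟩)
    rw [hν hx, hν hy, hν (mul_mem hx hy), un ⟨_, mul_mem hx hy⟩ _ (xor64 (ξ1 ⟨x, hx⟩) h3) (by
      rw [h.xor _ (ξ1 _) _ h3, ← act _ _ (ξ1 _)]
      simpa only [mul_assoc, inv_mul_cancel_left] using mul_mem (ξ2 ⟨x, hx⟩) (ξ2 ⟨y, hy⟩)),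
      ← tr_mul _ (ξ1 _) _ h3, mm_assoc, mm_assoc, ← mm_assoc (μ _), mm_tr (hμ.sp _) (ξ1 _), mm_assoc, ← hμ.mul,
      ← map_mul]
    rfl
  have htr : ∀ x < 64, ν (a x) = tr x := fun x hx => by
    rw [hν (le_normalizer (aA x hx)), un _ x hx (a_sq h hx ▸ one_mem K :), (hk _).2 (hC ▸ mem_sup_right (aA x hx) :), μ1,
      mm_I8 (tr_TC x hx).1.1]
  refine ⟨ν, mul, fun hn => hν hn ▸ (tr_TC _ (ξ1 _)).1.mul (hμ.sp _).1, fun {n} hn => ⟨fun e => ?_, fun e => ?_⟩, htr,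
    fun c hc => ?_, fun {n} hn x hx => ?_⟩
  · rw [hν hn] at e
    have h3 := congrArg (ap · 64) e
    simp only [ap_mm, (hμ.sp _).2, tr64 (ξ1 _), ap_I8 64 (by omega)] at h3
    have h4 : ξ ⟨n, hn⟩ = 0 := by rw [← Nat.xor_xor_cancel_left 64 (ξ _), h3, Nat.xor_self]
    have h5 := ξ2 ⟨n, hn⟩
    rw [h4, a0, one_mul] at h5
    rw [h4, tr_zero, I8_mm (hμ.sp _).1.1, ← μ1] at e
    exact h2.le ⟨h5, hC.ge ((hk _).1 (hμ.inj e))⟩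
  · rw [hν hn, un _ 0 (by omega) (by rw [a0, one_mul]; exact OK e), (hk _).2 (hC ▸ mem_sup_left e :), μ1, tr_zero,
      mm_I8 TC_I8.1.1]
  · obtain ⟨x, hx, c', h3, rfl⟩ := split hc
    obtain ⟨γ, rfl⟩ := hμ.surj c' h3
    obtain ⟨n, rfl⟩ := hρ γ
    have h4 := xor64 hx (ξ1 n)
    refine ⟨_, mul_mem (le_normalizer (aA _ h4)) n.2, ?_⟩
    rw [mul (le_normalizer (aA _ h4)) n.2, htr _ h4, hν n.2, ← mm_assoc, tr_mul _ h4 _ (ξ1 _), Nat.xor_xor_cancel_right]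
  · rw [hν hn, ap_mm, (ap_tr _ (ξ1 _)).2.2 _ ((hμ.sp _).1.lt hx)]
    exact act ⟨n, hn⟩ x hx

end ASMJ

open ASMJ in
theorem asm : ASM.{u, v} := by
  classical
  intro G Γ _ _ _ A O K μ ρ a hμ h hρ hk act odd hC nO h1 h2
  obtain ⟨ν, N⟩ := exists_nu hμ h hρ hk act odd hC h1 h2
  have ON : O ≤ 𝒩(A) := (le_sup_left.trans hC.le).trans (centralizer_le_normalizer _)
  have ν1 : ν 1 = I8 := (N.ker (one_mem _)).2 (one_mem _)
  have νO : ∀ o ∈ O, ∀ n ∈ 𝒩(A), ν (o * n) = ν n := fun o ho n hn => by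
    rw [N.mul (ON ho) hn, (N.ker (ON ho)).2 ho, I8_mm (N.as hn).1]
  let Tm : Submonoid G :=
    { carrier := {n | n ∈ 𝒩(A) ∧ TC (ν n)}
      one_mem' := ⟨one_mem _, ν1 ▸ TC_I8⟩
      mul_mem' := fun hx hy => ⟨mul_mem hx.1 hy.1, N.mul hx.1 hy.1 ▸ tc_mul hx.2 hy.2⟩ }
  obtain ⟨Tt, hT⟩ : ∃ Tt : Subgroup G, ∀ n, n ∈ Tt ↔ n ∈ 𝒩(A) ∧ TC (ν n) :=
    ⟨⟨Tm, fun {x} hx => (inv_eq_of_mul_eq_one_right ((mul_pow_sub_one (orderOf_pos x).ne' x).trans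
      (pow_orderOf_eq_one x))).symm ▸ Tm.pow_mem hx _⟩, fun _ => Iff.rfl⟩
  have TN : Tt ≤ 𝒩(A) := fun n hn => ((hT n).1 hn).1
  obtain ⟨T, syl, AT⟩ := exists_isSylowIn_ge (H := Tt) (two h) fun y hy => by
    obtain ⟨x, hx, rfl⟩ := (h.mem y).1 hy
    exact (hT _).2 ⟨le_normalizer hy, N.tr x hx ▸ tr_TC x hx⟩
  have TN' : T ≤ 𝒩(A) := syl.le.trans TN
  have tc : ∀ y ∈ T, TC (ν y) := fun y hy => ((hT y).1 (syl.le hy)).2
  have dec : ∀ n ∈ Tt, ∃ o ∈ O, ∃ y ∈ T, n = o * y := fun n hn => by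
    have : (O.subgroupOf Tt).Normal := normal_subgroupOf_of_le_normalizer (TN.trans nO)
    have hp : IsPGroup 2 (Tt ⧸ O.subgroupOf Tt) := fun q => by
      obtain ⟨⟨m, hm⟩, rfl⟩ := QuotientGroup.mk_surjective q
      have m1 := TN hm
      have m2 := mul_mem m1 m1
      have m4 := mul_mem m2 m2
      have e := eq_I8 (N.as (mul_mem m4 m4)) (by
        rw [N.mul m4 m4, N.mul m2 m2, N.mul m1 m1]; exact (lw ((hT m).1 hm).2).sq.sq.sq)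
      refine ⟨3, ?_⟩
      rw [← QuotientGroup.mk_pow, QuotientGroup.eq_one_iff, mem_subgroupOf, coe_pow,
        show m ^ 2 ^ 3 = m * m * (m * m) * (m * m * (m * m)) by
          rw [← sq, ← sq, ← sq, ← pow_mul, ← pow_mul]; rfl]
      exact (N.ker (mul_mem m4 m4)).1 e
    obtain ⟨k, hk⟩ := IsPGroup.iff_card.1 hp
    exact syl.exists_mul_eq_of_relIndex_pow hk hn
  have inj : ∀ y ∈ T, ∀ y' ∈ T, ν y = ν y' → y = y' := fun y hy y' hy' e => by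
    have h3 := mul_mem (inv_mem hy) hy'
    refine inv_mul_eq_one.1 (odd_two odd syl.isPGroup ((N.ker (TN' h3)).1 ?_) h3)
    rw [N.mul (TN' (inv_mem hy)) (TN' hy'), ← e, ← N.mul (TN' (inv_mem hy)) (TN' hy), inv_mul_cancel, ν1]
  have sur : ∀ c, ∃ y, TC c → y ∈ T ∧ ν y = c := fun c => by
    by_cases hc : TC c
    · obtain ⟨n, hn, rfl⟩ := N.surj c hc.1
      obtain ⟨o, ho, y, hy, rfl⟩ := dec n ((hT n).2 ⟨hn, hc⟩)
      exact ⟨y, fun _ => ⟨hy, (νO o ho y (TN' hy)).symm⟩⟩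
    · exact ⟨1, fun e => absurd e hc⟩
  choose el hel using sur
  have ela : ∀ x < 64, el (tr x) = a x := fun x hx => inj _ (hel _ (tr_TC x hx)).1 _ (AT ((h.mem _).2 ⟨x, hx, rfl⟩))
    ((hel _ (tr_TC x hx)).2.trans (N.tr x hx).symm)
  have fl : ∀ i ≤ 6, ∀ u ∈ 𝒩(A) ⊓ 𝒩(T), ∀ x < 2 ^ i, ap (ν u) x < 2 ^ i := fun i hi => by
    induction i with
    | zero => exact fun u _ x hx => by rw [Nat.lt_one_iff.1 hx, ap_zero]; exact one_pos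
    | succ i ih =>
      intro u hu x hx
      refine (flag i hi _ ((N.as hu.1).lt (hx.trans_le (Nat.pow_le_pow_right (j := 6) two_pos hi)))).1.resolve_right ?_
      rintro ⟨l, hl, e⟩
      obtain ⟨t1, t2⟩ := hel l (LT_TC l hl).1
      have t3 := (mem_normalizer_iff.1 (inv_mem hu.2) _).1 t1
      have t4 := ih (by omega) u hu _ (lw (tc _ t3) (i + 1) (by omega) x hx)
      rw [ap_xor, ← ap_mm, ← N.mul hu.1 (TN' t3), show u * (u⁻¹ * el l * u⁻¹⁻¹) = el l * u by group, N.mul (TN' t1) hu.1, t2,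
        ap_mm] at t4
      exact e t4
  have nT : 𝒩(A) ⊓ 𝒩(T) ≤ Tt := fun u hu => (hT u).2 ⟨hu.1, N.as hu.1, fun i hi =>
    ((flag i hi _ ((N.as hu.1).lt (pow_lt64 hi))).2 (fl (i + 1) hi u hu _
      (Nat.pow_lt_pow_right (by omega) (by omega)))).resolve_left fun e => by
      have := fl i hi.le _ (inv_mem hu) _ e
      rw [← ap_mm, ← N.mul (inv_mem hu.1) hu.1, inv_mul_cancel, ν1, ap_I8 _ ((pow_lt64 hi).trans (by omega))] at this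
      exact lt_irrefl _ this⟩
  refine ⟨⟨A, O, T, ν, el, N.mul, N.as, N.ker, odd, le_sup_left.trans hC.le, hC.ge, nO,
    isSylowIn_of_maximal TN' syl.isPGroup fun U hU h3 h4 => by_contra fun e => ?_,
    (h.mem _).trans (exists_congr fun x => and_congr_right fun hx => by rw [ela x hx]),
    fun {y} => ⟨fun hy => ⟨_, tc y hy, inj _ hy _ (hel _ (tc y hy)).1 (hel _ (tc y hy)).2.symm⟩,
      fun ⟨c, hc, e⟩ => e ▸ (hel c hc).1⟩, fun hc => (hel _ hc).2, fun hc hc' => ⟨tc_mul hc hc', ?_⟩,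
    fun hn x hx => by rw [ela x hx, ela _ ((N.as hn).lt hx), N.act hn x hx], fun c hc P hP hy => ?_⟩, rfl⟩
  · have h5 := lt_inf_normalizer_of_isPGroup hU (lt_of_le_of_ne h3 (Ne.symm e))
    exact h5.ne' (syl.eq_of_le (hU.to_le inf_le_left) h5.le ((inf_le_inf_right _ h4).trans nT))
  · refine inj _ (mul_mem (hel _ hc).1 (hel _ hc').1) _ (hel _ (tc_mul hc hc')).1 ?_
    rw [N.mul (TN' (hel _ hc).1) (TN' (hel _ hc').1), (hel _ hc).2, (hel _ hc').2, (hel _ (tc_mul hc hc')).2]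
  · obtain ⟨n, hn, rfl⟩ := N.surj c hc
    obtain ⟨g, hg, e⟩ := syl_conj_le syl (isPGroup_cj (syl.isPGroup.to_le hP) n) (by
      rintro _ ⟨y, h3, rfl⟩
      obtain ⟨c', h4, h5⟩ := hy y h3
      have h6 := TN' (hP h3)
      refine (hT (n * y * n⁻¹)).2 ⟨mul_mem (mul_mem hn h6) (inv_mem hn), ?_⟩
      rwa [N.mul (mul_mem hn h6) (inv_mem hn), N.mul hn h6, h5, mm_assoc, ← N.mul hn (inv_mem hn), mul_inv_cancel, ν1,
        mm_I8 h4.1.1])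
    obtain ⟨o, ho, t, ht, e'⟩ := dec _ (inv_mem hg)
    refine ⟨o⁻¹ * n, mul_mem (ON (inv_mem ho)) hn, νO _ (inv_mem ho) n hn, fun y h3 => ?_⟩
    have h4 := mul_mem (mul_mem ht (e (conj_mem_cj g (conj_mem_cj n h3)))) (inv_mem ht)
    rwa [inv_eq_iff_eq_inv.1 e', show t * ((o * t)⁻¹ * (n * y * n⁻¹) * (o * t)⁻¹⁻¹) * t⁻¹ = o⁻¹ * n * y * (o⁻¹ * n)⁻¹ by
      group] at h4

end CL.F6
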