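/-
Project F6 (helper26): `Fi₂₂` from the 2-local subgroup `2⁶ : Sp₆(2)`.  Definitions and statements.
A code `c < 2 ^ 64` is an `8 × 8` matrix over `F₂` (see `Spor/U6C`).  Vectors `x < 64` form the symplectic module,
`64 + x` are the points of the affine space.
-/
import Cfsg.Agent.Spor.FcMD
import Cfsg.Agent.Even.Amb2

set_option autoImplicit false

namespace CL.F6

open Subgroup CL.Even CL.Grp CL.U6 CL.Fc Cfsg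

universe u v

/-! ### the affine symplectic group -/

/-- the symplectic form as a bit: `e_i` is dual to `e_{5-i}` -/
def fn (a b : ℕ) : ℕ := Nat.land (Nat.shiftRight PT (Nat.land a (ap 1108169199648 b))) 1

/-- the symplectic form -/
def ff (a b : ℕ) : Bool := Nat.beq (fn a b) 1

/-- the translation by `x` -/
def tr (x : ℕ) : ℕ := Nat.add I8 (Nat.shiftLeft x 48)

/-- the symplectic transvection with centre `w` -/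
def tc (w : ℕ) : ℕ := mk fun x => Nat.xor x (Nat.mul w (fn x w))

/-- affine symplectic maps -/
def AS (c : ℕ) : Prop := c < 2 ^ 64 ∧ ap c 128 = 128 ∧ 64 ≤ ap c 64 ∧ ap c 64 < 128 ∧ (∀ i < 6, ap c (2 ^ i) < 64) ∧
  ∀ i < 6, ∀ j < 6, ff (ap c (2 ^ i)) (ap c (2 ^ j)) = ff (2 ^ i) (2 ^ j)

/-- linear symplectic maps -/
def SP (c : ℕ) : Prop := AS c ∧ ap c 64 = 64

/-- the Sylow 2-subgroup: unitriangular maps -/
def TC (c : ℕ) : Prop := AS c ∧ ∀ i < 6, ap c (2 ^ i) ^^^ 2 ^ i < 2 ^ i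

noncomputable instance (c : ℕ) : Decidable (AS c) := inferInstanceAs (Decidable (_ ∧ _ ∧ _ ∧ _ ∧ _ ∧ _))
noncomputable instance (c : ℕ) : Decidable (SP c) := inferInstanceAs (Decidable (_ ∧ _))
noncomputable instance (c : ℕ) : Decidable (TC c) := inferInstanceAs (Decidable (_ ∧ _))

/-- the elements of `V₀ = 2⁹`: bits `0-2` translation in `W`, bits `3-8` the entries `00 11 22 01 02 12` of a
symmetric matrix -/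
def vc (n : ℕ) : ℕ := mk8 1 2 4 (8 ^^^ (sel n 5 4 ^^^ sel n 7 1 ^^^ sel n 8 2))
  (16 ^^^ (sel n 4 2 ^^^ sel n 6 1 ^^^ sel n 8 4)) (32 ^^^ (sel n 3 1 ^^^ sel n 6 2 ^^^ sel n 7 4)) (64 ^^^ n % 8) 128

/-- `Γ` is `Sp₆(2)` and `μ` gives the matrices. -/
structure SpM {Γ : Type v} [Group Γ] (μ : Γ → ℕ) : Prop where
  mul : ∀ a b, μ (a * b) = mm (μ a) (μ b)
  inj : Function.Injective μ
  sp : ∀ γ, SP (μ γ)
  surj : ∀ c, SP c → ∃ γ, μ γ = c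

/-- coordinates for `A` -/
structure AC {G : Type u} [Group G] (A : Subgroup G) (a : ℕ → G) : Prop where
  xor : ∀ x < 64, ∀ y < 64, a (x ^^^ y) = a x * a y
  inj : ∀ x < 64, a x = 1 → x = 0
  mem : ∀ y, y ∈ A ↔ ∃ x < 64, y = a x

/-- `N(A) / O = 2⁶ : Sp₆(2)`; `T` is a Sylow 2-subgroup of `N(A)`. -/
structure NM (G : Type u) [Group G] where
  A : Subgroup G
  O : Subgroup G
  T : Subgroup G
  ν : G → ℕ
  el : ℕ → G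
  ν_mul : ∀ {a b}, a ∈ 𝒩(A) → b ∈ 𝒩(A) → ν (a * b) = mm (ν a) (ν b)
  ν_AS : ∀ {a}, a ∈ 𝒩(A) → AS (ν a)
  ker : ∀ {a}, a ∈ 𝒩(A) → (ν a = I8 ↔ a ∈ O)
  odd : Odd (Nat.card O)
  OA : O ≤ 𝒞(A)
  cA : 𝒞(A) ≤ O ⊔ A
  nO : 𝒩(A) ≤ 𝒩(O)
  syl : IsSylowIn 2 T 𝒩(A)
  mem_A : ∀ {y}, y ∈ A ↔ ∃ x < 64, y = el (tr x)
  mem_T : ∀ {y}, y ∈ T ↔ ∃ c, TC c ∧ y = el c
  ν_el : ∀ {c}, TC c → ν (el c) = c
  el_mul : ∀ {c c'}, TC c → TC c' → TC (mm c c') ∧ el c * el c' = el (mm c c')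
  act : ∀ {n}, n ∈ 𝒩(A) → ∀ x < 64, n * el (tr x) * n⁻¹ = el (tr (ap (ν n) x))
  lift : ∀ c, AS c → ∀ P ≤ T, (∀ y ∈ P, ∃ c', TC c' ∧ mm c (ν y) = mm c' c) →
    ∃ n ∈ 𝒩(A), ν n = c ∧ ∀ y ∈ P, n * y * n⁻¹ ∈ T

/-- `V₀` -/
def NM.V0 {G : Type u} [Group G] (M : NM G) : Subgroup G := closure {y | ∃ n < 512, y = M.el (vc n)}

/-! ### the group `J = 2 × 2^{1+8}` -/

/-- the section `Σ` over the singular vectors -/
def sg (a : ℕ) : Bool := Nat.testBit 0x80200261c801101a026126e080200104c8018020ec800104101a010401044a40 a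

/-- `J` with coordinates -/
structure JB (G : Type u) [Group G] where
  z : G
  d : G
  J : Subgroup G
  s : ℕ → G
  zz : z * z = 1
  dd : d * d = 1
  zd : Commute z d
  zs : ∀ a < 256, Commute z (s a)
  ds : ∀ a < 256, Commute d (s a)
  s_mul : ∀ a < 256, ∀ b < 256, s a * s b = s (a ^^^ b) * zb z (be a b)
  mem_J : ∀ {y}, y ∈ J ↔ ∃ a < 256, ∃ e f, y = s a * zb z e * zb d f
  inj : ∀ a < 256, ∀ e f, s a * zb z e * zb d f = 1 → a = 0 ∧ e = false ∧ f = false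

/-- the functional `l` belongs to the matrix `M` -/
def Cp (M l : ℕ) : Prop := l < 256 ∧ ∀ a < 256, Iso a → BB a l = (sg a ^^ sg (ap M a))

namespace JB

variable {G : Type u} [Group G] (S : JB G)

/-- the elements of `J` -/
def j (a : ℕ) (e f : Bool) : G := S.s a * zb S.z e * zb S.d f

/-- representative of the third class -/
def xh : G := S.d * S.s 85

/-- the maximal elementary abelian subgroup over `l0` -/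
def I : Subgroup G := closure {y | ∃ a ∈ l0, ∃ e f, y = S.j a e f}

/-- `O(C(J))` -/
def OJ : Subgroup G := pPrimeCoreOf 2 𝒞(S.J)

/-- action on `J / ⟨z⟩` -/
def AcL (n : G) (M l : ℕ) : Prop := ∀ a < 256, ∃ e, n * S.s a * n⁻¹ = S.j (ap M a) e (BB a l)

/-- action on `J` which preserves `Σ` -/
def Ac (n : G) (M : ℕ) : Prop :=
  Commute n S.z ∧ n * S.d * n⁻¹ = S.d * zb S.z (sl M) ∧ ∃ l, Cp M l ∧ S.AcL n M l

end JB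

variable {G : Type u} {Γ : Type} [Group G] [Group Γ]

/-- conjugate under `K` -/
def Cn (K : Subgroup G) (a b : G) : Prop := ∃ g ∈ K, g * a * g⁻¹ = b

/-- A subgroup `Nn` of `N(J)` which acts on `J` through `Γ = U₄(2).2`. -/
structure J0 (S : JB G) (m : Γ → ℕ) where
  Nn : Subgroup G
  O1 : Subgroup G
  T : Subgroup G
  r : G → Γ
  md : Md m
  out : ∃ σ, m σ = SG
  JT : S.J ≤ T
  syl : IsSylowIn 2 T Nn
  ON : O1 ≤ Nn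
  odd1 : Odd (Nat.card O1)
  OJ1 : O1 ≤ 𝒞(S.J)
  nO1 : Nn ≤ 𝒩(O1)
  r_mul : ∀ {a b}, a ∈ Nn → b ∈ Nn → r (a * b) = r a * r b
  r_eq : ∀ {n}, n ∈ Nn → (r n = 1 ↔ n ∈ S.J ⊔ O1)
  ac : ∀ {n}, n ∈ Nn → S.Ac n (m (r n))
  rT : ∀ {y}, y ∈ T → r y ∈ TT m

/-- with good lifts of the involutions of type `b0` -/
structure JM (S : JB G) (m : Γ → ℕ) extends J0 S m where
  sb : ∀ y ∈ T, Cj m (r y) b0 → ∃ b ∈ T, r b = r y ∧ b * b = 1 ∧ ∀ a < 256, ap (m (r y)) a = a → Commute b (S.s a)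

/-- data coming from `N(A)` -/
structure PD (S : JB G) where
  A : Subgroup G
  O : Subgroup G
  t : G
  κ : G
  β : G
  Asq : ∀ a ∈ A, a * a = 1
  memA : ∀ {y}, y ∈ A ↔ ∃ a ∈ W0, ∃ e f, y = S.s a * zb S.z e * zb t f
  trans : ∀ u ∈ A, u ≠ 1 → Cn 𝒩(A) S.z u
  odd : Odd (Nat.card O)
  OA : O ≤ 𝒞(A)
  cA : 𝒞(A) ≤ O ⊔ A
  κκ : κ * κ = 1
  ββ : β * β = 1
  tκ : Commute t κ
  tβ : Commute t β
  κs : ∀ a < 256, ap t0 a = a → Commute κ (S.s a)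
  βs : ∀ a ∈ l0, Commute β (S.s a)
  f1 : Cn 𝒩(A) (t * κ) S.xh
  f2 : Cn 𝒩(A) κ S.d
  f3 : Cn 𝒩(A) (κ * S.z) S.xh
  f4 : Cn 𝒩(A) (κ * S.d) (S.j 170 false true)
  f5 : Cn 𝒩(A) β (S.s 170)
  f6 : Cn 𝒩(A) (β * S.z) (S.s 5)
  f7 : Cn 𝒩(A) (κ * S.s 175) S.xh
  f8 : Cn 𝒩(A) (κ * S.s 175 * S.d) (S.j 5 false true)
  f9 : Cn 𝒩(A) (β * S.d) (κ * S.s 245)

/-- both structures together -/
structure CM (S : JB G) (m : Γ → ℕ) extends PD S, JM S m where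
  AT : A ≤ T
  κT : κ ∈ T
  βT : β ∈ T
  rt : m (r t) = c0
  rκ : m (r κ) = t0
  rβ : m (r β) = b0
  k2 : ∃ y ∈ T, m (r y) = tv 245

/-- the reflections which commute with `c0` -/
def RC : List ℕ := [290484388955693104, 579839562285584416, 865820334417260560, 1161999622395332620,
  1668951480567326844, 1958306653897218156, 2244287426028894300, 2319495370234790920, 2826447228406785144,
  3115802401736676456, 3401783173868352600, 3463479494608751620, 3970431352780745844, 4259786526110637156,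
  4545767298242313300]

/-- reflections: `s1, ..., s5` generate `S₆`, and `s1 - s5`, `R1` form the diagram `E₆` -/
def s1 : ℕ := 865820334417260560
def s2 : ℕ := 1668951480567326844
def s3 : ℕ := 3463479494608751620
def s4 : ℕ := 1161999622395332620
def s5 : ℕ := 4545767298242313300
def R1 : ℕ := 2172784002495396060

/-- `Nn = N(A) ∩ N(J)` -/
structure PM (S : JB G) (m : Γ → ℕ) extends CM S m where
  hN : Nn = 𝒩(A) ⊓ 𝒩(S.J)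
  sylA : IsSylowIn 2 T 𝒩(A)
  img : ∀ B ∈ RC, ∃ n ∈ Nn, m (r n) = B

/-- `Nn` maps onto `Γ` -/
structure XM (S : JB G) (m : Γ → ℕ) extends CM S m where
  surj : ∀ γ, ∃ n ∈ Nn, r n = γ
  onT : ∀ γ ∈ TT m, ∃ y ∈ T, r y = γ
  hO : O1 = S.OJ
  hA : 𝒩(A) ⊓ 𝒩(S.J) ≤ Nn

/-- `Nn = N(J)` -/
structure XF (S : JB G) (m : Γ → ℕ) extends XM S m where
  full : Nn = 𝒩(S.J)

/-- centralisers -/
structure CF {S : JB G} (D : PD S) : Prop where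
  cen : ∀ c ∈ 𝒞(S.J), ∃ o ∈ S.OJ, ∃ e f, c = o * S.j 0 e f
  ct : ∀ n ∈ 𝒩(S.J), n * D.t * n⁻¹ * D.t⁻¹ ∈ S.J ⊔ S.OJ → ∃ o ∈ S.OJ, n * o ∈ 𝒩(D.A)
  ker : ∀ n ∈ 𝒩(S.J), (∀ a < 256, ∃ e f, n * S.s a * n⁻¹ = S.j a e f) → n ∈ S.J ⊔ S.OJ

/-- an element which swaps `t` and `s1` -/
def SW {S : JB G} {m : Γ → ℕ} (P : PM S m) : Prop := ∃ g ∈ 𝒩(S.J), ∃ p ∈ P.Nn, m (P.r p) = s1 ∧
  g * P.t * g⁻¹ * p⁻¹ ∈ S.J ∧ g * p * g⁻¹ * P.t⁻¹ ∈ S.J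

namespace XF

variable {S : JB G} {m : Γ → ℕ} (X : XF S m)

/-- `V = 2¹⁰` -/
def V : Subgroup G := X.T ⊓ 𝒞(S.I)

/-- conjugate under `⟨N(A), N(J)⟩` -/
def K (a b : G) : Prop := Cn (𝒩(X.A) ⊔ 𝒩(S.J)) a b

/-- weak closure of `J`; `T` is a Sylow 2-subgroup of `G` -/
structure SY : Prop where
  wJ : ∀ h, Commute h S.z → cj h S.J ≤ 𝒩(S.J) → cj h S.J = S.J
  syl : IsSylowIn 2 X.T ⊤
  cen : ∀ u ∈ X.T, (∀ y ∈ X.T, Commute u y) → u = 1 ∨ u = S.z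
  nrm : ∀ h, Commute h S.z → ∀ P : Subgroup G, IsPGroup 2 P → (∀ p ∈ P, Commute p S.z) → cj h S.J ≤ P →
    P ≤ 𝒩(cj h S.J)

/-- `N(V)` controls the fusion in `V` -/
structure VV : Prop where
  sq : ∀ y ∈ X.V, y * y = 1
  ctl : ∀ u ∈ X.V, ∀ g, g * u * g⁻¹ ∈ X.V → ∃ n ∈ 𝒩(X.V), n * u * n⁻¹ = g * u * g⁻¹ ∧ (Commute g S.z → Commute n S.z)

/-- normal forms of inner elements -/
structure RA : Prop where
  red : ∀ y ∈ 𝒩(S.J), Commute y S.d → y ∉ S.J → (∃ e f, y * y = S.j 0 e f) → ∃ n ∈ 𝒩(S.J), Commute n S.d ∧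
    ((∃ a < 256, ap t0 a = a ∧ ∃ e f, n * y * n⁻¹ = X.κ * S.j a e f) ∨ ∃ e f, n * y * n⁻¹ = X.β * S.j 0 e f)
  red0 : ∀ a ∈ FF 85, ∀ e f, ∃ b < 256, ∃ e' f', S.s b * (X.κ * S.j a e f) * (S.s b)⁻¹ = X.κ * S.j 0 e' f'
  redw : ∀ a < 256, ap t0 a = a → qq a = false → a ∉ FF 85 → ∀ e f, ∃ n ∈ 𝒩(S.J), Commute n S.d ∧ ∃ e' f',
    n * (X.κ * S.j a e f) * n⁻¹ = X.κ * S.j 175 e' f'
  nf : ∀ y ∈ 𝒩(S.J), Commute y S.d → y ∉ S.J → y * y = 1 → ∃ n ∈ 𝒩(S.J), Commute n S.d ∧ ∃ e f,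
    n * y * n⁻¹ = X.κ * S.j 0 e f ∨ n * y * n⁻¹ = X.κ * S.j 175 e f ∨ n * y * n⁻¹ = X.β * S.j 0 e f
  sing : ∀ a, Iso a → ∀ e f, ∃ n ∈ 𝒩(S.J), Commute n S.d ∧ n * S.j a e f * n⁻¹ = S.j 85 false (f ^^ sg a)

/-- classes of involutions -/
structure RB : Prop where
  out : ∀ y ∈ 𝒩(S.J), y * y = 1 → ¬ Commute y S.d → X.K y S.z ∨ X.K y S.xh
  clJ : ∀ a, Iso a → ∀ e f, X.K (S.j a e f) (cond (f ^^ sg a) S.xh S.z)
  cld : ∀ e, X.K (S.j 0 e true) S.d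
  clκ : ∀ e f, X.K (X.κ * S.j 0 e f) (cond f S.z (cond e S.xh S.d))
  clw : ∀ e f, X.K (X.κ * S.j 175 e f) S.xh
  clβ : ∀ e f, X.K (X.β * S.j 0 e f) (cond (e && !f) S.z S.xh)
  all : ∀ y ∈ 𝒩(S.J), y * y = 1 → y ≠ 1 → X.K y S.z ∨ X.K y S.d ∨ X.K y S.xh

end XF

/-- the three classes are distinct -/
structure JB.D3 (S : JB G) : Prop where
  zd : ¬ IsConj S.z S.d
  zx : ¬ IsConj S.z S.xh
  dx : ¬ IsConj S.d S.xh

/-- `C(z) ∩ N(V)` normalises `I` -/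
def XF.NI {S : JB G} {m : Γ → ℕ} (X : XF S m) : Prop :=
  ∀ h ∈ 𝒩(X.V), Commute h S.z → ∀ y ∈ S.I, h * y * h⁻¹ ∈ S.I

/-- `J` is strongly closed in `C(z)` -/
def JB.SC (S : JB G) : Prop := ∀ y ∈ S.J, ∀ h, Commute h S.z → h * y * h⁻¹ ∈ 𝒩(S.J) → h * y * h⁻¹ ∈ S.J

/-- `C(z) = O(C(z)) N(J)` -/
def JB.H1 (S : JB G) : Prop :=
  ∀ h, Commute h S.z → ∃ o ∈ pPrimeCoreOf 2 (centralizer ({S.z} : Set G)), o * h ∈ 𝒩(S.J)

/-- the signalizer completion -/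
def SG1 {S : JB G} (D : PD S) : Prop := ∃ W : Subgroup G, Odd (Nat.card W) ∧
  pPrimeCoreOf 2 (centralizer ({S.z} : Set G)) ≤ W ∧ 𝒩(D.A) ≤ 𝒩(W) ∧ centralizer ({S.z} : Set G) ≤ 𝒩(W)

/-! ### statements -/

def SPM : Prop := ∀ (F : Type v) [Field F] [Fintype F], Fintype.card F = 2 → ∃ μ : PSp 3 F → ℕ, SpM μ

def MOD : Prop := ∀ (G : Type u) (Γ : Type v) [Group G] [Finite G] [Group Γ] (A : Subgroup G) (μ : Γ → ℕ)
  (ρ : 𝒩(A) →* Γ), SpM μ → (∀ a ∈ A, a * a = 1) → Nat.card A = 64 → Function.Surjective ρ →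
  (∀ n, ρ n = 1 ↔ (n : G) ∈ 𝒞(A)) →
  ∃ a, AC A a ∧ ∀ n : 𝒩(A), ∀ x < 64, (n : G) * a x * (n : G)⁻¹ = a (ap (μ (ρ n)) x)

def ASM : Prop := ∀ (G : Type u) (Γ : Type v) [Group G] [Finite G] [Group Γ] (A O K : Subgroup G) (μ : Γ → ℕ)
  (ρ : 𝒩(A) →* Γ) (a : ℕ → G), SpM μ → AC A a → Function.Surjective ρ → (∀ n, ρ n = 1 ↔ (n : G) ∈ 𝒞(A)) →
  (∀ n : 𝒩(A), ∀ x < 64, (n : G) * a x * (n : G)⁻¹ = a (ap (μ (ρ n)) x)) → Odd (Nat.card O) → O ⊔ A = 𝒞(A) →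
  𝒩(A) ≤ 𝒩(O) → K ⊔ (O ⊔ A) = 𝒩(A) → K ⊓ (O ⊔ A) = O → ∃ M : NM G, M.A = A

def U2 : Prop := ∀ (G : Type u) [Group G] [Finite G] (M : NM G) (E : Subgroup G), E ≤ M.T → (∀ a ∈ E, a * a = 1) →
  512 ≤ Nat.card E → E ≤ M.V0

def U3 : Prop := ∀ (G : Type u) [Group G] [Finite G] (M : NM G), ∀ y ∈ M.T, y * y = 1 →
  ∃ n ∈ 𝒩(M.A), n * y * n⁻¹ ∈ M.V0

def SY1 : Prop := U2.{u} → U3.{u} → ∀ (G : Type u) [Group G] [Finite G] (M : NM G), IsSylowIn 2 M.T ⊤ →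
  ∀ a ∈ M.A, ∀ g, g * a * g⁻¹ ∈ 𝒩(M.A) → g * a * g⁻¹ ∈ M.A

def GA : Prop := ∀ (G : Type u) [Group G] [Finite G] (M : NM G), oddCore G = ⊥ →
  (∀ a ∈ M.A, ∀ g, g * a * g⁻¹ ∈ 𝒩(M.A) → g * a * g⁻¹ ∈ M.A) → M.A.Normal

def GB : Prop := ∀ (X : Type u) [Group X] [Finite X] (V : Subgroup X) (b : X), (∀ v ∈ V, v * v = 1) →
  Nat.card V ≤ 512 → (∀ v ∈ V, ∀ g, g * v * g⁻¹ ∈ 𝒩(V) → g * v * g⁻¹ ∈ V) → b ∈ V → (∀ a ∈ 𝒩(V), a * b * a⁻¹ = b) →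
  (∀ u ∈ V, u ≠ 1 → u ≠ b → ∀ D : Set X, (∀ a ∈ 𝒩(V), a * u * a⁻¹ ∈ D ∧ a * u * a⁻¹ * b ∈ D) → 240 ≤ D.ncard) →
  (∃ u ∈ V, ∃ u' ∈ V, u ≠ 1 ∧ u ≠ b ∧ u' ≠ 1 ∧ u' ≠ b ∧ ∀ a ∈ 𝒩(V), a * u * a⁻¹ ≠ u' ∧ a * u * a⁻¹ ≠ u' * b) →
  ∀ g, ∀ v ∈ V, g * v * g⁻¹ ∈ V ⊔ pPrimeCore 2 X

def HOL : Prop := ∀ (G : Type u) [Group G] [Finite G] (z : G) (T A O W : Subgroup G), oddCore G = ⊥ →
  IsSylowIn 2 T ⊤ → z ≠ 1 → z ∈ A → A ≤ T → (∀ y ∈ T, Commute y z) →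
  (∀ u ∈ T, (∀ y ∈ T, Commute u y) → u = 1 ∨ u = z) → (∀ a ∈ A, a * a = 1) → (∀ u ∈ A, u ≠ 1 → IsConj z u) →
  Odd (Nat.card O) → O ≤ 𝒞(A) → 𝒞(A) ≤ O ⊔ A → (∃ x ∈ T, ∃ y ∈ T, IsConj z x ∧ IsConj z y ∧ ¬ Commute x y) →
  Odd (Nat.card W) → z ∈ 𝒩(W) → (∀ g, g * z * g⁻¹ ∈ 𝒩(W) → g ∈ 𝒩(W)) → W = ⊥

def PMX : Prop := ∀ (G : Type u) (Γ : Type) [Group G] [Finite G] [Group Γ] (m : Γ → ℕ) (M : NM G), Md m →
  (∃ σ, m σ = SG) → ∃ (S : JB G) (P : PM S m), P.A = M.A ∧ P.T = M.T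

def WL : Prop := ∀ (G : Type u) (Γ : Type) [Group G] [Finite G] [Group Γ] (S : JB G) (m : Γ → ℕ) (X : JM S m) (h : G),
  Commute h S.z → cj h S.J ≤ X.T → cj h S.J = S.J

def CFX : Prop := ∀ (G : Type u) (Γ : Type) [Group G] [Finite G] [Group Γ] (S : JB G) (m : Γ → ℕ) (P : PM S m),
  CF P.toPD

def G2A : Prop := WL.{u} → ∀ (G : Type u) (Γ : Type) [Group G] [Finite G] [Group Γ] (S : JB G) (m : Γ → ℕ)
  (P : PM S m), ¬ IsSylowIn 2 P.T ⊤ → SW P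

def G2E : Prop := ∀ (G : Type u) (Γ : Type) [Group G] [Finite G] [Group Γ] (S : JB G) (m : Γ → ℕ) (P : PM S m),
  CF P.toPD → SW P → ∃ n, S.Ac n R1

def G2F : Prop := ∀ (G : Type u) (Γ : Type) [Group G] [Finite G] [Group Γ] (S : JB G) (m : Γ → ℕ) (P : PM S m),
  CF P.toPD → (∃ n, S.Ac n R1) → ∃ X : XM S m, X.toPD = P.toPD

def G2G : Prop := ∀ (G : Type u) (Γ : Type) [Group G] [Finite G] [Group Γ] (S : JB G) (m : Γ → ℕ) (X : XM S m),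
  CF X.toPD → 𝒩(S.J) ≤ X.Nn

def SYX : Prop := WL.{u} → ∀ (G : Type u) (Γ : Type) [Group G] [Finite G] [Group Γ] (S : JB G) (m : Γ → ℕ)
  (X : XF S m), CF X.toPD → X.SY

def VX : Prop := ∀ (G : Type u) (Γ : Type) [Group G] [Finite G] [Group Γ] (S : JB G) (m : Γ → ℕ) (X : XF S m),
  X.SY → X.VV

def RAX : Prop := ∀ (G : Type u) (Γ : Type) [Group G] [Finite G] [Group Γ] (S : JB G) (m : Γ → ℕ) (X : XF S m), X.RA

def RBX : Prop := ∀ (G : Type u) (Γ : Type) [Group G] [Finite G] [Group Γ] (S : JB G) (m : Γ → ℕ) (X : XF S m),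
  X.RA → X.RB

def D3X : Prop := ∀ (G : Type u) (Γ : Type) [Group G] [Finite G] [Group Γ] (S : JB G) (m : Γ → ℕ) (X : XF S m),
  X.SY → X.VV → X.RA → X.RB → S.D3

def NIX : Prop := ∀ (G : Type u) (Γ : Type) [Group G] [Finite G] [Group Γ] (S : JB G) (m : Γ → ℕ) (X : XF S m),
  X.VV → X.RA → X.RB → S.D3 → X.NI

def SCX : Prop := ∀ (G : Type u) (Γ : Type) [Group G] [Finite G] [Group Γ] (S : JB G) (m : Γ → ℕ) (X : XF S m),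
  X.SY → X.VV → X.RA → X.RB → S.D3 → X.NI → S.SC

def GLX : Prop := GB.{u} → ∀ (G : Type u) (Γ : Type) [Group G] [Finite G] [Group Γ] (S : JB G) (m : Γ → ℕ)
  (X : XF S m), S.SC → S.H1

def SGX : Prop := ∀ (G : Type u) (Γ : Type) [Group G] [Finite G] [Group Γ] (S : JB G) (m : Γ → ℕ) (X : XF S m),
  S.H1 → SG1 X.toPD

def FNX : Prop := HOL.{u} → ∀ (G : Type u) (Γ : Type) [Group G] [Finite G] [Group Γ] (S : JB G) (m : Γ → ℕ)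
  (X : XF S m), oddCore G = ⊥ → X.SY → X.RB → S.D3 → S.H1 → SG1 X.toPD → Spor.IsoFi22 G

/-! ### first facts about codes -/

theorem tr_TC : ∀ x < 64, TC (tr x) := by decide +kernel

theorem tr_mul : ∀ x < 64, ∀ y < 64, mm (tr x) (tr y) = tr (x ^^^ y) := by decide +kernel

theorem tc_SP : ∀ w < 64, SP (tc w) ∧ mm (tc w) (tc w) = I8 ∧ ∀ x < 64, ap (tc w) x = x ^^^ cond (ff x w) w 0 := by
  decide +kernel

theorem vc_TC : ∀ n < 512, TC (vc n) ∧ ∀ i < 9, mm (vc n) (vc (2 ^ i)) = vc (n ^^^ 2 ^ i) := by decide +kernel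

theorem vc_tr : ∀ w < 8, vc w = tr w := by decide +kernel

end CL.F6
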