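/-
Project F6 (helper26): the group `J = 2 × 2^{1+8}` and the action of its normaliser.
-/
import Cfsg.Agent.F6.Defs

set_option autoImplicit false

namespace CL.F6

open Subgroup CL.Even CL.Grp CL.U6 CL.Fc CL.MT Cfsg

universe u

theorem be_zero : ∀ a < 256, be 0 a = false ∧ be a 0 = false := by decide +kernel

theorem l_zero : ∀ l < 256, (∀ a < 256, Iso a → BB a l = false) → l = 0 := by decide +kernel

theorem BB_ext {l l' : ℕ} (hl : l < 256) (hl' : l' < 256) (h : ∀ a < 256, Iso a → BB a l = BB a l') : l = l' :=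
  Nat.xor_eq_zero_iff.1 (l_zero _ (xor_lt hl hl') fun a ha hi => by rw [BB_xor' hl hl' ha, h a ha hi, Bool.xor_self])

theorem ex_BB : ∀ a < 256, a ≠ 0 → ∃ b < 256, BB a b = true := fun a ha h0 => by
  by_contra! h
  exact h0 (BB_nondeg a ha fun j hj => by simpa using h _ (Nat.pow_lt_pow_right (a := 2) (by omega) hj))

namespace JB

variable {G : Type u} [Group G] (S : JB G)

theorem s_zero : S.s 0 = 1 := by
  have := S.s_mul 0 (by omega) 0 (by omega)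
  rw [Nat.xor_self, (be_zero 0 (by omega)).1, zb_false, mul_one] at this
  exact mul_eq_left.1 this

theorem j_s (a : ℕ) : S.j a false false = S.s a := by simp [j, zb]

theorem j_one : S.j 0 false false = 1 := by rw [j_s, s_zero]

theorem j_z : S.j 0 true false = S.z := by simp [j, zb, s_zero]

theorem j_d : S.j 0 false true = S.d := by simp [j, zb, s_zero]

theorem j_zd : S.j 0 true true = S.z * S.d := by simp [j, zb, s_zero]

theorem j_xh : S.j 85 false true = S.xh := by simp [j, zb, xh, (S.ds 85 (by omega)).eq]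

theorem j_mul {a b : ℕ} (ha : a < 256) (hb : b < 256) (e f e' f' : Bool) :
    S.j a e f * S.j b e' f' = S.j (a ^^^ b) (be a b ^^ (e ^^ e')) (f ^^ f') := by
  have h1 := (zb_comm (S.ds b hb).symm f).eq
  have h2 := (zb_comm (S.zs b hb).symm e).eq
  have h3 : zb S.d f * zb S.z e' = zb S.z e' * zb S.d f := (zb_comm (zb_comm S.zd f).symm e').eq
  calc _ = S.s a * (zb S.z e * (zb S.d f * S.s b)) * zb S.z e' * zb S.d f' := by simp only [j, mul_assoc]
    _ = S.s a * S.s b * zb S.z e * (zb S.d f * zb S.z e') * zb S.d f' := by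
      rw [← h1, ← mul_assoc (zb S.z e), ← h2]; simp only [mul_assoc]
    _ = _ := by rw [h3, ← mul_assoc, zb_mul S.dd, S.s_mul a ha b hb, mul_assoc (S.s _ * _), ← one_mul (zb S.z e), zb_mul S.zz,
      one_mul, zb_mul S.zz, j]

theorem j_mul_z (a : ℕ) (e f : Bool) : S.j a e f * S.z = S.j a (!e) f := by
  rw [j, mul_assoc, ← (zb_comm S.zd f).eq, ← mul_assoc]
  cases e <;> simp [j, zb, mul_assoc, S.zz]

theorem j_mul_d (a : ℕ) (e f : Bool) : S.j a e f * S.d = S.j a e (!f) := by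
  cases f <;> simp [j, zb, mul_assoc, S.dd]

theorem j_mul_j0 {a : ℕ} (ha : a < 256) (e f e' f' : Bool) : S.j a e f * S.j 0 e' f' = S.j a (e ^^ e') (f ^^ f') := by
  rw [S.j_mul ha (by omega), Nat.xor_zero, (be_zero a ha).2, Bool.false_xor]

theorem j_sq {a : ℕ} (ha : a < 256) (e f : Bool) : S.j a e f * S.j a e f = S.j 0 (qq a) false := by
  rw [S.j_mul ha ha, Nat.xor_self, be_self ha]; simp

theorem j_inv {a : ℕ} (ha : a < 256) (e f : Bool) : (S.j a e f)⁻¹ = S.j a (e ^^ qq a) f :=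
  inv_eq_of_mul_eq_one_right (by rw [S.j_mul ha ha, Nat.xor_self, be_self ha, ← S.j_one]; cases e <;> simp)

theorem j_inj {a b : ℕ} (ha : a < 256) (hb : b < 256) {e f e' f' : Bool} (h : S.j a e f = S.j b e' f') :
    a = b ∧ e = e' ∧ f = f' := by
  have h1 := mul_inv_eq_one.2 h
  rw [S.j_inv hb, S.j_mul ha hb] at h1
  obtain ⟨h2, h3, h4⟩ := S.inj _ (xor_lt ha hb) _ _ h1
  obtain rfl := Nat.xor_eq_zero_iff.1 h2
  rw [be_self ha] at h3
  revert h3 h4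
  cases e <;> cases e' <;> cases f <;> cases f' <;> cases qq a <;> simp

theorem j_mem {a : ℕ} (ha : a < 256) (e f : Bool) : S.j a e f ∈ S.J := S.mem_J.2 ⟨a, ha, e, f, rfl⟩

theorem ex_j {y : G} (h : y ∈ S.J) : ∃ a < 256, ∃ e f, y = S.j a e f := S.mem_J.1 h

theorem s_mem {a : ℕ} (ha : a < 256) : S.s a ∈ S.J := S.j_s a ▸ S.j_mem ha _ _

theorem zJ : S.z ∈ S.J := S.j_z ▸ S.j_mem (by omega) _ _

theorem dJ : S.d ∈ S.J := S.j_d ▸ S.j_mem (by omega) _ _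

theorem z1 : S.z ≠ 1 := fun h => by simpa using S.j_inj (by omega) (by omega) (S.j_z.trans (h.trans S.j_one.symm))

theorem d1 : S.d ≠ 1 := fun h => by simpa using S.j_inj (by omega) (by omega) (S.j_d.trans (h.trans S.j_one.symm))

theorem dz : S.d ≠ S.z := fun h => by simpa using S.j_inj (by omega) (by omega) (S.j_d.trans (h.trans S.j_z.symm))

theorem ord_z : orderOf S.z = 2 := orderOf_eq_prime (by rw [pow_two, S.zz]) S.z1

theorem j_comm {a b : ℕ} (ha : a < 256) (hb : b < 256) (e f e' f' : Bool) :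
    Commute (S.j a e f) (S.j b e' f') ↔ BB a b = false := by
  rw [commute_iff_eq, S.j_mul ha hb, S.j_mul hb ha, Nat.xor_comm b, be_swap ha hb, Bool.xor_comm f', Bool.xor_comm e']
  refine ⟨fun h => ?_, fun h => by rw [h, Bool.xor_false]⟩
  have := (S.j_inj (xor_lt ha hb) (xor_lt ha hb) h).2.1
  revert this
  cases be a b <;> cases BB a b <;> simp

theorem j_conj {a b : ℕ} (ha : a < 256) (hb : b < 256) (e f e' f' : Bool) :
    S.j b e' f' * S.j a e f * (S.j b e' f')⁻¹ = S.j a (e ^^ BB a b) f := by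
  rw [mul_inv_eq_iff_eq_mul, S.j_mul ha hb, S.j_mul hb ha, Nat.xor_comm b, be_swap ha hb, Bool.xor_comm f']
  congr 1
  cases e <;> cases e' <;> cases BB a b <;> cases be a b <;> rfl

theorem J_j0 {y : G} (hy : y ∈ S.J) (e f : Bool) : Commute y (S.j 0 e f) := by
  obtain ⟨a, ha, e', f', rfl⟩ := S.ex_j hy
  exact (S.j_comm ha (by omega) ..).2 (BB_zero' a)

theorem Jz {y : G} (hy : y ∈ S.J) : Commute y S.z := S.j_z ▸ S.J_j0 hy _ _

theorem Jd {y : G} (hy : y ∈ S.J) : Commute y S.d := S.j_d ▸ S.J_j0 hy _ _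

theorem comm_j {c : G} {a : ℕ} (hz : Commute c S.z) (hd : Commute c S.d) (hs : Commute c (S.s a)) (e f : Bool) :
    Commute c (S.j a e f) := (hs.mul_right (zb_comm hz e)).mul_right (zb_comm hd f)

theorem J_sq {y : G} (hy : y ∈ S.J) : y * y = 1 ∨ y * y = S.z := by
  obtain ⟨a, ha, e, f, rfl⟩ := S.ex_j hy
  rw [S.j_sq ha]
  cases qq a
  exacts [.inl S.j_one, .inr S.j_z]

theorem sq_one {a : ℕ} (ha : a < 256) (e f : Bool) : S.j a e f * S.j a e f = 1 ↔ qq a = false := by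
  rw [S.j_sq ha, ← S.j_one]
  exact ⟨fun h => (S.j_inj (by omega) (by omega) h).2.1, fun h => by rw [h]⟩

theorem isP : IsPGroup 2 S.J := fun x => ⟨2, Subtype.ext (by
  have : ((x : G) * x) * (x * x) = 1 := by rcases S.J_sq x.2 with e | e <;> simp [e, S.zz]
  simpa [pow_succ, mul_assoc] using this)⟩

/-- the centre of `J` -/
theorem cent {y : G} (hy : y ∈ S.J) (h : ∀ b < 256, Commute y (S.s b)) : ∃ e f, y = S.j 0 e f := by
  obtain ⟨a, ha, e, f, rfl⟩ := S.ex_j hy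
  by_cases h0 : a = 0
  · exact ⟨e, f, h0 ▸ rfl⟩
  obtain ⟨b, hb, h1⟩ := ex_BB a ha h0
  simpa [h1] using (S.j_comm ha hb e f false false).1 (S.j_s b ▸ h b hb)

/-- a subgroup of `J` over a list of codes -/
theorem card_le {E : Subgroup G} {l : List ℕ} (h : ∀ y ∈ E, ∃ a ∈ l, ∃ e f, y = S.j a e f) :
    Nat.card E ≤ 4 * l.length := by
  classical
  have := Set.ncard_le_ncard (s := (E : Set G)) (t := ↑((l.toFinset ×ˢ (Finset.univ : Finset (Bool × Bool))).image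
    fun p => S.j p.1 p.2.1 p.2.2)) (fun y hy => by
      obtain ⟨a, ha, e, f, rfl⟩ := h y hy
      exact Finset.mem_coe.2 (Finset.mem_image.2 ⟨(a, e, f), by simpa using ha, rfl⟩)) (Finset.finite_toSet _)
  rw [Set.ncard_coe_finset] at this
  refine this.trans (Finset.card_image_le.trans ?_)
  rw [Finset.card_product, mul_comm]
  exact Nat.mul_le_mul (by simp) l.toFinset_card_le

theorem le_card [Finite G] {E : Subgroup G} {l : List ℕ} (hn : l.Nodup) (hl : ∀ a ∈ l, a < 256)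
    (h : ∀ a ∈ l, ∀ e f, S.j a e f ∈ E) : 4 * l.length ≤ Nat.card E := by
  classical
  have := Set.ncard_le_ncard_of_injOn (s := ((l.toFinset ×ˢ Finset.univ : Finset (ℕ × Bool × Bool)) : Set _)) (t := E)
    (fun p : ℕ × Bool × Bool => S.j p.1 p.2.1 p.2.2) (fun p hp => h _ (by simpa using hp) _ _) fun p hp p' hp' e => by
      obtain ⟨h1, h2, h3⟩ := S.j_inj (hl _ (by simpa using hp)) (hl _ (by simpa using hp')) e
      exact Prod.ext h1 (Prod.ext h2 h3)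
  rwa [Set.ncard_coe_finset, Finset.card_product, List.toFinset_card_of_nodup hn, mul_comm] at this

theorem card_J [Finite G] : Nat.card S.J = 1024 := by
  have h1 := S.card_le (E := S.J) (l := List.range 256) fun y hy => by simpa using S.ex_j hy
  have h2 := S.le_card (E := S.J) (l := List.range 256) List.nodup_range (by simp) fun a ha => S.j_mem (by simpa using ha)
  rw [List.length_range] at h1 h2
  omega

theorem mem_I {y : G} : y ∈ S.I ↔ ∃ a ∈ l0, ∃ e f, y = S.j a e f := by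
  refine ⟨fun h => closure_induction (fun _ h => h) ⟨0, by decide, _, _, S.j_one.symm⟩ ?_ ?_ h,
    fun h => subset_closure h⟩
  · rintro _ _ - - ⟨a, ha, e, f, rfl⟩ ⟨b, hb, e', f', rfl⟩
    exact ⟨_, ((l0_spec.2.1 a ha).2.2 b hb).1, _, _, S.j_mul (l0_spec.2.1 a ha).1 (l0_spec.2.1 b hb).1 ..⟩
  · rintro _ - ⟨a, ha, e, f, rfl⟩
    exact ⟨a, ha, _, _, S.j_inv (l0_spec.2.1 a ha).1 ..⟩

theorem j_I {a : ℕ} (ha : a ∈ l0) (e f : Bool) : S.j a e f ∈ S.I := S.mem_I.2 ⟨a, ha, e, f, rfl⟩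

theorem IJ : S.I ≤ S.J := fun _ h => by
  obtain ⟨a, ha, e, f, rfl⟩ := S.mem_I.1 h
  exact S.j_mem (l0_spec.2.1 a ha).1 ..

theorem I_cent : S.I ≤ 𝒞(S.I) := fun _ h _ h' => by
  obtain ⟨a, ha, e, f, rfl⟩ := S.mem_I.1 h
  obtain ⟨b, hb, e', f', rfl⟩ := S.mem_I.1 h'
  exact (S.j_comm (l0_spec.2.1 b hb).1 (l0_spec.2.1 a ha).1 ..).2 ((l0_spec.2.1 b hb).2.2 a ha).2

theorem mem_I_of {y : G} (hy : y ∈ S.J) (h : y ∈ 𝒞(S.I)) : y ∈ S.I := by
  obtain ⟨a, ha, e, f, rfl⟩ := S.ex_j hy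
  exact S.j_I (l0_spec.2.2 a ha (.inr fun b hb =>
    (S.j_comm (l0_spec.2.1 b hb).1 ha false false e f).1 (h _ (S.j_I hb false false)))) e f

theorem I_sq : ∀ y ∈ S.I, y * y = 1 := fun _ h => by
  obtain ⟨a, ha, e, f, rfl⟩ := S.mem_I.1 h
  exact (S.sq_one (l0_spec.2.1 a ha).1 ..).2 (l0_spec.2.1 a ha).2.1

theorem card_I [Finite G] : Nat.card S.I = 64 :=
  le_antisymm (S.card_le fun _ => S.mem_I.1) (S.le_card l0_spec.1 (fun a ha => (l0_spec.2.1 a ha).1) fun _ => S.j_I)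

/-- the extraspecial subgroup -/
def Q : Subgroup G where
  carrier := {y | ∃ a < 256, ∃ e, y = S.j a e false}
  one_mem' := ⟨0, by omega, _, S.j_one.symm⟩
  mul_mem' := by
    rintro _ _ ⟨a, ha, e, rfl⟩ ⟨b, hb, e', rfl⟩
    exact ⟨_, xor_lt ha hb, _, S.j_mul ha hb ..⟩
  inv_mem' := by
    rintro _ ⟨a, ha, e, rfl⟩
    exact ⟨a, ha, _, S.j_inv ha ..⟩

theorem QJ : S.Q ≤ S.J := by rintro _ ⟨a, ha, e, rfl⟩; exact S.j_mem ha ..

theorem card_Q : Nat.card S.Q = 512 := by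
  rw [show 512 = Nat.card (Fin 256 × Bool) by simp]
  exact (Nat.card_eq_of_bijective (fun p : Fin 256 × Bool => (⟨S.j p.1 p.2 false, p.1, p.1.2, _, rfl⟩ : S.Q))
    ⟨fun p q h => by
      obtain ⟨h1, h2, -⟩ := S.j_inj p.1.2 q.1.2 (congrArg Subtype.val h)
      exact Prod.ext (Fin.ext h1) h2, by rintro ⟨_, a, ha, e, rfl⟩; exact ⟨(⟨a, ha⟩, e), rfl⟩⟩).symm

theorem extra [Finite G] : IsExtraspecial 2 S.Q := by
  have hz : ∀ e, (⟨S.j 0 e false, 0, by omega, e, rfl⟩ : S.Q) ∈ center S.Q := fun e =>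
    mem_center_iff.2 fun y => Subtype.ext (S.J_j0 (S.QJ y.2) ..)
  refine isExtraspecial_of_center ?_ ?_ (fun h => ?_) (S.isP.to_le S.QJ)
  · rw [show 2 = Nat.card Bool by simp]
    refine (Nat.card_eq_of_bijective (fun e : Bool => (⟨_, hz e⟩ : center S.Q)) ⟨fun e e' h =>
      (S.j_inj (by omega) (by omega) (congrArg (fun x : center S.Q => ((x : S.Q) : G)) h)).2.1, ?_⟩).symm
    rintro ⟨⟨_, a, ha, e, rfl⟩, h⟩
    obtain ⟨e', f, h1⟩ := S.cent (S.j_mem ha e false) fun b hb =>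
      (congrArg Subtype.val (mem_center_iff.1 h ⟨_, b, hb, false, (S.j_s b).symm⟩)).symm
    obtain ⟨rfl, -⟩ := S.j_inj ha (by omega) h1
    exact ⟨e, rfl⟩
  · refine commutator_le.2 ?_
    rintro ⟨_, a, ha, e, rfl⟩ - ⟨_, b, hb, e', rfl⟩ -
    convert hz (BB b a) using 1
    refine Subtype.ext ?_
    simp only [commutatorElement_def, coe_mul, coe_inv]
    rw [S.j_conj hb ha, mul_inv_eq_iff_eq_mul, S.j_mul (by omega) hb, Nat.zero_xor, (be_zero b hb).1]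
    congr 1
    cases e' <;> simp
  · have := congrArg Subtype.val (h.1.1 ⟨_, 1, by omega, false, rfl⟩ ⟨_, 2, by omega, false, rfl⟩)
    exact absurd ((S.j_comm (by omega) (by omega) ..).1 this) (by decide +kernel)

/-- abelian subgroups of `J` -/
theorem ab_le [Finite G] {E : Subgroup G} (hE : E ≤ S.J) (ha : ∀ a ∈ E, ∀ b ∈ E, a * b = b * a) : Nat.card E ≤ 64 := by
  have h1 := extra_card_le_of_isMulCommutative S.extra (n := 4) S.card_Q (E.subgroupOf S.Q)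
    ⟨⟨fun a b => Subtype.ext (Subtype.ext (ha _ a.2 _ b.2))⟩⟩
  have h2 : S.Q.relIndex S.J = 2 := by
    have := (S.Q.subgroupOf S.J).card_mul_index
    rw [card_subgroupOf_of_le S.QJ, S.card_Q, S.card_J] at this
    exact Nat.eq_of_mul_eq_mul_left (show 0 < 512 by omega) this
  have h3 := relIndex_le_of_le_right hE (h2 ▸ two_ne_zero)
  have h4 := (S.Q.subgroupOf E).card_mul_index
  rw [← inf_subgroupOf_right, card_subgroupOf_of_le inf_le_right] at h1 h4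
  rw [inf_comm] at h1
  rw [inf_subgroupOf_right] at h4
  rw [h2] at h3
  rw [← h4]
  exact Nat.mul_le_mul h1 h3

/-! ### the normaliser -/

theorem Nz {n : G} (hn : n ∈ 𝒩(S.J)) : Commute n S.z := by
  have h1 : S.j 1 false false * S.j 1 false false = S.z := by rw [S.j_sq (by omega), ← S.j_z]; rfl
  rcases S.J_sq (conj_mem hn (S.j_mem (a := 1) (by omega) false false)) with h | h <;> rw [conj_mul, h1] at h
  exacts [(S.z1 (conj_eq_one_iff.1 h)).elim, mul_inv_eq_iff_eq_mul.1 h]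

theorem Nd {n : G} (hn : n ∈ 𝒩(S.J)) : ∃ c, n * S.d * n⁻¹ = S.d * zb S.z c := by
  obtain ⟨e, f, h⟩ := S.cent (conj_mem hn S.dJ) fun b hb => by
    simpa [mul_assoc] using commute_conj (g := n) (S.Jd (conj_mem (inv_mem hn) (S.s_mem hb))).symm
  cases f
  · cases e
    · exact (S.d1 (conj_eq_one_iff.1 (h.trans S.j_one))).elim
    · exact (S.dz (by simpa using h.trans (S.j_z.trans (conj_eq_of_commute (S.Nz hn)).symm))).elim
  · exact ⟨e, by rw [h, j, s_zero, one_mul]; exact (zb_comm S.zd.symm e).eq.symm⟩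

theorem conj_j0 {n : G} (hz : Commute n S.z) {c : Bool} (hd : n * S.d * n⁻¹ = S.d * zb S.z c) (e f : Bool) :
    n * S.j 0 e f * n⁻¹ = S.j 0 (e ^^ (f && c)) f := by
  rw [j, s_zero, one_mul, ← conj_mul, conj_eq_of_commute (zb_comm hz e)]
  cases f
  · simp [j, zb, s_zero]
  · rw [zb_true, hd, (zb_comm S.zd.symm c).eq, ← mul_assoc, ← one_mul (zb S.z e), zb_mul S.zz, j, s_zero]; rfl

variable {S}

theorem AcL.conj {n : G} {M l : ℕ} (h : S.AcL n M l) (hn : n ∈ 𝒩(S.J)) {a : ℕ} (ha : a < 256) (e f : Bool) :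
    ∃ e', n * S.j a e f * n⁻¹ = S.j (ap M a) e' (f ^^ BB a l) := by
  obtain ⟨e', h1⟩ := h a ha
  obtain ⟨c, h2⟩ := S.Nd hn
  exact ⟨_, by rw [show S.j a e f = S.s a * S.j 0 e f by rw [← S.j_s, S.j_mul_j0 ha]; simp, ← conj_mul, h1,
    S.conj_j0 (S.Nz hn) h2, S.j_mul_j0 (ap_lt _ _), Bool.xor_comm (BB a l)]⟩

theorem AcL.uniq {n : G} {M l M' l' : ℕ} (h : S.AcL n M l) (h' : S.AcL n M' l') {a : ℕ} (ha : a < 256) :
    ap M a = ap M' a ∧ BB a l = BB a l' := by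
  obtain ⟨e, h1⟩ := h a ha
  obtain ⟨e', h2⟩ := h' a ha
  have := S.j_inj (ap_lt _ _) (ap_lt _ _) (h1.symm.trans h2)
  exact ⟨this.1, this.2.2⟩

theorem AcL.eq {n : G} {M l M' l' : ℕ} (h : S.AcL n M l) (h' : S.AcL n M' l') (hM : M < 2 ^ 64) (hM' : M' < 2 ^ 64)
    (hl : l < 256) (hl' : l' < 256) : M = M' ∧ l = l' :=
  ⟨mat_ext hM hM' fun _ ha => (h.uniq h' ha).1, BB_ext hl hl' fun _ ha _ => (h.uniq h' ha).2⟩

theorem AcL.mul {n n' : G} {M l M' l' l'' : ℕ} (h : S.AcL n M l) (h' : S.AcL n' M' l') (hn : n ∈ 𝒩(S.J))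
    (hl : ∀ a < 256, BB a l'' = (BB a l' ^^ BB (ap M' a) l)) : S.AcL (n * n') (mm M M') l'' := fun a ha => by
  obtain ⟨e, h1⟩ := h' a ha
  obtain ⟨e', h2⟩ := h.conj hn (ap_lt M' a) e (BB a l')
  exact ⟨e', by rw [ap_mm, hl a ha, ← h2, ← h1]; group⟩

theorem ex_l (M' : ℕ) {l l' : ℕ} (hl : l < 256) (hl' : l' < 256) :
    ∃ l'' < 256, ∀ a < 256, BB a l'' = (BB a l' ^^ BB (ap M' a) l) := by
  obtain ⟨b, hb, h⟩ := exists_BB (l := fun a => (BB a l' ^^ BB (ap M' a) l)) fun a ha b hb => by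
    rw [ap_xor, BB_xor ha hb hl', BB_xor (ap_lt _ _) (ap_lt _ _) hl]
    cases BB a l' <;> cases BB b l' <;> simp
  exact ⟨b, hb, fun a ha => (h a ha).symm⟩

theorem AcL.qq {n : G} {M l : ℕ} (h : S.AcL n M l) (hn : n ∈ 𝒩(S.J)) {a : ℕ} (ha : a < 256) : qq (ap M a) = qq a := by
  obtain ⟨e, h1⟩ := h a ha
  have := S.j_sq (ap_lt M a) e (BB a l)
  rw [← h1, conj_mul, ← S.j_s, S.j_sq ha, S.conj_j0 (S.Nz hn) (S.Nd hn).choose_spec] at this
  simpa using (S.j_inj (by omega) (by omega) this).2.1.symm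

theorem AcL.iso {n : G} {M l : ℕ} (h : S.AcL n M l) (hn : n ∈ 𝒩(S.J)) {a : ℕ} (ha : Iso a) : Iso (ap M a) := by
  refine ⟨ap_lt _ _, fun h0 => ha.2.1 ?_, (h.qq hn ha.1).trans ha.2.2⟩
  obtain ⟨e, h1⟩ := h a ha.1
  obtain ⟨c, h2⟩ := S.Nd (inv_mem hn)
  have := S.conj_j0 (S.Nz (inv_mem hn)) h2 e (BB a l)
  rw [← h0, ← h1, h0, ← S.j_s] at this
  exact (S.j_inj ha.1 (by omega) (by simpa [mul_assoc] using this)).1

variable (S)

theorem exAc {n : G} (hn : n ∈ 𝒩(S.J)) : ∃ M < 2 ^ 64, ∃ l < 256, S.AcL n M l := by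
  choose! φ h1 e f h2 using fun a (ha : a < 256) => S.ex_j (conj_mem hn (S.s_mem ha))
  have h3 : ∀ a < 256, ∀ b < 256, φ (a ^^^ b) = φ a ^^^ φ b ∧ f (a ^^^ b) = (f a ^^ f b) := fun a ha b hb => by
    have h4 := conj_mul (a := S.s a) (c := S.s b) (b := n).symm
    rw [h2 a ha, h2 b hb, S.j_mul (h1 a ha) (h1 b hb), S.s_mul a ha b hb, zb_conj (S.Nz hn), h2 _ (xor_lt ha hb), show zb S.z (be a b) = S.j 0 (be a b) false by
      simp [j, s_zero, zb_false], S.j_mul_j0 (h1 _ (xor_lt ha hb))] at h4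
    have := S.j_inj (h1 _ (xor_lt ha hb)) (xor_lt (h1 a ha) (h1 b hb)) h4
    exact ⟨this.1, by simpa using this.2.2⟩
  obtain ⟨l, hl, h4⟩ := exists_BB (l := f) fun a ha b hb => (h3 a ha b hb).2
  exact ⟨U6.mk φ, mk_lt h1, l, hl, fun a ha => ⟨e a, by rw [ap_mk h1 (fun a ha b hb => (h3 a ha b hb).1) ha, ← h4 a ha,
    h2 a ha]⟩⟩

theorem sup_norm : S.J ⊔ 𝒞(S.J) ≤ 𝒩(S.J) := sup_le le_normalizer (centralizer_le_normalizer _)

/-- `J C(J)` acts trivially on `J / ⟨z⟩` -/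
theorem triv {n : G} (hn : n ∈ S.J ⊔ 𝒞(S.J)) : S.AcL n I8 0 ∧ Commute n S.d := by
  let K : Subgroup G :=
    { carrier := {n | n ∈ 𝒩(S.J) ∧ (∀ a < 256, ∀ e f, ∃ e', n * S.j a e f * n⁻¹ = S.j a e' f) ∧ Commute n S.d}
      one_mem' := ⟨one_mem _, fun a _ e f => ⟨e, by simp⟩, Commute.one_left _⟩
      mul_mem' := fun {x y} hx hy => ⟨mul_mem hx.1 hy.1, fun a ha e f => by
        obtain ⟨e1, h1⟩ := hy.2.1 a ha e f
        obtain ⟨e2, h2⟩ := hx.2.1 a ha e1 f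
        exact ⟨e2, by rw [← h2, ← h1]; group⟩, hx.2.2.mul_left hy.2.2⟩
      inv_mem' := fun {x} hx => ⟨inv_mem hx.1, fun a ha e f => by
        obtain ⟨b, hb, e1, f1, h1⟩ := S.ex_j (conj_mem (inv_mem hx.1) (S.j_mem ha e f))
        obtain ⟨e2, h2⟩ := hx.2.1 b hb e1 f1
        rw [← h1] at h2
        obtain ⟨rfl, -, rfl⟩ := S.j_inj ha hb (by simpa [mul_assoc] using h2)
        exact ⟨e1, h1⟩, hx.2.2.inv_left⟩ }
  have : S.J ⊔ 𝒞(S.J) ≤ K := sup_le (fun y hy => ⟨le_normalizer hy, fun a ha e f => by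
    obtain ⟨b, hb, e', f', rfl⟩ := S.ex_j hy
    exact ⟨_, S.j_conj ha hb ..⟩, S.Jd hy⟩) fun y hy => ⟨centralizer_le_normalizer _ hy,
      fun a ha e f => ⟨e, conj_eq_of_commute (hy _ (S.j_mem ha e f)).symm⟩, (hy _ S.dJ).symm⟩
  exact ⟨fun a ha => by simpa [ap_I8 a ha, BB_zero', j_s] using (this hn).2.1 a ha false false, (this hn).2.2⟩

theorem ac_one {n : G} (hn : n ∈ S.J ⊔ 𝒞(S.J)) : S.Ac n I8 :=
  ⟨S.Nz (S.sup_norm hn), by rw [conj_eq_of_commute (S.triv hn).2]; exact (mul_one _).symm, 0,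
    ⟨by omega, fun a ha _ => by rw [ap_I8 a ha, BB_zero', Bool.xor_self]⟩, (S.triv hn).1⟩

/-- an element which acts trivially on `J / ⟨z⟩` and fixes `d` -/
theorem mem_sup_cent {n : G} (hn : n ∈ 𝒩(S.J)) (h : S.AcL n I8 0) (hd : Commute n S.d) :
    ∃ y ∈ S.J, y⁻¹ * n ∈ 𝒞(S.J) := by
  choose! e h1 using h
  have h2 : ∀ a < 256, n * S.s a * n⁻¹ = S.j a (e a) false := fun a ha => by rw [h1 a ha, ap_I8 a ha, BB_zero']
  obtain ⟨b, hb, h3⟩ := exists_BB (l := e) fun a ha b hb => by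
    have h4 := conj_mul (a := S.s a) (c := S.s b) (b := n).symm
    rw [h2 a ha, h2 b hb, S.j_mul ha hb, S.s_mul a ha b hb, zb_conj (S.Nz hn), h2 _ (xor_lt ha hb), show zb S.z (be a b) = S.j 0 (be a b) false by
      simp [j, s_zero, zb_false], S.j_mul_j0 (xor_lt ha hb)] at h4
    have := (S.j_inj (xor_lt ha hb) (xor_lt ha hb) h4).2.1
    revert this
    cases e (a ^^^ b) <;> cases be a b <;> simp
  refine ⟨S.s b, S.s_mem hb, fun y hy => ?_⟩
  obtain ⟨a, ha, e', f, rfl⟩ := S.ex_j hy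
  refine (S.comm_j ((S.zs b hb).symm.inv_left.mul_left (S.Nz hn)) ((S.ds b hb).symm.inv_left.mul_left hd) ?_ e' f).symm
  have h4 := S.j_conj ha hb false false false false
  rw [Bool.false_xor, ← h3 a ha, ← h2 a ha, j_s, j_s] at h4
  rw [commute_iff_eq, ← mul_inv_eq_iff_eq_mul, mul_inv_rev, inv_inv, mul_assoc, mul_assoc, inv_mul_eq_iff_eq_mul,
    ← mul_assoc, ← mul_assoc, ← h4, inv_mul_cancel_right]

variable {S} {Γ : Type} [Group Γ] {m : Γ → ℕ}

theorem Ac.norm [Finite G] {n : G} {M : ℕ} (h : S.Ac n M) : n ∈ 𝒩(S.J) := mem_normalizer_fintype fun y hy => by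
  obtain ⟨a, ha, e, f, rfl⟩ := S.ex_j hy
  obtain ⟨hz, hd, l, -, h⟩ := h
  obtain ⟨e', h1⟩ := h a ha
  rw [show S.j a e f = S.s a * S.j 0 e f by rw [← S.j_s, S.j_mul_j0 ha]; simp, ← conj_mul, h1, S.conj_j0 hz hd]
  exact mul_mem (S.j_mem (ap_lt _ _) ..) (S.j_mem (by omega) ..)

theorem Ac.conj [Finite G] {n : G} {M : ℕ} (h : S.Ac n M) {a : ℕ} (ha : a < 256) (e f : Bool) :
    ∃ e' f', n * S.j a e f * n⁻¹ = S.j (ap M a) e' f' ∧ (Iso a → (f' ^^ sg (ap M a)) = (f ^^ sg a)) := by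
  obtain ⟨l, hl, h1⟩ := h.2.2
  obtain ⟨e', h2⟩ := h1.conj h.norm ha e f
  exact ⟨e', _, h2, fun hi => by rw [hl.2 a ha hi]; simp⟩

theorem Ac.eq {n : G} {M M' : ℕ} (h : S.Ac n M) (h' : S.Ac n M') (hM : M < 2 ^ 64) (hM' : M' < 2 ^ 64) : M = M' := by
  obtain ⟨l, hl, h1⟩ := h.2.2
  obtain ⟨l', hl', h2⟩ := h'.2.2
  exact (h1.eq h2 hM hM' hl.1 hl'.1).1

theorem Ac.comm_d {n : G} {M : ℕ} (h : S.Ac n M) : Commute n S.d ↔ sl M = false := by
  rw [commute_iff_eq, ← mul_inv_eq_iff_eq_mul, h.2.1, mul_eq_left]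
  exact ⟨fun e => zb_inj S.z1 e, fun e => by rw [e]; rfl⟩

theorem Ac.mul [Finite G] (md : Md m) {n n' : G} {γ γ' : Γ} (h : S.Ac n (m γ)) (h' : S.Ac n' (m γ')) :
    S.Ac (n * n') (m (γ * γ')) := by
  obtain ⟨l, hl, h1⟩ := h.2.2
  obtain ⟨l', hl', h2⟩ := h'.2.2
  obtain ⟨l'', h3, h4⟩ := ex_l (m γ') hl.1 hl'.1
  refine ⟨h.1.mul_left h'.1, ?_, l'', ⟨h3, fun a ha hi => ?_⟩, md.mul γ γ' ▸ h1.mul h2 h.norm h4⟩
  · rw [md.sl_mul, ← zb_mul S.zz, ← h.2.1, ← zb_conj h.1, ← h'.2.1]; group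
  · rw [h4 a ha, hl'.2 a ha hi, hl.2 _ (ap_lt _ _) (md.iso γ' hi), md.ap_mul]; simp

theorem Ac.inv [Finite G] (md : Md m) {n : G} {γ : Γ} (h : S.Ac n (m γ)) : S.Ac n⁻¹ (m γ⁻¹) := by
  have := md.finite
  have k : ∀ i : ℕ, S.Ac (n ^ i) (m (γ ^ i)) := fun i => by
    induction i with
    | zero => rw [pow_zero, pow_zero, md.one]; exact S.ac_one (one_mem _)
    | succ i ih => rw [pow_succ, pow_succ]; exact ih.mul md h
  have h1 := Nat.mul_pos (orderOf_pos n) (orderOf_pos γ)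
  have := k (orderOf n * orderOf γ - 1)
  rwa [pow_sub _ h1, pow_sub _ h1, pow_mul, pow_orderOf_eq_one, mul_comm (orderOf n), pow_mul, pow_orderOf_eq_one,
    one_pow, one_pow, one_mul, one_mul, pow_one, pow_one] at this

end JB

end CL.F6
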