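/-
Project F6 (helper26): first facts about `J0`, `CM` and the group `Γ`.
-/
import Cfsg.Agent.F6.JB

set_option autoImplicit false

namespace CL.F6

open Subgroup CL.Even CL.Grp CL.U6 CL.Fc CL.MT Cfsg

universe u

/-- the 36 reflections -/
def RF : List ℕ := [72629392164012160, 144964045682802880, 216467469216301120, 290484388955693104,
  579839562285584416, 865820334417260560, 1161999622395332620, 1525113403515037884, 1597448057033828604,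
  1668951480567326844, 1814468576844929196, 1886803230363719916, 1958306653897218156, 2100449348976605340,
  2172784002495396060, 2244287426028894300, 2319495370234790920, 2682609151354496184, 2754943804873286904,
  2826447228406785144, 2971964324684387496, 3044298978203178216, 3115802401736676456, 3257945096816063640,
  3330279750334854360, 3401783173868352600, 3463479494608751620, 3826593275728456884, 3898927929247247604,
  3970431352780745844, 4115948449058348196, 4188283102577138916, 4259786526110637156, 4401929221190024340,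
  4474263874708815060, 4545767298242313300]

theorem RF_conj : ∀ B ∈ SG :: TV, ∀ A ∈ RF, mm (mm B A) B ∈ RF := by decide +kernel

theorem RF_T2 : ∀ A ∈ RF, A ∈ T2 → A ∈ [c0, s1, s3, s5] := by decide +kernel

theorem cp_consts : (∀ l < 256, Cp c0 l → l = 0) ∧ (∀ l < 256, Cp t0 l → l = 85) ∧ (∀ l < 256, Cp b0 l → l = 0) ∧
    sl c0 = true ∧ sl t0 = false ∧ sl b0 = false ∧ sg 85 = false := by
  unfold Cp; decide +kernel

theorem fix_lists : ∀ A ∈ [t0, b0, c0, SG], ((List.range 256).filter fun a => ap A a == a).length =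
    if A = t0 then 64 else 16 := by decide +kernel

variable {G : Type u} {Γ : Type} [Group G] [Group Γ] {m : Γ → ℕ}

theorem rf_conj (md : Md m) (δ : Γ) {γ : Γ} (h : m γ ∈ RF) : m (δ * γ * δ⁻¹) ∈ RF := by
  have k : ∀ δ, m δ ∈ SG :: TV → δ * δ = 1 → ∀ γ, m γ ∈ RF → m (δ * γ * δ⁻¹) ∈ RF := fun δ h1 h2 γ h3 => by
    rw [inv_eq_of_mul_eq_one_right h2, md.mul, md.mul]; exact RF_conj _ h1 _ h3
  have k2 : ∀ δ ∈ LL m, ∀ γ, m γ ∈ RF → m (δ * γ * δ⁻¹) ∈ RF ∧ m (δ⁻¹ * γ * δ⁻¹⁻¹) ∈ RF := fun δ hδ =>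
    closure_induction (p := fun δ _ => ∀ γ, m γ ∈ RF → m (δ * γ * δ⁻¹) ∈ RF ∧ m (δ⁻¹ * γ * δ⁻¹⁻¹) ∈ RF)
      (fun δ hδ γ h => by
        obtain ⟨v, hv, e⟩ := hδ
        have := k δ (.tail _ (e ▸ (tv_mem v hv.1 hv).1)) (md.tv_sq hv e) γ h
        have e2 : δ⁻¹ = δ := inv_eq_of_mul_eq_one_right (md.tv_sq hv e)
        exact ⟨this, by rw [e2]; exact this⟩)
      (fun γ h => by simpa using h)
      (fun a b _ _ ha hb γ h => ⟨by simpa [mul_assoc] using (ha _ (hb γ h).1).1,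
        by simpa [mul_assoc] using (hb _ (ha γ h).2).2⟩)
      (fun a _ ha γ h => ⟨(ha γ h).2, by simpa using (ha γ h).1⟩) hδ
  cases hs : sl (m δ)
  · exact (k2 δ (md.gen δ hs) γ h).1
  · obtain ⟨σ, hσ⟩ := md.out.resolve_left fun e => by simp [e] at hs
    have := (k2 (δ * σ⁻¹) (md.gen _ (by rw [md.sl_mul, md.sl_inv, hs, hσ]; decide +kernel)) _
      (k σ (hσ ▸ .head _) (md.eq_one_iff.1 (by rw [md.mul, hσ]; decide +kernel)) γ h)).1
    simpa [mul_assoc] using this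

/-- recognition of reflections -/
theorem mem_RF (md : Md m) {γ : Γ} (h2 : γ * γ = 1) (hs : sl (m γ) = true)
    (hf : ∀ a < 256, ap (m γ) a = a → qq a = false) : m γ ∈ RF := by
  rcases md.types h2 with rfl | ⟨v, hv, e⟩ | h | ⟨δ, h⟩ | ⟨δ, h⟩
  · simp [md.sl_one] at hs
  · simp [e, sl_tv v hv.1 hv.2.2] at hs
  · simp [h.sl md, cp_consts.2.2.2.2.2.1] at hs
  · simpa [mul_assoc] using rf_conj md δ⁻¹ (γ := δ * γ * δ⁻¹) (by rw [h]; decide +kernel)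
  · have := hf (ap (m δ⁻¹) 1) (ap_lt _ _) (md.ap_inj δ (ap_lt _ _) (ap_lt _ _) (by
      rw [← md.ap_mul, ← md.ap_mul, h, md.ap_inv' δ (by omega)]; decide +kernel))
    rw [md.qinv _ _ (by omega)] at this
    exact absurd this (by decide +kernel)

theorem fix_cj (md : Md m) {γ : Γ} {A : ℕ} (h : Cj m γ A) : ∃ l : List ℕ,
    l.length = ((List.range 256).filter fun a => ap A a == a).length ∧ ∀ a < 256, ap (m γ) a = a → a ∈ l := by
  obtain ⟨δ, h⟩ := h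
  refine ⟨((List.range 256).filter fun a => ap A a == a).map (ap (m δ⁻¹)), List.length_map _, fun a ha e =>
    List.mem_map.2 ⟨ap (m δ) a, List.mem_filter.2 ⟨List.mem_range.2 (ap_lt _ _), ?_⟩, md.ap_inv δ ha⟩⟩
  rw [beq_iff_eq, ← h, md.ap_mul, md.ap_mul, md.ap_inv δ ha, e]

theorem tv_cj (md : Md m) {γ : Γ} (h : Tv m γ) : ∃ δ ∈ LL m, m (δ * γ * δ⁻¹) = t0 := by
  obtain ⟨v, hv, e⟩ := h
  obtain ⟨δ, h1, h2⟩ := md.exists_85 hv
  exact ⟨δ, h1, by rw [md.tv_conj δ hv.1 e, h2, tv_85]⟩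

/-- fixed vectors of involutions -/
theorem fix_le (md : Md m) {γ : Γ} (h2 : γ * γ = 1) (h1 : γ ≠ 1) : ∃ l : List ℕ,
    (l.length = 16 ∨ (Tv m γ ∧ l.length = 64)) ∧ ∀ a < 256, ap (m γ) a = a → a ∈ l := by
  rcases md.types h2 with h | h | h | h | h
  · exact (h1 h).elim
  · obtain ⟨δ, -, e⟩ := tv_cj md h
    obtain ⟨l, h3, h4⟩ := fix_cj md ⟨δ, e⟩
    exact ⟨l, .inr ⟨h, h3.trans (fix_lists _ (by simp))⟩, h4⟩
  all_goals
    obtain ⟨l, h3, h4⟩ := fix_cj md h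
    exact ⟨l, .inl (h3.trans (fix_lists _ (by simp))), h4⟩

theorem two_odd {x : G} {k : ℕ} {O : Subgroup G} (hO : Odd (Nat.card O)) (hx : x ∈ O) (h : x ^ 2 ^ k = 1) : x = 1 :=
  orderOf_eq_one_iff.1 (Nat.eq_one_of_self_mul_coprime' (orderOf_dvd_of_pow_eq_one h) (O.orderOf_dvd_natCard hx) hO)
where Nat.eq_one_of_self_mul_coprime' {a k n : ℕ} (h1 : a ∣ 2 ^ k) (h2 : a ∣ n) (h3 : Odd n) : a = 1 :=
  Nat.eq_one_of_dvd_coprimes (Nat.Coprime.pow_left k (Nat.coprime_two_left.2 h3)) h1 h2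

theorem ex_mul {P O : Subgroup G} (h : P ≤ 𝒩(O)) {y : G} (hy : y ∈ P ⊔ O) : ∃ p ∈ P, ∃ o ∈ O, y = p * o := by
  have : y ∈ ((P ⊔ O : Subgroup G) : Set G) := hy
  rw [coe_mul_of_left_le_normalizer_right P O h] at this
  obtain ⟨p, hp, o, ho, rfl⟩ := this
  exact ⟨p, hp, o, ho, rfl⟩

/-- 2-elements of `P × O` -/
theorem two_mem {P O : Subgroup G} (hP : IsPGroup 2 P) (hO : Odd (Nat.card O)) (h : O ≤ 𝒞(P)) {y : G} (hy : y ∈ P ⊔ O)
    {k : ℕ} (h2 : y ^ 2 ^ k = 1) : y ∈ P := by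
  obtain ⟨p, hp, o, ho, rfl⟩ := ex_mul (fun p hp => centralizer_le_normalizer _ fun o ho => (h ho p hp).symm) hy
  obtain ⟨i, hi⟩ := hP ⟨p, hp⟩
  have hc : Commute p o := h ho p hp
  have h3 : (p * o) ^ 2 ^ (k + i) = 1 := by rw [pow_add, pow_mul, h2, one_pow]
  rw [hc.mul_pow, add_comm, pow_add, pow_mul p, show p ^ 2 ^ i = 1 from congrArg Subtype.val hi, one_pow, one_mul,
    ← pow_add] at h3
  rwa [two_odd hO ho h3, mul_one]

theorem IsPGroup.pw {P : Subgroup G} (hP : IsPGroup 2 P) {y : G} (hy : y ∈ P) : ∃ k, y ^ 2 ^ k = 1 :=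
  (hP ⟨y, hy⟩).imp fun _ h => congrArg Subtype.val h

namespace J0

variable {S : JB G} (X : J0 S m)

theorem TN {y : G} (h : y ∈ X.T) : y ∈ X.Nn := X.syl.le h

theorem JN {y : G} (h : y ∈ S.J) : y ∈ X.Nn := X.TN (X.JT h)

theorem r_J {y : G} (h : y ∈ S.J) : X.r y = 1 := (X.r_eq (X.JN h)).2 (mem_sup_left h)

theorem r_O {y : G} (h : y ∈ X.O1) : X.r y = 1 := (X.r_eq (X.ON h)).2 (mem_sup_right h)

theorem r_one : X.r 1 = 1 := X.r_J (one_mem _)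

theorem r_inv {a : G} (ha : a ∈ X.Nn) : X.r a⁻¹ = (X.r a)⁻¹ :=
  eq_inv_of_mul_eq_one_left (by rw [← X.r_mul (inv_mem ha) ha, inv_mul_cancel, X.r_one])

theorem r_conj {a b : G} (ha : a ∈ X.Nn) (hb : b ∈ X.Nn) : X.r (a * b * a⁻¹) = X.r a * X.r b * (X.r a)⁻¹ := by
  rw [X.r_mul (mul_mem ha hb) (inv_mem ha), X.r_mul ha hb, X.r_inv ha]

theorem Nz {n : G} (h : n ∈ X.Nn) : Commute n S.z := (X.ac h).1

theorem comm_d {n : G} (h : n ∈ X.Nn) : Commute n S.d ↔ sl (m (X.r n)) = false := (X.ac h).comm_d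

theorem NJ [Finite G] {n : G} (h : n ∈ X.Nn) : n ∈ 𝒩(S.J) := (X.ac h).norm

theorem act [Finite G] {n : G} (h : n ∈ X.Nn) {a : ℕ} (ha : a < 256) (e f : Bool) : ∃ e' f',
    n * S.j a e f * n⁻¹ = S.j (ap (m (X.r n)) a) e' f' ∧ (Iso a → (f' ^^ sg (ap (m (X.r n)) a)) = (f ^^ sg a)) :=
  (X.ac h).conj ha e f

theorem r_of_ac {n : G} (h : n ∈ X.Nn) {γ : Γ} (h1 : S.Ac n (m γ)) : X.r n = γ :=
  X.md.inj ((X.ac h).eq h1 (X.md.lt _) (X.md.lt _))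

theorem r_triv {n : G} (h : n ∈ X.Nn) (h1 : n ∈ S.J ⊔ 𝒞(S.J)) : X.r n = 1 := X.r_of_ac h (X.md.one ▸ S.ac_one h1)

theorem fix [Finite G] {n : G} (h : n ∈ X.Nn) {a : ℕ} (ha : a < 256) {e f e' f' : Bool}
    (h1 : n * S.j a e f * n⁻¹ = S.j a e' f') : ap (m (X.r n)) a = a := by
  obtain ⟨_, _, h2, -⟩ := X.act h ha e f
  exact (S.j_inj (ap_lt _ _) ha (h2.symm.trans h1)).1

theorem mem_J {y : G} (h : y ∈ X.Nn) (h1 : X.r y = 1) {k : ℕ} (h2 : y ^ 2 ^ k = 1) : y ∈ S.J :=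
  two_mem S.isP X.odd1 X.OJ1 ((X.r_eq h).1 h1) h2

theorem mem_J_of_T {y : G} (h : y ∈ X.T) (h1 : X.r y = 1) : y ∈ S.J :=
  let ⟨_, hk⟩ := IsPGroup.pw X.syl.isPGroup h
  X.mem_J (X.TN h) h1 hk

theorem eq_mul {y y' : G} (h : y ∈ X.T) (h' : y' ∈ X.T) (e : X.r y = X.r y') : ∃ a < 256, ∃ e f, y = y' * S.j a e f := by
  obtain ⟨a, ha, e, f, h1⟩ := S.ex_j (X.mem_J_of_T (mul_mem (inv_mem h') h) (by
    rw [X.r_mul (inv_mem (X.TN h')) (X.TN h), X.r_inv (X.TN h'), e, inv_mul_cancel]))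
  exact ⟨a, ha, e, f, inv_mul_eq_iff_eq_mul.1 h1⟩

/-- 2-subgroups over `r T` are moved into `T` by `O1` -/
theorem lift0 [Finite G] {P : Subgroup G} (hP : IsPGroup 2 P) (hN : P ≤ X.Nn) (h : ∀ p ∈ P, ∃ y ∈ X.T, X.r y = X.r p) :
    ∃ o ∈ X.O1, ∀ p ∈ P, o * p * o⁻¹ ∈ X.T := by
  obtain ⟨k, hk, h1⟩ := syl_conj_le (X.syl.of_le le_sup_left (sup_le X.syl.le X.ON)) hP (U := P) fun p hp => by
    obtain ⟨y, hy, e⟩ := h p hp
    have := (X.r_eq (mul_mem (inv_mem (X.TN hy)) (hN hp))).1 (by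
      rw [X.r_mul (inv_mem (X.TN hy)) (hN hp), X.r_inv (X.TN hy), e, inv_mul_cancel])
    simpa using mul_mem (mem_sup_left hy) (sup_le_sup_right X.JT _ this)
  obtain ⟨y, hy, o, ho, rfl⟩ := ex_mul (X.syl.le.trans X.nO1) hk
  exact ⟨o, ho, fun p hp => by
    simpa [mul_assoc] using mul_mem (mul_mem (inv_mem hy) (h1 (conj_mem_cj (y * o) hp))) hy⟩

/-- one 2-element -/
theorem lift1 [Finite G] {p y : G} (hp : p ∈ X.Nn) {k : ℕ} (h2 : p ^ 2 ^ k = 1) (hy : y ∈ X.T) (e : X.r y = X.r p) :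
    ∃ o ∈ X.O1, ∃ a < 256, ∃ e f, o * p * o⁻¹ = y * S.j a e f := by
  obtain ⟨o, ho, h⟩ := X.lift0 (P := zpowers p) (IsPGroup.of_card_dvd_pow (n := k) (by
    rw [Nat.card_zpowers]; exact orderOf_dvd_of_pow_eq_one h2)) (zpowers_le.2 hp) fun q hq => by
      obtain ⟨i, rfl⟩ := (mem_powers_iff_mem_zpowers.2 hq : ∃ i : ℕ, _)
      refine ⟨y ^ i, pow_mem hy i, ?_⟩
      have k : ∀ i : ℕ, X.r (y ^ i) = X.r (p ^ i) := fun i => by
        induction i with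
        | zero => simp
        | succ i ih => rw [pow_succ, pow_succ, X.r_mul (pow_mem (X.TN hy) i) (X.TN hy), X.r_mul (pow_mem hp i) hp,
          ih, e]
      exact k i
  exact ⟨o, ho, X.eq_mul (h p (mem_zpowers p)) hy (by rw [X.r_conj (X.ON ho) hp, X.r_O ho, e]; simp)⟩

theorem exists_im [Finite G] {E : Subgroup G} (hE : E ≤ X.Nn) (h2 : IsPGroup 2 E) : ∃ I : Subgroup Γ,
    (∀ γ, γ ∈ I ↔ ∃ a ∈ E, X.r a = γ) ∧ Nat.card E = Nat.card (E ⊓ S.J : Subgroup G) * Nat.card I := by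
  let f : E →* Γ := MonoidHom.mk' (fun a => X.r a) fun a b => X.r_mul (hE a.2) (hE b.2)
  refine ⟨f.range, fun γ => ⟨fun ⟨a, e⟩ => ⟨a, a.2, e⟩, fun ⟨a, ha, e⟩ => ⟨⟨a, ha⟩, e⟩⟩, ?_⟩
  rw [← index_ker, ← card_subgroupOf_of_le (inf_le_left : E ⊓ S.J ≤ E), inf_subgroupOf_left,
    show S.J.subgroupOf E = f.ker from Subgroup.ext fun a => ⟨fun h => X.r_J h, fun h =>
      let ⟨_, hk⟩ := IsPGroup.pw h2 a.2
      X.mem_J (hE a.2) h hk⟩, card_mul_index]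

end J0

namespace CM

variable {S : JB G} (C : CM S m)

theorem tA : C.t ∈ C.A := C.memA.2 ⟨0, by decide, false, true, by simp [zb, S.s_zero]⟩

theorem jA {a : ℕ} (ha : a ∈ W0) (e : Bool) : S.j a e false ∈ C.A := C.memA.2 ⟨a, ha, e, false, rfl⟩

theorem zA : S.z ∈ C.A := S.j_z ▸ C.jA (by decide) _

theorem tT : C.t ∈ C.T := C.AT C.tA

theorem tt : C.t * C.t = 1 := C.Asq _ C.tA

theorem act_t : S.AcL C.t c0 0 ∧ C.t * S.d * C.t⁻¹ = S.d * S.z := by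
  obtain ⟨-, h1, l, h2, h3⟩ := C.rt ▸ C.ac (C.toJ0.TN C.tT)
  exact ⟨cp_consts.1 l h2.1 h2 ▸ h3, by rw [h1, cp_consts.2.2.2.1]; rfl⟩

theorem act_κ : S.AcL C.κ t0 85 ∧ Commute C.κ S.z ∧ Commute C.κ S.d := by
  have h := C.rκ ▸ C.ac (C.toJ0.TN C.κT)
  obtain ⟨l, h2, h3⟩ := h.2.2
  exact ⟨cp_consts.2.1 l h2.1 h2 ▸ h3, h.1, h.comm_d.2 cp_consts.2.2.2.2.1⟩

theorem act_β : S.AcL C.β b0 0 ∧ Commute C.β S.z ∧ Commute C.β S.d := by
  have h := C.rβ ▸ C.ac (C.toJ0.TN C.βT)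
  obtain ⟨l, h2, h3⟩ := h.2.2
  exact ⟨cp_consts.2.2.1 l h2.1 h2 ▸ h3, h.1, h.comm_d.2 cp_consts.2.2.2.2.2.1⟩

theorem not_td : ¬ Commute C.t S.d := fun h =>
  S.z1 (mul_eq_left.1 (C.act_t.2.symm.trans (conj_eq_of_commute h)))

theorem κj {a : ℕ} (ha : a < 256) (h : ap t0 a = a) (e f : Bool) : Commute C.κ (S.j a e f) :=
  S.comm_j C.act_κ.2.1 C.act_κ.2.2 (C.κs a ha h) e f

theorem βj {a : ℕ} (ha : a ∈ l0) (e f : Bool) : Commute C.β (S.j a e f) :=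
  S.comm_j C.act_β.2.1 C.act_β.2.2 (C.βs a ha) e f

theorem A_comm {a b : G} (ha : a ∈ C.A) (hb : b ∈ C.A) : Commute a b := Md.comm_of_sq C.Asq ha hb

theorem ex_A {y : G} (hy : y ∈ C.A) : ∃ a ∈ W0, ∃ e, y = S.j a e false ∨ y = S.j a e false * C.t := by
  obtain ⟨a, ha, e, f, rfl⟩ := C.memA.1 hy
  exact ⟨a, ha, e, by cases f <;> simp [JB.j, zb]⟩

/-- the involutions in `t J` -/
theorem inv_t [Finite G] {y : G} (hy : y ∈ S.J) (h : C.t * y * (C.t * y) = 1) : y ∈ C.A := by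
  obtain ⟨a, ha, e, f, rfl⟩ := S.ex_j hy
  have ti : C.t⁻¹ = C.t := inv_eq_of_mul_eq_one_right C.tt
  have hn := C.toJ0.NJ (C.toJ0.TN C.tT)
  obtain ⟨e', h1⟩ := C.act_t.1.conj hn ha e f
  have h2 : S.j (ap c0 a) e' (f ^^ BB a 0) * S.j a e f = 1 := by rw [← h1, ti, ← h]; group
  rw [S.j_mul (ap_lt _ _) ha, ← S.j_one] at h2
  have h3 := W0_spec.1 a ha (Nat.xor_eq_zero_iff.1 (S.j_inj (xor_lt (ap_lt _ _) ha) (by omega) h2).1)
  cases f
  · exact C.jA h3 e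
  · have h4 := C.jA h3 e
    have h5 : C.t * S.j a e false * C.t⁻¹ = _ := conj_eq_of_commute (C.A_comm C.tA h4)
    have h6 : S.j a e false * S.d * S.z * (S.j a e false * S.d) = 1 := by
      have h7 : C.t * (S.j a e false * S.d) * C.t⁻¹ = S.j a e false * S.d * S.z := by
        rw [← conj_mul, h5, C.act_t.2, mul_assoc]
      rw [← h7, ti, S.j_mul_d, ← h]
      simp [mul_assoc]
    rw [S.j_mul_d, S.j_mul_z, S.j_mul ha ha, Nat.xor_self, be_self ha, (W0_spec.2 a h3).2.1, ← S.j_one] at h6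
    simpa using (S.j_inj (by omega) (by omega) h6).2.1

/-- elements of `N(J)` which fix the coset `t J` -/
theorem mem_NA [Finite G] {n : G} (hn : n ∈ 𝒩(S.J)) (h : n * C.t * n⁻¹ * C.t⁻¹ ∈ S.J) : n ∈ 𝒩(C.A) := by
  have hn' := C.toJ0.NJ (C.toJ0.TN C.tT)
  have k : ∀ y ∈ S.J, y * C.t ∈ C.A → n * (y * C.t) * n⁻¹ ∈ C.A := fun y hy h1 => by
    have e : n * (y * C.t) * n⁻¹ = C.t * (C.t⁻¹ * (n * y * n⁻¹ * (n * C.t * n⁻¹ * C.t⁻¹)) * C.t⁻¹⁻¹) := by group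
    rw [e]
    exact mul_mem C.tA (C.inv_t (conj_mem (inv_mem hn') (mul_mem (conj_mem hn hy) h)) (by
      rw [← e, conj_mul, C.Asq _ h1]; simp))
  refine mem_normalizer_fintype fun y hy => ?_
  obtain ⟨a, ha, e, rfl | rfl⟩ := C.ex_A hy
  · simpa [mul_assoc] using mul_mem (k _ (S.j_mem (W0_spec.2 a ha).2.2.1 ..) (mul_mem hy C.tA))
      (inv_mem (k 1 (one_mem _) (by simpa using C.tA)))
  · exact k _ (S.j_mem (W0_spec.2 a ha).2.2.1 ..) hy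

theorem t_cent [Finite G] {n : G} (hA : n ∈ 𝒩(C.A)) (hn : n ∈ 𝒩(S.J)) : n * C.t * n⁻¹ * C.t⁻¹ ∈ S.J := by
  obtain ⟨a, ha, e, h | h⟩ := C.ex_A (conj_mem hA C.tA)
  · refine (C.not_td (S.Jd ?_)).elim
    have h1 : n * C.t * n⁻¹ ∈ S.J := h ▸ S.j_mem (W0_spec.2 a ha).2.2.1 e false
    simpa [mul_assoc] using conj_mem (inv_mem hn) h1
  · rw [h, mul_inv_cancel_right]; exact S.j_mem (W0_spec.2 a ha).2.2.1 ..

/-- 2-elements which centralise `J` and `t` -/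
theorem cent_two {u : G} (hJ : u ∈ 𝒞(S.J)) (ht : Commute u C.t) {k : ℕ} (h : u ^ 2 ^ k = 1) : u = 1 ∨ u = S.z := by
  have hA : u ∈ 𝒞(C.A) := fun y hy => by
    obtain ⟨a, ha, e, rfl | rfl⟩ := C.ex_A hy
    exacts [hJ _ (S.j_mem (W0_spec.2 a ha).2.2.1 ..),
      Commute.mul_left (hJ _ (S.j_mem (W0_spec.2 a ha).2.2.1 ..)) ht.symm]
  obtain ⟨a, ha, e, rfl | rfl⟩ := C.ex_A (two_mem (fun x => ⟨1, Subtype.ext (by simpa [pow_two] using C.Asq _ x.2)⟩)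
    C.odd C.OA (sup_comm C.O _ ▸ C.cA hA) h)
  · have ha' := (W0_spec.2 a ha).2.2.1
    obtain ⟨e', f, h1⟩ := S.cent (S.j_mem ha' e false) fun b hb => (hJ _ (S.s_mem hb)).symm
    obtain ⟨rfl, -⟩ := S.j_inj ha' (by omega) h1
    cases e
    exacts [.inl S.j_one, .inr S.j_z]
  · refine (C.not_td ?_).elim
    simpa using Commute.mul_left (S.Jd (inv_mem (S.j_mem (W0_spec.2 a ha).2.2.1 e false))) (hJ _ S.dJ).symm

end CM

end CL.F6
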