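/-
Project F6 (helper26): first facts about `NM`.
-/
import Cfsg.Agent.F6.Defs

set_option autoImplicit false

namespace CL.F6

open Subgroup CL.Even CL.Grp CL.U6 CL.Fc Cfsg

universe u

theorem ind_bits {k : ℕ} {P : ℕ → Prop} (h0 : P 0) (hs : ∀ a < 2 ^ k, ∀ i < k, P a → P (a ^^^ 2 ^ i)) :
    ∀ a < 2 ^ k, P a := by
  induction k generalizing P with
  | zero => intro a ha; rwa [show a = 0 by simpa using ha]
  | succ k ih =>
    have h1 := ih h0 fun a ha i hi => hs a (by omega) i (by omega)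
    intro a ha
    by_cases h : a < 2 ^ k
    · exact h1 a h
    · have h2 : a ^^^ 2 ^ k < 2 ^ k := Nat.lt_pow_two_of_testBit _ fun i hi => by
        rw [Nat.testBit_xor, Nat.testBit_two_pow]
        rcases hi.eq_or_lt with rfl | hi
        · simp [Nat.testBit_of_two_pow_le_and_two_pow_add_one_gt (not_lt.mp h) ha]
        · simp [hi.ne, Nat.testBit_lt_two_pow (ha.trans_le (Nat.pow_le_pow_right two_pos hi))]
      simpa using hs _ (by omega) k (by omega) (h1 _ h2)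

theorem xor64 {a b : ℕ} (ha : a < 64) (hb : b < 64) : a ^^^ b < 64 := Nat.xor_lt_two_pow (n := 6) ha hb

theorem xor512 {a b : ℕ} (ha : a < 512) (hb : b < 512) : a ^^^ b < 512 := Nat.xor_lt_two_pow (n := 9) ha hb

theorem mm_I8 {A : ℕ} (h : A < 2 ^ 64) : mm A I8 = A := mat_ext (mm_lt _ _) h fun a ha => by rw [ap_mm, ap_I8 a ha]

theorem I8_mm {A : ℕ} (h : A < 2 ^ 64) : mm I8 A = A :=
  mat_ext (mm_lt _ _) h fun a _ => by rw [ap_mm, ap_I8 _ (ap_lt _ _)]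

theorem vc_zero : vc 0 = I8 := by decide +kernel

theorem tr_zero : tr 0 = I8 := by decide +kernel

theorem TC_I8 : TC I8 := by decide +kernel

theorem vc_mul {n n' : ℕ} (hn : n < 512) (hn' : n' < 512) : mm (vc n) (vc n') = vc (n ^^^ n') :=
  ind_bits (k := 9) (P := fun b => ∀ a < 512, mm (vc a) (vc b) = vc (a ^^^ b))
    (fun a ha => by rw [vc_zero, mm_I8 (vc_TC a ha).1.1.1, Nat.xor_zero])
    (fun b hb i hi h a ha => by
      rw [← (vc_TC b hb).2 i hi, ← mm_assoc, h a ha, (vc_TC _ (xor512 ha hb)).2 i hi, Nat.xor_assoc]) n' hn' n hn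

theorem vc_ne : ∀ n < 512, vc n = I8 → n = 0 := by decide +kernel

theorem ff_bit : ∀ a < 64, ∀ b < 64, ff a b = ff b a ∧ ∀ i < 6, ff (a ^^^ 2 ^ i) b = (ff a b ^^ ff (2 ^ i) b) := by
  decide +kernel

theorem ff_zero : ∀ a < 64, ff 0 a = false ∧ ff a a = false ∧ ((∀ i < 6, ff a (2 ^ i) = false) → a = 0) := by
  decide +kernel

theorem ff_comm {a b : ℕ} (ha : a < 64) (hb : b < 64) : ff a b = ff b a := (ff_bit a ha b hb).1

theorem ff_xor {a b c : ℕ} (ha : a < 64) (hb : b < 64) (hc : c < 64) : ff (a ^^^ b) c = (ff a c ^^ ff b c) :=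
  ind_bits (k := 6) (P := fun b => ff (a ^^^ b) c = (ff a c ^^ ff b c)) (by simp [(ff_zero c hc).1])
    (fun b hb i hi h => by
      rw [← Nat.xor_assoc, (ff_bit _ (xor64 ha hb) c hc).2 i hi, h, (ff_bit b hb c hc).2 i hi, Bool.xor_assoc]) b hb

theorem pow_lt64 {i : ℕ} (hi : i < 6) : 2 ^ i < 64 := Nat.pow_lt_pow_right (a := 2) (by omega) hi

theorem AS.lt {c : ℕ} (h : AS c) {x : ℕ} (hx : x < 64) : ap c x < 64 :=
  ind_bits (k := 6) (P := fun x => ap c x < 64) (by rw [ap_zero]; omega)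
    (fun a _ i hi ha => by rw [ap_xor]; exact xor64 ha (h.2.2.2.2.1 i hi)) x hx

theorem AS.ff {c : ℕ} (h : AS c) {x y : ℕ} (hx : x < 64) (hy : y < 64) : ff (ap c x) (ap c y) = ff x y := by
  have k : ∀ j < 6, ∀ x < 64, F6.ff (ap c x) (ap c (2 ^ j)) = F6.ff x (2 ^ j) := fun j hj =>
    ind_bits (k := 6) (by rw [ap_zero, (ff_zero _ (h.lt (pow_lt64 hj))).1, (ff_zero _ (pow_lt64 hj)).1])
      fun a ha i hi e => by
        rw [ap_xor, ff_xor (h.lt ha) (h.lt (pow_lt64 hi)) (h.lt (pow_lt64 hj)), e, h.2.2.2.2.2 i hi j hj,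
          ff_xor ha (pow_lt64 hi) (pow_lt64 hj)]
  refine ind_bits (k := 6) (P := fun y => F6.ff (ap c x) (ap c y) = F6.ff x y) ?_ (fun a ha i hi e => ?_) y hy
  · rw [ap_zero, ff_comm (h.lt hx) (by omega), (ff_zero _ (h.lt hx)).1, ff_comm hx (by omega), (ff_zero _ hx).1]
  · rw [ap_xor, ff_comm (h.lt hx) (xor64 (h.lt ha) (h.lt (pow_lt64 hi))), ff_xor (h.lt ha) (h.lt (pow_lt64 hi)) (h.lt hx),
      ff_comm hx (xor64 ha (pow_lt64 hi)), ff_xor ha (pow_lt64 hi) hx, ff_comm (h.lt ha) (h.lt hx), e,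
      ff_comm (h.lt (pow_lt64 hi)) (h.lt hx), k i hi x hx, ff_comm ha hx, ff_comm (pow_lt64 hi) hx]

theorem aff_iff : ∀ a < 256, (64 ≤ a ∧ a < 128 ↔ a ^^^ 64 < 64) := by decide +kernel

theorem AS.mul {c c' : ℕ} (h : AS c) (h' : AS c') : AS (mm c c') := by
  have h1 := (aff_iff _ (ap_lt c' 64)).1 ⟨h'.2.2.1, h'.2.2.2.1⟩
  have h2 := (aff_iff _ (ap_lt c 64)).1 ⟨h.2.2.1, h.2.2.2.1⟩
  have h3 := (aff_iff _ (ap_lt (mm c c') 64)).2 (by
    have : ap (mm c c') 64 ^^^ 64 = ap c (ap c' 64 ^^^ 64) ^^^ (ap c 64 ^^^ 64) := by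
      rw [ap_mm, ap_xor, Nat.xor_assoc, Nat.xor_xor_cancel_left]
    rw [this]; exact xor64 (h.lt h1) h2)
  exact ⟨mm_lt _ _, by rw [ap_mm, h'.2.1, h.2.1], h3.1, h3.2, fun i hi => by rw [ap_mm]; exact h.lt (h'.lt (pow_lt64 hi)),
    fun i hi j hj => by rw [ap_mm, ap_mm, h.ff (h'.lt (pow_lt64 hi)) (h'.lt (pow_lt64 hj)), h'.2.2.2.2.2 i hi j hj]⟩

namespace NM

variable {G : Type u} [Group G] (M : NM G)

theorem el_mem {c : ℕ} (h : TC c) : M.el c ∈ M.T := M.mem_T.2 ⟨c, h, rfl⟩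

theorem TN {y : G} (h : y ∈ M.T) : y ∈ 𝒩(M.A) := M.syl.le h

theorem el_N {c : ℕ} (h : TC c) : M.el c ∈ 𝒩(M.A) := M.TN (M.el_mem h)

theorem ν_TC {y : G} (h : y ∈ M.T) : TC (M.ν y) ∧ M.el (M.ν y) = y := by
  obtain ⟨c, hc, rfl⟩ := M.mem_T.1 h
  rw [M.ν_el hc]; exact ⟨hc, rfl⟩

theorem ν_inj {y y' : G} (h : y ∈ M.T) (h' : y' ∈ M.T) (e : M.ν y = M.ν y') : y = y' := by
  rw [← (M.ν_TC h).2, e, (M.ν_TC h').2]

theorem el_inj {c c' : ℕ} (h : TC c) (h' : TC c') (e : M.el c = M.el c') : c = c' := by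
  rw [← M.ν_el h, e, M.ν_el h']

theorem ν_one : M.ν 1 = I8 := (M.ker (one_mem _)).2 (one_mem _)

theorem el_I8 : M.el I8 = 1 := M.ν_inj (M.el_mem TC_I8) (one_mem _) (by rw [M.ν_el TC_I8, M.ν_one])

theorem mul_el {c c' : ℕ} (h : TC c) (h' : TC c') : M.el c * M.el c' = M.el (mm c c') := (M.el_mul h h').2

theorem AT : M.A ≤ M.T := fun _ hy => by
  obtain ⟨x, hx, rfl⟩ := M.mem_A.1 hy
  exact M.el_mem (tr_TC x hx)

theorem tr_mem {x : ℕ} (hx : x < 64) : M.el (tr x) ∈ M.A := M.mem_A.2 ⟨x, hx, rfl⟩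

theorem tr_xor {x y : ℕ} (hx : x < 64) (hy : y < 64) : M.el (tr x) * M.el (tr y) = M.el (tr (x ^^^ y)) := by
  rw [M.mul_el (tr_TC x hx) (tr_TC y hy), tr_mul x hx y hy]

theorem A_sq : ∀ a ∈ M.A, a * a = 1 := fun _ ha => by
  obtain ⟨x, hx, rfl⟩ := M.mem_A.1 ha
  rw [M.tr_xor hx hx, Nat.xor_self, tr_zero, M.el_I8]

theorem comm_el {c c' : ℕ} (h : TC c) (h' : TC c') : Commute (M.el c) (M.el c') ↔ mm c c' = mm c' c := by
  rw [commute_iff_eq, M.mul_el h h', M.mul_el h' h]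
  exact ⟨M.el_inj (M.el_mul h h').1 (M.el_mul h' h).1, fun e => by rw [e]⟩

/-- conjugation inside `T` is read off from the codes -/
theorem conj_el {n : G} (hn : n ∈ 𝒩(M.A)) {c c' : ℕ} (h : TC c) (h' : TC c') (hT : n * M.el c * n⁻¹ ∈ M.T)
    (e : mm (M.ν n) c = mm c' (M.ν n)) : n * M.el c * n⁻¹ = M.el c' :=
  M.ν_inj hT (M.el_mem h') (by
    rw [M.ν_mul (mul_mem hn (M.el_N h)) (inv_mem hn), M.ν_mul hn (M.el_N h), M.ν_el h, e, mm_assoc,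
      ← M.ν_mul hn (inv_mem hn), mul_inv_cancel, M.ν_one, mm_I8 h'.1.1, M.ν_el h'])

theorem conj_T {g c c' : ℕ} (hg : TC g) (h : TC c) (h' : TC c') (e : mm g c = mm c' g) :
    M.el g * M.el c * (M.el g)⁻¹ = M.el c' := by
  rw [mul_inv_eq_iff_eq_mul, M.mul_el hg h, M.mul_el h' hg, e]

theorem ν_surj {c : ℕ} (h : AS c) : ∃ n ∈ 𝒩(M.A), M.ν n = c := by
  obtain ⟨n, h1, h2, -⟩ := M.lift c h ⊥ bot_le fun y hy => ⟨I8, TC_I8, by
    rw [mem_bot.1 hy, M.ν_one, mm_I8 h.1, I8_mm h.1]⟩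
  exact ⟨n, h1, h2⟩

/-- fusion of involutions of `T` -/
theorem cn {g c c' : ℕ} (hg : AS g) (h : TC c) (h' : TC c') (h2 : mm c c = I8) (e : mm g c = mm c' g) :
    ∃ n ∈ 𝒩(M.A), M.ν n = g ∧ n * M.el c * n⁻¹ = M.el c' := by
  have h3 : M.el c * M.el c = 1 := by rw [M.mul_el h h, h2, M.el_I8]
  let P : Subgroup G :=
    { carrier := {y | y = 1 ∨ y = M.el c}
      one_mem' := .inl rfl
      mul_mem' := by rintro _ _ (rfl | rfl) (rfl | rfl) <;> simp [h3]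
      inv_mem' := by rintro _ (rfl | rfl) <;> simp [inv_eq_of_mul_eq_one_right h3] }
  obtain ⟨n, h4, h5, h6⟩ := M.lift g hg P (by rintro _ (rfl | rfl); exacts [one_mem _, M.el_mem h]) (by
    rintro _ (rfl | rfl)
    exacts [⟨I8, TC_I8, by rw [M.ν_one, mm_I8 hg.1, I8_mm hg.1]⟩, ⟨c', h', by rw [M.ν_el h, e]⟩])
  exact ⟨n, h4, h5, M.conj_el h4 h h' (h6 _ (.inr rfl)) (h5 ▸ e)⟩

theorem vc_xor {n n' : ℕ} (hn : n < 512) (hn' : n' < 512) : M.el (vc n) * M.el (vc n') = M.el (vc (n ^^^ n')) := by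
  rw [M.mul_el (vc_TC n hn).1 (vc_TC n' hn').1, vc_mul hn hn']

theorem vc_sq {n : ℕ} (hn : n < 512) : M.el (vc n) * M.el (vc n) = 1 := by
  rw [M.vc_xor hn hn, Nat.xor_self, vc_zero, M.el_I8]

theorem mem_V0 {y : G} : y ∈ M.V0 ↔ ∃ n < 512, y = M.el (vc n) := by
  refine ⟨fun h => closure_induction (fun _ h => h) ⟨0, by omega, by rw [vc_zero, M.el_I8]⟩ ?_ ?_ h,
    fun h => subset_closure h⟩
  · rintro _ _ - - ⟨a, ha, rfl⟩ ⟨b, hb, rfl⟩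
    exact ⟨_, xor512 ha hb, M.vc_xor ha hb⟩
  · rintro _ - ⟨a, ha, rfl⟩
    exact ⟨a, ha, inv_eq_of_mul_eq_one_right (M.vc_sq ha)⟩

theorem V0_le : M.V0 ≤ M.T := fun _ h => by
  obtain ⟨n, hn, rfl⟩ := M.mem_V0.1 h
  exact M.el_mem (vc_TC n hn).1

theorem V0_sq : ∀ a ∈ M.V0, a * a = 1 := fun _ h => by
  obtain ⟨n, hn, rfl⟩ := M.mem_V0.1 h
  exact M.vc_sq hn

theorem vc_inj {n n' : ℕ} (hn : n < 512) (hn' : n' < 512) (e : M.el (vc n) = M.el (vc n')) : n = n' :=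
  Nat.xor_eq_zero_iff.1 (vc_ne _ (xor512 hn hn') (M.el_inj (vc_TC _ (xor512 hn hn')).1 TC_I8 (by
    rw [← M.vc_xor hn hn', e, M.vc_sq hn', M.el_I8])))

theorem card_V0 : Nat.card M.V0 = 512 := by
  rw [← Nat.card_fin 512]
  exact (Nat.card_eq_of_bijective (fun n : Fin 512 => (⟨M.el (vc n), M.mem_V0.2 ⟨n, n.2, rfl⟩⟩ : M.V0))
    ⟨fun a b e => Fin.ext (M.vc_inj a.2 b.2 (congrArg Subtype.val e)), fun y => by
      obtain ⟨n, hn, e⟩ := M.mem_V0.1 y.2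
      exact ⟨⟨n, hn⟩, Subtype.ext e.symm⟩⟩).symm

end NM

end CL.F6
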