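/-
Project F6 (helper26): the matrix of an element of `N(J)`, reflections, `O(C(J))`.
-/
import Cfsg.Agent.F6.JC
import Cfsg.Agent.F6.NB
import Cfsg.Agent.Grp.PNilp

set_option autoImplicit false

namespace CL.F6

open Subgroup CL.Even CL.Grp CL.U6 CL.Fc CL.MT Cfsg

universe u

theorem RF_spec : ∀ A ∈ RF, A < 2 ^ 64 ∧ mm A A = I8 ∧ sl A = true ∧ ∀ a < 256, ap A a = a → qq a = false := by
  decide +kernel

variable {G : Type u} {Γ : Type} [Group G] [Group Γ] {m : Γ → ℕ}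

/-- a central Sylow subgroup splits off -/
theorem central_split [Finite G] {Z C : Subgroup G} (h : IsSylowIn 2 Z C) (hc : C ≤ 𝒞(Z)) {c : G} (hcC : c ∈ C) :
    ∃ o ∈ pPrimeCoreOf 2 C, ∃ e ∈ Z, c = o * e := by
  have h1 := hasNormalPComplement_iff_coprime_pResidual.1 (hasNormalPComplement_of_sylow_le_center h.toSylow
    fun x hx => mem_center_iff.2 fun g => Subtype.ext (hc g.2 x hx).symm)
  obtain ⟨o, ho, e, he, rfl⟩ := exists_res_mul_syl h hcC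
  exact ⟨o, le_pPrimeCoreOf (res_le C) (self_le_norm_res C) (by rwa [← res_def, card_map_subtype]) ho, e, he, rfl⟩

/-- a 2-subgroup which is not a Sylow subgroup grows in its normaliser -/
theorem exists_up [Finite G] {T K : Subgroup G} (hT : IsPGroup 2 T) (hK : T ≤ K) (h : ¬ IsSylowIn 2 T K) :
    ∃ g ∈ K, g ∈ 𝒩(T) ∧ g ∉ T ∧ g * g ∈ T ∧ IsPGroup 2 (T ⊔ zpowers g : Subgroup G) := by
  classical
  obtain ⟨R, hR, hTR⟩ := exists_isSylowIn_ge hT hK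
  obtain ⟨x, hx, hx'⟩ := SetLike.exists_of_lt (lt_inf_normalizer_of_isPGroup hR.isPGroup
    (lt_of_le_of_ne hTR fun e => h (e ▸ hR)))
  have ex : ∃ k : ℕ, x ^ 2 ^ k ∈ T := by
    obtain ⟨k, e⟩ := IsPGroup.pw hR.isPGroup hx.1
    exact ⟨k, e ▸ one_mem T⟩
  obtain ⟨k, hk⟩ := Nat.exists_eq_succ_of_ne_zero (n := Nat.find ex) fun e => hx' (by
    simpa [e] using Nat.find_spec ex)
  refine ⟨x ^ 2 ^ k, hR.le (pow_mem hx.1 _), pow_mem hx.2 _, Nat.find_min ex (by omega), ?_,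
    hR.isPGroup.to_le (sup_le hTR (zpowers_le.2 (pow_mem hx.1 _)))⟩
  have := Nat.find_spec ex
  rwa [hk, pow_succ, pow_mul, pow_two] at this

/-- conjugation of codes -/
def ph (A A' X : ℕ) : ℕ := mm (mm A X) A'

theorem ph_mul {A A' : ℕ} (h : mm A' A = I8) (X Y : ℕ) : ph A A' (mm X Y) = mm (ph A A' X) (ph A A' Y) :=
  mat_ext (mm_lt _ _) (mm_lt _ _) fun a _ => by
    simp only [ph, ap_mm]
    rw [← ap_mm A' A, h, ap_I8 _ (ap_lt _ _)]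

theorem ph_ph {A A' X : ℕ} (h : mm A' A = I8) (hX : X < 2 ^ 64) : ph A' A (ph A A' X) = X :=
  mat_ext (mm_lt _ _) hX fun a ha => by
    simp only [ph, ap_mm]
    rw [← ap_mm A' A, ← ap_mm A' A, h, ap_I8 _ ha, ap_I8 _ (ap_lt _ _)]

theorem ph_I8 {A A' : ℕ} (h : mm A A' = I8) (hA : A < 2 ^ 64) : ph A A' I8 = I8 := by rw [ph, mm_I8 hA, h]

namespace JB

variable (S : JB G)

theorem OJ_odd [Finite G] : Odd (Nat.card S.OJ) := Nat.coprime_two_right.1 (pPrimeCoreOf_coprime 2 _)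

theorem OJ_le : S.OJ ≤ 𝒞(S.J) := pPrimeCoreOf_le 2 _

theorem N_OJ : 𝒩(S.J) ≤ 𝒩(S.OJ) := (norm_le_norm_cent _).trans (normalizer_le_normalizer_pPrimeCoreOf 2 _)

theorem K_le : S.J ⊔ S.OJ ≤ S.J ⊔ 𝒞(S.J) := sup_le_sup_left S.OJ_le _

theorem K_N : S.J ⊔ S.OJ ≤ 𝒩(S.J) := S.K_le.trans S.sup_norm

theorem N_K : 𝒩(S.J) ≤ 𝒩((S.J ⊔ S.OJ : Subgroup G)) := le_norm_sup le_rfl S.N_OJ

open Classical in
/-- the matrix of `n ∈ N(J)` on `J / ⟨z, d⟩` -/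
noncomputable def mx (n : G) : ℕ := if h : n ∈ 𝒩(S.J) then (S.exAc h).choose else 0

open Classical in
/-- the functional of `n ∈ N(J)` -/
noncomputable def lx (n : G) : ℕ := if h : n ∈ 𝒩(S.J) then (S.exAc h).choose_spec.2.choose else 0

variable {S} {n n' g : G}

theorem mx_spec (h : n ∈ 𝒩(S.J)) : S.mx n < 2 ^ 64 ∧ S.lx n < 256 ∧ S.AcL n (S.mx n) (S.lx n) := by
  rw [mx, lx, dif_pos h, dif_pos h]
  exact ⟨(S.exAc h).choose_spec.1, (S.exAc h).choose_spec.2.choose_spec⟩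

theorem mx_eq (h : n ∈ 𝒩(S.J)) {M l : ℕ} (h1 : S.AcL n M l) (hM : M < 2 ^ 64) (hl : l < 256) :
    S.mx n = M ∧ S.lx n = l := (mx_spec h).2.2.eq h1 (mx_spec h).1 hM (mx_spec h).2.1 hl

theorem mx_mul' (h : n ∈ 𝒩(S.J)) (h' : n' ∈ 𝒩(S.J)) : S.mx (n * n') = mm (S.mx n) (S.mx n') ∧
    ∀ a < 256, BB a (S.lx (n * n')) = (BB a (S.lx n') ^^ BB (ap (S.mx n') a) (S.lx n)) := by
  obtain ⟨l, hl, e⟩ := ex_l (S.mx n') (mx_spec h).2.1 (mx_spec h').2.1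
  obtain ⟨h1, h2⟩ := mx_eq (mul_mem h h') ((mx_spec h).2.2.mul (mx_spec h').2.2 h e) (mm_lt _ _) hl
  exact ⟨h1, h2 ▸ e⟩

theorem mx_mul (h : n ∈ 𝒩(S.J)) (h' : n' ∈ 𝒩(S.J)) : S.mx (n * n') = mm (S.mx n) (S.mx n') := (mx_mul' h h').1

theorem mx_triv (h : n ∈ S.J ⊔ 𝒞(S.J)) : S.mx n = I8 ∧ S.lx n = 0 :=
  mx_eq (S.sup_norm h) (S.triv h).1 (by decide +kernel) (by omega)

theorem mx_inv (h : n ∈ 𝒩(S.J)) : mm (S.mx n⁻¹) (S.mx n) = I8 ∧ mm (S.mx n) (S.mx n⁻¹) = I8 := by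
  rw [← mx_mul (inv_mem h) h, ← mx_mul h (inv_mem h), inv_mul_cancel, mul_inv_cancel]
  exact ⟨(mx_triv (one_mem _)).1, (mx_triv (one_mem _)).1⟩

theorem mx_conj (hg : g ∈ 𝒩(S.J)) (h : n ∈ 𝒩(S.J)) : S.mx (g * n * g⁻¹) = ph (S.mx g) (S.mx g⁻¹) (S.mx n) := by
  rw [mx_mul (mul_mem hg h) (inv_mem hg), mx_mul hg h, ph]

/-- congruent elements have the same matrix -/
theorem mx_congr (h' : n' ∈ 𝒩(S.J)) (h : n * n'⁻¹ ∈ S.J ⊔ 𝒞(S.J)) : S.mx n = S.mx n' := by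
  rw [← inv_mul_cancel_right n n', mx_mul (S.sup_norm h) h', (mx_triv h).1, I8_mm (mx_spec h').1]

theorem mx_conj_j (h : n ∈ 𝒩(S.J)) {a : ℕ} (ha : a < 256) (e f : Bool) :
    ∃ e', n * S.j a e f * n⁻¹ = S.j (ap (S.mx n) a) e' (f ^^ BB a (S.lx n)) := (mx_spec h).2.2.conj h ha e f

theorem mx_qq (h : n ∈ 𝒩(S.J)) {a : ℕ} (ha : a < 256) : qq (ap (S.mx n) a) = qq a := (mx_spec h).2.2.qq h ha

theorem mx_BB (h : n ∈ 𝒩(S.J)) {a b : ℕ} (ha : a < 256) (hb : b < 256) :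
    BB (ap (S.mx n) a) (ap (S.mx n) b) = BB a b := by
  rw [BB_def, BB_def, ← ap_xor, mx_qq h ha, mx_qq h hb, mx_qq h (xor_lt ha hb)]

theorem Ac.mx [Finite G] {M : ℕ} (h : S.Ac n M) (hM : M < 2 ^ 64) : S.mx n = M ∧ Cp M (S.lx n) := by
  obtain ⟨l, h1, h2⟩ := h.2.2
  obtain ⟨e1, e2⟩ := mx_eq h.norm h2 hM h1.1
  exact ⟨e1, e2 ▸ h1⟩

/-- conjugates of elements which move `d` move `d` -/
theorem not_comm_conj (hg : g ∈ 𝒩(S.J)) (hn : n ∈ 𝒩(S.J)) (h : ¬ Commute n S.d) : ¬ Commute (g * n * g⁻¹) S.d :=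
  fun h1 => h (by
    obtain ⟨c, e⟩ := S.Nd hg
    have h2 : Commute (g * n * g⁻¹) (g * S.d * g⁻¹) :=
      e ▸ h1.mul_right (zb_comm (S.Nz (conj_mem (le_normalizer hg) hn)) c)
    exact commute_of_conj h2)

end JB

theorem CF.mx_ker {S : JB G} {D : PD S} (cf : CF D) {n : G} (h : n ∈ 𝒩(S.J)) (h1 : S.mx n = I8) : n ∈ S.J ⊔ S.OJ :=
  cf.ker n h fun a ha => by
    obtain ⟨e, h2⟩ := (JB.mx_spec h).2.2 a ha
    exact ⟨e, _, by rw [h2, h1, ap_I8 a ha]⟩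

theorem CF.cent_le {S : JB G} {D : PD S} (cf : CF D) : S.J ⊔ 𝒞(S.J) ≤ S.J ⊔ S.OJ := sup_le le_sup_left fun c hc => by
  obtain ⟨o, ho, e, f, rfl⟩ := cf.cen c hc
  exact mul_mem (mem_sup_right ho) (mem_sup_left (S.j_mem (by omega) e f))

namespace J0

variable [Finite G] {S : JB G} (X : J0 S m)

theorem mx {n : G} (h : n ∈ X.Nn) : S.mx n = m (X.r n) ∧ Cp (m (X.r n)) (S.lx n) := (X.ac h).mx (X.md.lt _)

/-- conjugates of reflections are reflections -/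
theorem refl {g q p : G} (hg : g ∈ 𝒩(S.J)) (hq : q ∈ X.Nn) (h : m (X.r q) ∈ RF) (hp : p ∈ X.Nn)
    (e : p * (g * q * g⁻¹)⁻¹ ∈ S.J ⊔ 𝒞(S.J)) : m (X.r p) ∈ RF := by
  obtain ⟨-, h2, h3, h4⟩ := RF_spec _ h
  have hq' := X.NJ hq
  have hc := conj_mem (le_normalizer hg) hq'
  have e1 : m (X.r p) = ph (S.mx g) (S.mx g⁻¹) (m (X.r q)) := by
    rw [← (X.mx hp).1, JB.mx_congr hc e, JB.mx_conj hg hq', (X.mx hq).1]
  refine mem_RF X.md (X.md.eq_one_iff.1 ?_) ?_ fun a ha h5 => ?_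
  · rw [X.md.mul, e1, ← ph_mul (JB.mx_inv hg).1, h2, ph_I8 (JB.mx_inv hg).2 (JB.mx_spec hg).1]
  · rw [← Bool.not_eq_false, ← X.comm_d hp]
    refine fun h5 => JB.not_comm_conj hg hq' (by rw [X.comm_d hq, h3]; simp) ?_
    simpa using (S.triv e).2.inv_left.mul_left h5
  · rw [← JB.mx_qq (inv_mem hg) ha]
    refine h4 _ (ap_lt _ _) ?_
    have := congrArg (ap (S.mx g⁻¹)) h5
    rwa [e1, ph, ap_mm, ap_mm, ← ap_mm (S.mx g⁻¹), (JB.mx_inv hg).1, ap_I8 _ (ap_lt _ _)] at this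

end J0

end CL.F6
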