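/-
Project F6: the centralisers of `J` and of `t`.
-/
import Cfsg.Agent.F6.JD

set_option autoImplicit false

namespace CL.F6

open Subgroup CL.Even CL.Grp CL.U6 CL.Fc CL.MT Cfsg

universe u

namespace Cfx

theorem dec : mm (mm (mm I8 c0) I8) c0 = I8 ∧ mm I8 I8 = I8 ∧ c0 < 2 ^ 64 ∧ ∀ a < 256, ap c0 (ap c0 a) = a := by
  decide +kernel

variable {G : Type u} {Γ : Type} [Group G] [Group Γ] {S : JB G} {m : Γ → ℕ}

theorem zp2 {t x : G} (ht : t * t = 1) (hx : x ∈ zpowers t) : x = 1 ∨ x = t := by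
  obtain ⟨k, rfl⟩ := mem_zpowers_iff.1 hx
  have h2 : t ^ (2 : ℤ) = 1 := by rw [zpow_two, ht]
  rcases Int.even_or_odd' k with ⟨j, rfl | rfl⟩
  · exact .inl (by rw [zpow_mul, h2, one_zpow])
  · exact .inr (by rw [zpow_add, zpow_mul, h2, one_zpow, one_mul, zpow_one])

theorem sw {x y : G} (hx : x ∈ 𝒩(S.J)) (hy : y ∈ 𝒩(S.J)) : Commute (x * y * x⁻¹ * y⁻¹) S.d := by
  obtain ⟨c, hc⟩ := S.Nd (inv_mem hx)
  obtain ⟨c', hc'⟩ := S.Nd (inv_mem hy)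
  have : x⁻¹ * (y⁻¹ * S.d * y⁻¹⁻¹) * x⁻¹⁻¹ = y⁻¹ * (x⁻¹ * S.d * x⁻¹⁻¹) * y⁻¹⁻¹ := by
    rw [hc', zb_conj (S.Nz (inv_mem hx)), hc, zb_conj (S.Nz (inv_mem hy)), hc', zb_mul S.zz, zb_mul S.zz, Bool.xor_comm]
  rw [commute_iff_eq, ← mul_inv_eq_iff_eq_mul]
  calc _ = x * y * (x⁻¹ * (y⁻¹ * S.d * y⁻¹⁻¹) * x⁻¹⁻¹) * (x * y)⁻¹ := by group
    _ = S.d := by rw [this]; group

variable [Finite G] (C : CM S m)

theorem tN : C.t ∈ 𝒩(S.J) := C.toJ0.NJ (C.toJ0.TN C.tT)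

omit [Finite G] in
theorem ti : C.t⁻¹ = C.t := inv_eq_of_mul_eq_one_right C.tt

include C in
theorem syl : IsSylowIn 2 (S.J ⊓ 𝒞(S.J)) 𝒞(S.J) := by
  have exZ : ∀ y ∈ S.J ⊓ 𝒞(S.J), ∃ e f, y = S.j 0 e f := fun y hy =>
    S.cent hy.1 fun b hb => (hy.2 _ (S.s_mem hb)).symm
  have jZ : ∀ e f, S.j 0 e f ∈ S.J ⊓ 𝒞(S.J) := fun e f => ⟨S.j_mem (by omega) e f, fun y hy => S.J_j0 hy e f⟩
  have hR : S.J ⊔ zpowers C.t ≤ C.T := sup_le C.JT (zpowers_le.2 C.tT)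
  have hRN : S.J ⊔ zpowers C.t ≤ 𝒩(𝒞(S.J)) := le_norm_cent (sup_le le_normalizer (zpowers_le.2 (tN C)))
  obtain ⟨T, hT, h1⟩ := exists_isSylowIn_ge (C.syl.isPGroup.to_le hR)
    (le_sup_left : _ ≤ S.J ⊔ zpowers C.t ⊔ 𝒞(S.J))
  have hTN : T ≤ 𝒩(𝒞(S.J)) := hT.le.trans (sup_le hRN le_normalizer)
  have h2 := syl_inf_of_norm hT le_sup_right hTN
  have tT : zpowers C.t ≤ T := le_sup_right.trans h1
  have hZ : S.J ⊓ 𝒞(S.J) ≤ T ⊓ 𝒞(S.J) := inf_le_inf_right _ (le_sup_left.trans h1)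
  suffices h : T ⊓ 𝒞(S.J) ≤ S.J ⊓ 𝒞(S.J) by rwa [le_antisymm hZ h]
  have n1 : zpowers C.t ≤ 𝒩((S.J ⊓ 𝒞(S.J) : Subgroup G)) :=
    le_norm_inf (zpowers_le.2 (tN C)) (le_sup_right.trans hRN)
  have n2 : zpowers C.t ≤ 𝒩((T ⊓ 𝒞(S.J) : Subgroup G)) := le_norm_inf (tT.trans le_normalizer) (le_sup_right.trans hRN)
  have tC : ∀ s ∈ 𝒞(S.J), s * C.t * s⁻¹ ∉ 𝒞(S.J) := fun s hs h => C.not_td (by
    have := mul_mem (mul_mem (inv_mem hs) h) hs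
    exact ((by simpa [mul_assoc] using this : C.t ∈ 𝒞(S.J)) _ S.dJ).symm)
  by_contra hne
  have hlt : S.J ⊓ 𝒞(S.J) ⊔ zpowers C.t < T ⊓ 𝒞(S.J) ⊔ zpowers C.t := by
    refine lt_of_le_of_ne (sup_le_sup_right hZ _) fun e => hne fun s hs => ?_
    obtain ⟨w, hw, b, hb, rfl⟩ := (mem_sup_nl n1).1 (e.ge (mem_sup_left hs))
    rcases zp2 C.tt hb with rfl | rfl
    · simpa using hw
    · exact (tC 1 (one_mem _) (by simpa using mul_mem (inv_mem (mem_inf.1 hw).2) (mem_inf.1 hs).2)).elim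
  obtain ⟨u, ⟨hu, hu'⟩, h3⟩ := SetLike.exists_of_lt (lt_inf_normalizer_of_isPGroup
    (hT.isPGroup.to_le (sup_le inf_le_left tT)) hlt)
  obtain ⟨s, hs, b, hb, rfl⟩ := (mem_sup_nl n2).1 hu
  have hsN : s ∈ 𝒩((S.J ⊓ 𝒞(S.J) ⊔ zpowers C.t : Subgroup G)) := by
    have hu2 : s * b ∈ 𝒩((S.J ⊓ 𝒞(S.J) ⊔ zpowers C.t : Subgroup G)) := hu'
    simpa using mul_mem hu2 (inv_mem (le_normalizer (mem_sup_right hb)))
  refine h3 (mul_mem (mem_sup_left ?_) (mem_sup_right hb))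
  have c2 : ∀ v ∈ T ⊓ 𝒞(S.J), v * C.t * v⁻¹ = C.t → v ∈ S.J ⊓ 𝒞(S.J) := fun v hv e => by
    obtain ⟨k, hk⟩ := IsPGroup.pw hT.isPGroup hv.1
    rcases C.cent_two hv.2 (mul_inv_eq_iff_eq_mul.1 e) hk with rfl | rfl
    exacts [one_mem _, S.j_z ▸ jZ true false]
  obtain ⟨w, hw, b', hb', h4⟩ := (mem_sup_nl n1).1 (conj_mem hsN (mem_sup_right (mem_zpowers C.t)))
  rcases zp2 C.tt hb' with rfl | rfl
  · exact (tC s hs.2 (h4 ▸ by simpa using hw.2)).elim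
  obtain ⟨e, f, rfl⟩ := exZ w hw
  have h5 : S.j 0 e f * (C.t * S.j 0 e f * C.t⁻¹) = 1 := by
    rw [ti C, ← mul_assoc, ← mul_assoc, mul_assoc (S.j 0 e f * C.t), h4, conj_mul, C.tt]; simp
  rw [S.conj_j0 (c := true) (S.Nz (tN C)) C.act_t.2, S.j_mul_j0 (by omega), ← S.j_one] at h5
  have h6 := (S.j_inj (by omega) (by omega) h5).2.1
  obtain rfl : f = false := by simpa using h6
  cases e
  · exact c2 s hs (by rw [← h4, S.j_one, one_mul])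
  · have dZ : S.d ∈ S.J ⊓ 𝒞(S.J) := S.j_d ▸ jZ false true
    have := c2 _ (mul_mem (hZ dZ) hs) (by
      calc S.d * s * C.t * (S.d * s)⁻¹ = S.d * (s * C.t * s⁻¹) * S.d⁻¹ := by group
        _ = (S.d * S.z) * C.t * S.d⁻¹ := by rw [← h4, S.j_z, ← mul_assoc]
        _ = C.t := by rw [← C.act_t.2]; group)
    simpa using mul_mem (inv_mem dZ) this

include C in
theorem cen : ∀ c ∈ 𝒞(S.J), ∃ o ∈ S.OJ, ∃ e f, c = o * S.j 0 e f := fun c hc => by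
  obtain ⟨o, ho, w, hw, rfl⟩ := central_split (syl C) (cent_mono inf_le_left) hc
  obtain ⟨e, f, rfl⟩ := S.cent hw.1 fun b hb => (hw.2 _ (S.s_mem hb)).symm
  exact ⟨o, ho, e, f, rfl⟩

include C in
theorem cent_le : S.J ⊔ 𝒞(S.J) ≤ S.J ⊔ S.OJ := sup_le le_sup_left fun c hc => by
  obtain ⟨o, ho, e, f, rfl⟩ := cen C c hc
  exact mul_mem (mem_sup_right ho) (mem_sup_left (S.j_mem (by omega) e f))

theorem ct : ∀ n ∈ 𝒩(S.J), n * C.t * n⁻¹ * C.t⁻¹ ∈ S.J ⊔ S.OJ → ∃ o ∈ S.OJ, n * o ∈ 𝒩(C.A) := by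
  intro n hn h
  obtain ⟨y, hy, o, ho, e⟩ := ex_mul (le_normalizer.trans S.N_OJ) h
  have oJ : ∀ {o y : G}, o ∈ S.OJ → y ∈ S.J → y * o = o * y := fun ho hy => S.OJ_le ho _ hy
  have e1 : n * C.t * n⁻¹ = y * o * C.t := mul_inv_eq_iff_eq_mul.1 e
  have hy' := conj_mem (tN C) hy
  have ho' := conj_mem (S.N_OJ (tN C)) ho
  have h1 : y * (C.t * y * C.t⁻¹) * (o * (C.t * o * C.t⁻¹)) = 1 := by
    calc _ = y * ((C.t * y * C.t⁻¹) * o) * (C.t * o * C.t⁻¹) := by group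
      _ = y * o * C.t * (y * o * C.t⁻¹) := by rw [oJ ho hy']; group
      _ = 1 := by rw [ti C, ← e1, conj_mul, C.tt]; simp
  have h2 : o * (C.t * o * C.t⁻¹) = 1 := by
    obtain ⟨k, hk⟩ := IsPGroup.pw S.isP (show o * (C.t * o * C.t⁻¹) ∈ S.J from
      eq_inv_of_mul_eq_one_right h1 ▸ inv_mem (mul_mem hy hy'))
    exact two_odd S.OJ_odd (mul_mem ho ho') hk
  obtain ⟨k, hk⟩ : Odd (orderOf o) := S.OJ_odd.of_dvd_nat (S.OJ.orderOf_dvd_natCard ho)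
  have h3 : o ^ (k + 1) * o ^ (k + 1) = o := by
    rw [← pow_add, show k + 1 + (k + 1) = 2 * k + 1 + 1 by ring, pow_succ, ← hk, pow_orderOf_eq_one, one_mul]
  have h4 : C.t * o ^ (k + 1) * C.t⁻¹ = (o ^ (k + 1))⁻¹ := by
    rw [← conj_pow, eq_inv_of_mul_eq_one_right h2, inv_pow]
  have h5 := pow_mem ho (k + 1)
  generalize o ^ (k + 1) = p at h3 h4 h5
  refine ⟨n⁻¹ * p⁻¹ * n, conj_mem' (S.N_OJ hn) (inv_mem h5), ?_⟩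
  rw [show n * (n⁻¹ * p⁻¹ * n) = p⁻¹ * n by group]
  refine C.mem_NA (mul_mem (inv_mem (S.K_N (mem_sup_right h5))) hn) ?_
  have : p⁻¹ * n * C.t * (p⁻¹ * n)⁻¹ * C.t⁻¹ = y := by
    calc _ = p⁻¹ * (n * C.t * n⁻¹) * p * C.t⁻¹ := by group
      _ = p⁻¹ * (y * p) * p * (C.t * p * C.t⁻¹) := by rw [e1, ← h3]; group
      _ = y := by rw [oJ h5 hy, h4]; group
  rwa [this]

theorem stepB {n : G} (hn : n ∈ 𝒩(S.J)) (h : S.mx n = I8) : S.mx (n * C.t * n⁻¹ * C.t⁻¹) = I8 ∧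
    ∀ a < 256, BB a (S.lx (n * C.t * n⁻¹ * C.t⁻¹)) = (BB a (S.lx n) ^^ BB (ap c0 a) (S.lx n)) := by
  obtain ⟨t1, t2⟩ := JB.mx_eq (tN C) C.act_t.1 dec.2.2.1 (by omega)
  have i1 : S.mx n⁻¹ = I8 := by
    have := (JB.mx_inv hn).1
    rwa [h, mm_I8 (JB.mx_spec (inv_mem hn)).1] at this
  have i2 : ∀ a < 256, BB a (S.lx n⁻¹) = BB a (S.lx n) := fun a ha => by
    have := (JB.mx_mul' (inv_mem hn) hn).2 a ha
    rw [inv_mul_cancel, (JB.mx_triv (one_mem _)).2, BB_zero', h, ap_I8 a ha] at this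
    revert this
    cases BB a (S.lx n⁻¹) <;> cases BB a (S.lx n) <;> simp
  have m1 := JB.mx_mul' hn (tN C)
  have m2 := JB.mx_mul' (mul_mem hn (tN C)) (inv_mem hn)
  have m3 := JB.mx_mul' (mul_mem (mul_mem hn (tN C)) (inv_mem hn)) (tN C)
  rw [ti C]
  refine ⟨by rw [m3.1, m2.1, m1.1, h, t1, i1, dec.1], fun a ha => ?_⟩
  rw [m3.2 a ha, t1, t2, BB_zero', m2.2 _ (ap_lt _ _), i1, ap_I8 _ (ap_lt _ _), m1.2 _ (ap_lt _ _), t1, t2, BB_zero',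
    dec.2.2.2 a ha, i2 _ (ap_lt _ _)]
  cases BB a (S.lx n) <;> simp

theorem stepA (P : PM S m) {n : G} (hn : n ∈ 𝒩(S.J)) (h : S.mx n = I8)
    (h1 : n * P.t * n⁻¹ * P.t⁻¹ ∈ S.J ⊔ S.OJ) : n ∈ S.J ⊔ S.OJ := by
  obtain ⟨o, ho, h2⟩ := ct P.toCM n hn h1
  have ho' := S.K_N (mem_sup_right ho)
  have h3 : n * o ∈ P.Nn := P.hN ▸ ⟨h2, mul_mem hn ho'⟩
  have h4 : P.r (n * o) = 1 := P.md.eq_one_iff.1 (by
    rw [← (P.toJ0.mx h3).1, JB.mx_mul hn ho', h, (JB.mx_triv (S.K_le (mem_sup_right ho))).1, dec.2.1])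
  simpa using mul_mem (cent_le P.toCM (sup_le_sup_left P.OJ1 _ ((P.r_eq h3).1 h4))) (inv_mem (mem_sup_right ho))

theorem ker (P : PM S m) : ∀ n ∈ 𝒩(S.J), (∀ a < 256, ∃ e f, n * S.s a * n⁻¹ = S.j a e f) → n ∈ S.J ⊔ S.OJ := by
  intro n hn h
  have h1 : S.mx n = I8 := mat_ext (JB.mx_spec hn).1 (by decide +kernel) fun a ha => by
    obtain ⟨e, f, h1⟩ := h a ha
    obtain ⟨e', h2⟩ := (JB.mx_spec hn).2.2 a ha
    rw [ap_I8 a ha]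
    exact (S.j_inj (ap_lt _ _) ha (h2.symm.trans h1)).1
  have cm : ∀ {x : G}, x ∈ 𝒩(S.J) → x * P.t * x⁻¹ * P.t⁻¹ ∈ 𝒩(S.J) := fun hx =>
    mul_mem (mul_mem (mul_mem hx (tN P.toCM)) (inv_mem hx)) (inv_mem (tN P.toCM))
  obtain ⟨b1, b2⟩ := stepB P.toCM hn h1
  obtain ⟨b3, b4⟩ := stepB P.toCM (cm hn) b1
  refine stepA P hn h1 (stepA P (cm hn) b1 (cent_le P.toCM ?_))
  have h2 := JB.mx_spec (cm (cm hn))
  have h3 := l_zero _ h2.2.1 fun a ha _ => by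
    rw [b4 a ha, b2 a ha, b2 _ (ap_lt _ _), dec.2.2.2 a ha]
    cases BB a (S.lx n) <;> simp
  obtain ⟨y, hy, h4⟩ := S.mem_sup_cent (cm (cm hn)) (b3 ▸ h3 ▸ h2.2.2) (sw (cm hn) (tN P.toCM))
  simpa using mul_mem (mem_sup_left hy) (mem_sup_right h4)

end Cfx

theorem cfx : CFX.{u} := fun _ _ _ _ _ _ _ P => ⟨Cfx.cen P.toCM, Cfx.ct P.toCM, Cfx.ker P⟩

end CL.F6
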