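/-
Project F6: the involutions `z`, `d`, `xh` are pairwise not conjugate.
-/
import Cfsg.Agent.F6.JC

set_option autoImplicit false

namespace CL.F6

open Subgroup CL.Even CL.Grp CL.U6 CL.Fc CL.MT Cfsg

universe u

namespace Dx

theorem dec1 : (∀ a ∈ l0, ap t0 a = a) ∧ (∀ a ∈ FF 85, a ≠ 0 → ∃ b < 256, ap t0 b ^^^ b = a ∧ BB b 85 = sg a) ∧
    Iso 85 ∧ Iso 10 ∧ Iso 95 ∧ sg 10 = false ∧ sg 95 = true ∧ qq 1 = true ∧ t0 ≠ I8 ∧
    ∀ a < 256, ap t0 a = a → qq a = true → ∃ b ∈ [5, 10], ap t0 b = b ∧ qq b = false ∧ qq (a ^^^ b) = false := by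
  decide +kernel

variable {G : Type u} {Γ : Type} [Group G] [Group Γ] {S : JB G} {m : Γ → ℕ} (X : XF S m)

theorem kc {y n w a : G} (e : n * y * n⁻¹ = w) (h : X.K w a) : IsConj y a := by
  obtain ⟨g, -, h⟩ := h
  exact (isConj_iff.2 ⟨n, e⟩).trans (isConj_iff.2 ⟨g, h⟩)

theorem kc1 {w a : G} (h : X.K w a) : IsConj w a := kc X (n := 1) (by simp) h

theorem TJ {y : G} (h : y ∈ X.T) : y ∈ 𝒩(S.J) := X.full ▸ X.toJ0.TN h

theorem IV : S.I ≤ X.V := fun _ h => ⟨X.JT (S.IJ h), S.I_cent h⟩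

theorem VJ {y : G} (h : y ∈ X.V) : y ∈ 𝒩(S.J) := TJ X h.1

theorem jV {a : ℕ} (ha : a ∈ l0) (e f : Bool) : S.j a e f ∈ X.V := IV X (S.j_I ha e f)

theorem zV : S.z ∈ X.V := S.j_z ▸ jV X (by decide) _ _

theorem dV : S.d ∈ X.V := S.j_d ▸ jV X (by decide) _ _

theorem xV : S.xh ∈ X.V := S.j_xh ▸ jV X (by decide) _ _

theorem Vd {y : G} (h : y ∈ X.V) : Commute y S.d := (h.2 _ (S.j_d ▸ S.j_I (by decide) false true)).symm

theorem κV : X.κ ∈ X.V := ⟨X.κT, fun y hy => by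
  obtain ⟨a, ha, e, f, rfl⟩ := S.mem_I.1 hy
  exact (X.toCM.κj (l0_spec.2.1 a ha).1 (dec1.1 a ha) e f).symm⟩

theorem βV : X.β ∈ X.V := ⟨X.βT, fun y hy => by
  obtain ⟨a, ha, e, f, rfl⟩ := S.mem_I.1 hy
  exact (X.toCM.βj ha e f).symm⟩

theorem sqκ {a : ℕ} (ha : a < 256) (h : ap t0 a = a) (e f : Bool) :
    X.κ * S.j a e f * (X.κ * S.j a e f) = S.j 0 (qq a) false := by
  rw [← S.j_sq ha e f, mul_assoc, ← mul_assoc (S.j a e f), ← (X.toCM.κj ha h e f).eq, ← mul_assoc, ← mul_assoc, X.κκ,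
    one_mul]

theorem sqβ (e f : Bool) : X.β * S.j 0 e f * (X.β * S.j 0 e f) = 1 := by
  rw [mul_assoc, ← mul_assoc (S.j 0 e f), ← (X.toCM.βj (by decide) e f).eq, ← mul_assoc, ← mul_assoc, X.ββ,
    one_mul, S.sq_one (by omega)]
  decide +kernel

omit X in
theorem cj0 {n : G} (hz : Commute n S.z) (hd : Commute n S.d) (e f : Bool) : n * S.j 0 e f * n⁻¹ = S.j 0 e f :=
  conj_eq_of_commute (S.comm_j hz hd (S.s_zero ▸ Commute.one_right n) e f)

omit X in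
theorem sq_d {y : G} (h : IsConj y S.d) : y * y = 1 := by
  obtain ⟨c, e⟩ := isConj_iff.1 h
  have := S.dd
  rwa [← e, conj_mul, conj_eq_one_iff] at this

/-- the conjugates of `d` in `J` -/
theorem c0 (hb : X.RB) (zd : ¬ IsConj S.z S.d) (dx : ¬ IsConj S.d S.xh) {y : G} (hy : y ∈ S.J) (h : IsConj y S.d) :
    ∃ e, y = S.j 0 e true := by
  have h2 := sq_d h
  obtain ⟨a, ha, e, f, rfl⟩ := S.ex_j hy
  by_cases h0 : a = 0
  · subst h0
    cases f
    · cases e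
      · exact (S.d1 (isConj_one_right.1 (S.j_one ▸ h))).elim
      · exact (zd (S.j_z ▸ h)).elim
    · exact ⟨e, rfl⟩
  · have := kc1 X (hb.clJ a ⟨ha, h0, (S.sq_one ha e f).1 h2⟩ e f)
    revert this
    cases (f ^^ sg a) <;> intro this
    exacts [(zd (this.symm.trans h)).elim, (dx (h.symm.trans this)).elim]

/-- the conjugates of `d` in `C(d) ∩ N(J)` outside `J` -/
theorem nfd (ha : X.RA) (hb : X.RB) (zd : ¬ IsConj S.z S.d) (dx : ¬ IsConj S.d S.xh) {y : G} (hy : y ∈ 𝒩(S.J))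
    (hd : Commute y S.d) (hJ : y ∉ S.J) (h : IsConj y S.d) : ∃ n ∈ 𝒩(S.J), Commute n S.d ∧ n * y * n⁻¹ = X.κ := by
  obtain ⟨n, hn, h1, e, f, h2 | h2 | h2⟩ := ha.nf y hy hd hJ (sq_d h)
  · have := kc X h2 (hb.clκ e f)
    cases f
    · cases e
      · exact ⟨n, hn, h1, by rw [h2, S.j_one, mul_one]⟩
      · exact (dx (h.symm.trans this)).elim
    · exact (zd (this.symm.trans h)).elim
  · exact (dx (h.symm.trans (kc X h2 (hb.clw e f)))).elim
  · have := kc X h2 (hb.clβ e f)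
    revert this
    cases (e && !f) <;> intro this
    exacts [(dx (h.symm.trans this)).elim, (zd (this.symm.trans h)).elim]

theorem noSq (ha : X.RA) {y : G} (hy : y ∈ 𝒩(S.J)) (hd : Commute y S.d) (e : Bool) : y * y ≠ S.j 0 e true := by
  intro h
  by_cases hJ : y ∈ S.J
  · rcases S.J_sq hJ with h1 | h1
    · simpa using S.j_inj (by omega) (by omega) (h.symm.trans (h1.trans S.j_one.symm))
    · simpa using S.j_inj (by omega) (by omega) (h.symm.trans (h1.trans S.j_z.symm))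
  · obtain ⟨n, hn, h1, h2⟩ := ha.red y hy hd hJ ⟨_, _, h⟩
    have h3 : n * y * n⁻¹ * (n * y * n⁻¹) = S.j 0 e true := by rw [conj_mul, h, cj0 (S.Nz hn) h1]
    rcases h2 with ⟨a, ha, h4, e', f', h2⟩ | ⟨e', f', h2⟩
    · rw [h2, sqκ X ha h4] at h3
      simpa using (S.j_inj (by omega) (by omega) h3).2.2
    · rw [h2, sqβ X, ← S.j_one] at h3
      simpa using (S.j_inj (by omega) (by omega) h3).2.2

theorem cenT {u : G} (hu : u ∈ X.T) (h : ∀ y ∈ S.J, y * u = u * y) : ∃ e f, u = S.j 0 e f :=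
  S.cent (X.toJ0.mem_J_of_T hu (X.toJ0.r_triv (X.toJ0.TN hu) (mem_sup_right h))) fun _ hb =>
    (h _ (S.s_mem hb)).symm

omit X in
theorem normD {g n : G} (hg : g ∈ 𝒩(S.J)) (hn : n ∈ 𝒩(S.J)) (h : Commute n S.d) : Commute (g * n * g⁻¹) S.d := by
  obtain ⟨c, e⟩ := S.Nd (inv_mem hg)
  have : Commute n (g⁻¹ * S.d * g⁻¹⁻¹) := e ▸ h.mul_right (zb_comm (S.Nz hn) c)
  simpa [mul_assoc] using commute_conj (g := g) this

theorem zd [Finite G] (hs : X.SY) (ha : X.RA) : ¬ IsConj S.z S.d := by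
  intro h
  have mC : ∀ {y : G}, y ∈ centralizer ({S.d} : Set G) ↔ Commute y S.d := mem_centralizer_singleton_iff
  set D : Subgroup G := 𝒩(S.J) ⊓ centralizer ({S.d} : Set G) with hD
  have s1 : IsSylowIn 2 (X.T ⊓ D) D := syl_inf_of_norm (X.full ▸ X.syl) inf_le_left (le_norm_of_cj_le fun g hg => by
    rintro _ ⟨n, hn, rfl⟩
    exact mem_inf.2 ⟨mul_mem (mul_mem (TJ X hg) hn.1) (inv_mem (TJ X hg)), mC.2 (normD (TJ X hg) hn.1 (mC.1 hn.2))⟩)
  have hJ : S.J ≤ X.T ⊓ D := fun y hy => ⟨X.JT hy, le_normalizer hy, mC.2 (S.Jd hy)⟩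
  have s2 : IsSylowIn 2 (X.T ⊓ D) (centralizer ({S.d} : Set G)) := by
    refine isSylowIn_of_maximal (inf_le_right.trans inf_le_right) s1.isPGroup fun U hU h1 h2 => ?_
    by_contra hne
    obtain ⟨g, ⟨gU, gN⟩, hg⟩ := SetLike.exists_of_lt (lt_inf_normalizer_of_isPGroup hU (lt_of_le_of_ne h1 (Ne.symm hne)))
    obtain ⟨e, f, h3⟩ := cenT X (conj_mem gN (hJ S.zJ)).1 fun y hy => by
      have := commute_conj (g := g) (S.Nz (conj_mem' gN (hJ hy)).2.1)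
      simpa [mul_assoc] using this.eq
    have h4 : Commute g S.z := by
      cases f
      · cases e
        · exact (S.z1 (conj_eq_one_iff.1 (h3.trans S.j_one))).elim
        · exact mul_inv_eq_iff_eq_mul.1 (h3.trans S.j_z)
      · have h5 := conj_mem gN (hJ (S.j_mem (a := 1) (by omega) false false))
        refine (noSq X ha h5.2.1 (mC.1 h5.2.2) e ?_).elim
        rw [conj_mul, S.j_sq (by omega), dec1.2.2.2.2.2.2.2.1, S.j_z, h3]
    have h5 : g ∈ 𝒩(S.J) := cj_eq_iff_mem.1 (hs.wJ g h4 ((cj_le_of_le hJ gN).trans (inf_le_right.trans inf_le_left)))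
    exact hg (s1.eq_of_le (U := U ⊓ D) (hU.to_le inf_le_left) (le_inf h1 inf_le_right) inf_le_right ▸
      (⟨gU, h5, h2 gU⟩ : g ∈ U ⊓ D))
  obtain ⟨c, hc⟩ := isConj_iff.1 h
  have h1 := s2.card_le (isPGroup_cj X.syl.isPGroup c) (by
    rintro _ ⟨y, hy, rfl⟩
    exact mC.2 (hc ▸ commute_conj (g := c) (S.Nz (TJ X hy))))
  rw [card_cj] at h1
  have h2 : X.T ⊓ D = X.T := eq_of_le_of_card_ge inf_le_left h1
  exact X.toCM.not_td (mC.1 (h2.ge X.toCM.tT).2.2)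

theorem zx [Finite G] (hv : X.VV) (ha : X.RA) (hb : X.RB) (zd : ¬ IsConj S.z S.d) : ¬ IsConj S.z S.xh := by
  intro h
  have dx : ¬ IsConj S.d S.xh := fun e => zd (h.trans e.symm)
  obtain ⟨g, hg⟩ := isConj_iff.1 h
  obtain ⟨n, hn, h1, -⟩ := hv.ctl _ (zV X) g (hg ▸ xV X)
  rw [hg] at h1
  have v1 := conj_mem hn (dV X)
  have c1 : IsConj (n * S.d * n⁻¹) S.d := (isConj_conj (IsConj.refl _) n).symm
  have c2 : IsConj (n * S.d * n⁻¹ * S.xh) S.d := by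
    rw [← h1, conj_mul, ← S.zd.eq, ← S.j_zd]
    exact (isConj_conj (kc1 X (hb.cld true)).symm n).symm
  generalize n * S.d * n⁻¹ = x at v1 c1 c2
  by_cases hJ : x ∈ S.J
  · obtain ⟨e, rfl⟩ := c0 X hb zd dx hJ c1
    obtain ⟨e', h2⟩ := c0 X hb zd dx (mul_mem hJ (S.IJ (S.j_xh ▸ S.j_I (by decide) false true))) c2
    rw [← S.j_xh, S.j_mul (by omega) (by omega)] at h2
    exact absurd (S.j_inj (by decide) (by omega) h2).1 (by decide)
  obtain ⟨n1, hn1, -, h2⟩ := nfd X ha hb zd dx (VJ X v1) (Vd X v1) hJ c1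
  obtain ⟨e, f, h3, h4⟩ := X.toJ0.act (X.full ▸ hn1) (a := 85) (by omega) false true
  have hi := X.md.iso (X.r n1) dec1.2.2.1
  replace h4 := h4 dec1.2.2.1
  generalize ap (m (X.r n1)) 85 = a at h3 h4 hi
  rw [S.j_xh] at h3
  have h5 : n1 * (x * S.xh) * n1⁻¹ = X.κ * S.j a e f := by rw [← conj_mul, h2, h3]
  have h6 : Commute X.κ (S.j a e f) := h2 ▸ h3 ▸ commute_conj (Md.comm_of_sq hv.sq v1 (xV X))
  have h7 : ap t0 a = a := X.rκ ▸ X.toJ0.fix (X.toJ0.TN X.κT) hi.1 (conj_eq_of_commute h6)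
  by_cases hF : a ∈ FF 85
  · obtain ⟨b, hb', e1, e2⟩ := dec1.2.1 a hF hi.2.1
    obtain ⟨e', h8⟩ := X.toCM.act_κ.1 b hb'
    have ki : X.κ⁻¹ = X.κ := inv_eq_of_mul_eq_one_right X.κκ
    have h9 : S.s b * n1 * (x * S.xh) * (S.s b * n1)⁻¹ = X.κ * (X.κ * S.s b * X.κ⁻¹ * S.j a e f * (S.s b)⁻¹) := by
      calc _ = S.s b * (n1 * (x * S.xh) * n1⁻¹) * (S.s b)⁻¹ := by group
        _ = X.κ * X.κ * S.s b * (X.κ⁻¹ * S.j a e f) * (S.s b)⁻¹ := by rw [h5, X.κκ, one_mul, ki]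
        _ = _ := by group
    have e3 : ap t0 b ^^^ a ^^^ b = 0 := by
      rw [← e1, ← Nat.xor_assoc, Nat.xor_self, Nat.zero_xor, Nat.xor_self]
    have e4 : (BB b 85 ^^ f ^^ false) = true := by
      rw [e2, Bool.xor_false, Bool.xor_comm, h4, cp_consts.2.2.2.2.2.2]; rfl
    rw [h8] at h9
    conv_rhs at h9 => rw [← S.j_s, S.j_inv hb', S.j_mul (ap_lt _ _) hi.1, S.j_mul (xor_lt (ap_lt _ _) hi.1) hb', e3, e4]
    exact zd ((kc X h9 (hb.clκ _ true)).symm.trans c2)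
  · obtain ⟨n2, -, -, e', f', h8⟩ := ha.redw a hi.1 h7 hi.2.2 hF e f
    refine dx (c2.symm.trans (kc X (n := n2 * n1) ?_ (hb.clw e' f')))
    rw [← h8, ← h5]; group

theorem dx [Finite G] (hv : X.VV) (ha : X.RA) (hb : X.RB) (zd : ¬ IsConj S.z S.d) (zx : ¬ IsConj S.z S.xh) :
    ¬ IsConj S.d S.xh := by
  intro h
  obtain ⟨g, hg⟩ := isConj_iff.1 h.symm
  obtain ⟨n, hn, h1, -⟩ := hv.ctl _ (xV X) g (hg ▸ dV X)
  rw [hg] at h1
  have v1 := conj_mem hn (jV X (a := 10) (by decide) false false)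
  have c1 : IsConj S.z (n * S.j 10 false false * n⁻¹) := by
    have := kc1 X (hb.clJ 10 dec1.2.2.2.1 false false)
    rw [dec1.2.2.2.2.2.1] at this
    exact isConj_conj this.symm n
  have c2 : IsConj S.z (n * S.j 10 false false * n⁻¹ * S.d) := by
    rw [← h1, conj_mul, ← S.j_xh, S.j_mul (by omega) (by omega)]
    have := kc1 X (hb.clJ 95 dec1.2.2.2.2.1 (be 10 85 ^^ (false ^^ false)) true)
    rw [dec1.2.2.2.2.2.2.1] at this
    exact isConj_conj this.symm n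
  generalize n * S.j 10 false false * n⁻¹ = x at v1 c1 c2
  by_cases hJ : x ∈ S.J
  · obtain ⟨a, ha', e, f, rfl⟩ := S.ex_j hJ
    rw [S.j_mul_d] at c2
    by_cases h0 : a = 0
    · subst h0
      cases f
      exacts [zd (c2.trans (kc1 X (hb.cld e))), zd (c1.trans (kc1 X (hb.cld e)))]
    · have hi : Iso a := ⟨ha', h0, (S.sq_one ha' e f).1 (hv.sq _ v1)⟩
      have k1 := c1.trans (kc1 X (hb.clJ a hi e f))
      have k2 := c2.trans (kc1 X (hb.clJ a hi e (!f)))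
      revert k1 k2
      cases f <;> cases sg a <;> intro k1 k2
      exacts [zx k2, zx k1, zx k1, zx k2]
  obtain ⟨n1, -, hd, e, f, h2⟩ := ha.nf x (VJ X v1) (Vd X v1) hJ (hv.sq _ v1)
  have h3 : n1 * (x * S.d) * n1⁻¹ = n1 * x * n1⁻¹ * S.d := by rw [← conj_mul, conj_eq_of_commute hd]
  rcases h2 with h2 | h2 | h2
  · rw [h2, mul_assoc X.κ, S.j_mul_d] at h3
    have k1 := c1.trans (kc X h2 (hb.clκ e f))
    have k2 := c2.trans (kc X h3 (hb.clκ e (!f)))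
    revert k1 k2
    cases f <;> cases e <;> intro k1 k2
    exacts [zd k1, zx k1, zd k2, zx k2]
  · exact zx (c1.trans (kc X h2 (hb.clw e f)))
  · rw [h2, mul_assoc X.β, S.j_mul_d] at h3
    have k1 := c1.trans (kc X h2 (hb.clβ e f))
    have k2 := c2.trans (kc X h3 (hb.clβ e (!f)))
    revert k1 k2
    cases f <;> cases e <;> intro k1 k2
    exacts [zx k1, zx k2, zx k1, zx k1]

end Dx

theorem d3x : D3X.{u} := fun _ _ _ _ _ _ _ X hs hv ha hb =>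
  have h1 := Dx.zd X hs ha
  have h2 := Dx.zx X hv ha hb h1
  ⟨h1, h2, Dx.dx X hv ha hb h1 h2⟩

end CL.F6
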