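/-
Project F6 (helper26), jobs G2A and G2G1: Sylow arguments in `N(J)`.
-/
import Cfsg.Agent.F6.JD

set_option autoImplicit false

namespace CL.F6

open Subgroup CL.Even CL.Grp CL.U6 CL.Fc CL.MT Cfsg

universe u

theorem g2a_dec : c0 ∈ RF ∧ mm (tv 245) s3 ≠ mm s3 (tv 245) ∧ mm (tv 245) s5 ≠ mm s5 (tv 245) ∧ Iso 85 ∧
    ∀ B ∈ [c0, s1, s3, s5], ∃ Y ∈ [I8, 9241421688489445380, 4262204996417898189, 4479218866423613895],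
      Y ∈ TL ∧ mm Y B = mm c0 Y := by decide +kernel

variable {G : Type u} {Γ : Type} [Group G] [Finite G] [Group Γ] {S : JB G} {m : Γ → ℕ}

theorem g2a_F (C : CM S m) {g : G} (hJ : g ∈ 𝒩(S.J)) (hT : g ∈ 𝒩(C.T)) :
    m (C.r (g * C.t * g⁻¹)) ∈ [c0, s1, s3, s5] :=
  RF_T2 _ (C.toJ0.refl hJ (C.toJ0.TN C.tT) (C.rt ▸ g2a_dec.1) (C.toJ0.TN (conj_mem hT C.tT))
    (by rw [mul_inv_cancel]; exact one_mem _)) (C.md.mem_T2 (C.rT (conj_mem hT C.tT)))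

theorem g2a_F0 (C : CM S m) {g : G} (hJ : g ∈ 𝒩(S.J)) (hp : g * C.t * g⁻¹ ∈ C.T)
    (e : C.r (g * C.t * g⁻¹) = C.r C.t) : g ∈ 𝒩(C.A) :=
  C.mem_NA hJ (C.toJ0.mem_J_of_T (mul_mem hp (inv_mem C.tT)) (by
    rw [C.r_mul (C.toJ0.TN hp) (inv_mem (C.toJ0.TN C.tT)), C.toJ0.r_inv (C.toJ0.TN C.tT), e, mul_inv_cancel]))

theorem g2a : G2A.{u} := fun wl G Γ _ _ _ S m P hn => by
  obtain ⟨g, -, hT, hg, hgg, h2⟩ := exists_up P.syl.isPGroup le_top hn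
  have TJ : ∀ y ∈ P.T, y ∈ 𝒩(S.J) := fun y hy => P.toJ0.NJ (P.toJ0.TN hy)
  have hz : Commute g S.z := by
    have h1 : ∀ y ∈ P.T, y * (g * S.z * g⁻¹) = g * S.z * g⁻¹ * y := fun y hy => by
      calc _ = g * (g⁻¹ * y * g * S.z) * g⁻¹ := by group
        _ = _ := by rw [(S.Nz (TJ _ (conj_mem' hT hy))).eq]; group
    obtain ⟨k, hk⟩ := IsPGroup.pw P.syl.isPGroup (conj_mem hT (P.JT S.zJ))
    rcases P.toCM.cent_two (fun y hy => h1 y (P.JT hy)) (h1 _ P.toCM.tT).symm hk with e | e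
    · exact (S.z1 (conj_eq_one_iff.1 e)).elim
    · exact mul_inv_eq_iff_eq_mul.1 e
  have hJ : g ∈ 𝒩(S.J) := cj_eq_iff_mem.1 (wl G Γ S m P.toJM g hz (by
    rintro _ ⟨y, hy, rfl⟩
    exact conj_mem hT (P.JT hy)))
  have hp := conj_mem hT P.toCM.tT
  have hF := g2a_F P.toCM hJ hT
  obtain ⟨y, hy, ey⟩ := P.k2
  have hc : mm (tv 245) (m (P.r (g * P.t * g⁻¹))) = mm (m (P.r (g * P.t * g⁻¹))) (tv 245) := by
    have h3 := conj_mem' hT hy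
    have h4 := P.toJ0.r_J (conj_mem hJ (P.toCM.t_cent (P.sylA.le h3) (TJ _ h3)))
    rw [show g * (g⁻¹ * y * g * P.t * (g⁻¹ * y * g)⁻¹ * P.t⁻¹) * g⁻¹ =
      y * (g * P.t * g⁻¹) * y⁻¹ * (g * P.t * g⁻¹)⁻¹ by group,
      P.r_mul (P.toJ0.TN (conj_mem (le_normalizer hy) hp)) (inv_mem (P.toJ0.TN hp)), P.toJ0.r_inv (P.toJ0.TN hp),
      P.toJ0.r_conj (P.toJ0.TN hy) (P.toJ0.TN hp), mul_inv_eq_one, mul_inv_eq_iff_eq_mul] at h4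
    rw [← ey, ← P.md.mul, ← P.md.mul, h4]
  simp only [List.mem_cons, List.not_mem_nil, or_false] at hF
  rcases hF with e | e | e | e
  · refine (hg ?_).elim
    rw [← P.sylA.eq_of_le h2 le_sup_left
      (sup_le P.sylA.le (zpowers_le.2 (g2a_F0 P.toCM hJ hp (P.md.inj (e.trans P.rt.symm)))))]
    exact mem_sup_right (mem_zpowers g)
  · refine ⟨g, hJ, _, P.toJ0.TN hp, e, by rw [mul_inv_cancel]; exact one_mem _, ?_⟩
    have := P.toCM.t_cent (P.sylA.le hgg) (TJ _ hgg)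
    rwa [show g * g * P.t * (g * g)⁻¹ = g * (g * P.t * g⁻¹) * g⁻¹ by group] at this
  · exact (g2a_dec.2.1 (e ▸ hc)).elim
  · exact (g2a_dec.2.2.1 (e ▸ hc)).elim

/-- `c` maps the class `(a, f)` of `J / ⟨z⟩` to `(b, f')` -/
def G2Mv (S : JB G) (c : G) (a : ℕ) (f : Bool) (b : ℕ) (f' : Bool) : Prop :=
  ∃ e e', c * S.j a e f * c⁻¹ = S.j b e' f'

namespace G2Mv
variable {c c' : G} {a b b' : ℕ} {f f' f'' : Bool}

omit [Finite G]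

theorem all (h : G2Mv S c a f b f') (hc : c ∈ 𝒩(S.J)) (e : Bool) : ∃ e', c * S.j a e f * c⁻¹ = S.j b e' f' := by
  obtain ⟨e1, e2, h⟩ := h
  by_cases k : e = e1
  · exact ⟨e2, k ▸ h⟩
  · refine ⟨!e2, ?_⟩
    rw [Bool.eq_not_iff.2 k, ← S.j_mul_z, ← S.j_mul_z, ← conj_mul, h, conj_eq_of_commute (S.Nz hc)]

theorem mul (h : G2Mv S c a f b f') (h' : G2Mv S c' b f' b' f'') (hc : c' ∈ 𝒩(S.J)) : G2Mv S (c' * c) a f b' f'' := by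
  obtain ⟨e1, e2, h⟩ := h
  obtain ⟨e3, h'⟩ := h'.all hc e2
  exact ⟨e1, e3, by rw [← h', ← h]; group⟩

theorem inv (h : G2Mv S c a f b f') : G2Mv S c⁻¹ b f' a f := by
  obtain ⟨e1, e2, h⟩ := h
  exact ⟨e2, e1, by rw [← h]; group⟩

theorem uniq (h : G2Mv S c a f b f') (h' : G2Mv S c a f b' f'') (hc : c ∈ 𝒩(S.J)) (hb : b < 256) (hb' : b' < 256) :
    b = b' ∧ f' = f'' := by
  obtain ⟨e1, e2, h⟩ := h
  obtain ⟨e3, h'⟩ := h'.all hc e1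
  have := S.j_inj hb hb' (h.symm.trans h')
  exact ⟨this.1, this.2.2⟩

end G2Mv

theorem g2g1_act (X : J0 S m) {n : G} (h : n ∈ X.Nn) {a : ℕ} (ha : Iso a) (f : Bool) :
    G2Mv S n a f (ap (m (X.r n)) a) ((f ^^ sg a) ^^ sg (ap (m (X.r n)) a)) := by
  obtain ⟨e', f', h1, h2⟩ := X.act h ha.1 false f
  refine ⟨false, e', ?_⟩
  rw [h1, ← h2 ha]
  simp

theorem g2g1_N (X : XM S m) {g : G} (hJ : g ∈ 𝒩(S.J)) (hT : g ∈ 𝒩(X.T)) : g ∈ X.Nn := by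
  obtain ⟨Y, -, hY, e⟩ := g2a_dec.2.2.2.2 _ (g2a_F X.toCM hJ hT)
  obtain ⟨γ, hγ, rfl⟩ := X.md.exists_TL Y hY
  obtain ⟨y, hy, rfl⟩ := X.onT γ hγ
  have hp := conj_mem hT X.toCM.tT
  have hy' := X.toJ0.TN hy
  have e1 : y * g * X.t * (y * g)⁻¹ = y * (g * X.t * g⁻¹) * y⁻¹ := by group
  have h1 := mul_mem (X.toJ0.NJ hy') hJ
  refine (mul_mem_cancel_left hy').1 (X.hA ⟨g2a_F0 X.toCM h1 (e1 ▸ conj_mem (le_normalizer hy) hp) ?_, h1⟩)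
  rw [← X.rt, ← X.md.mul, ← X.md.mul] at e
  rw [e1, X.toJ0.r_conj hy' (X.toJ0.TN hp), X.md.inj e, mul_inv_cancel_right]

theorem g2g1_S (X : XM S m) : IsSylowIn 2 X.T 𝒩(S.J) := by
  by_contra hn
  obtain ⟨g, hJ, hT, hg, -, h2⟩ := exists_up X.syl.isPGroup (fun y hy => X.toJ0.NJ (X.toJ0.TN hy)) hn
  refine hg ?_
  rw [← X.syl.eq_of_le h2 le_sup_left (sup_le X.syl.le (zpowers_le.2 (g2g1_N X hJ hT)))]
  exact mem_sup_right (mem_zpowers g)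

theorem g2g1_O (X : XM S m) {n : G} (hn : n ∈ 𝒩(S.J)) : ¬ G2Mv S n 85 false 85 true := fun h => by
  have hT : ∀ y ∈ X.T, ∀ f, G2Mv S y 85 f 85 f := fun y hy f => by
    have := g2g1_act X.toJ0 (X.toJ0.TN hy) g2a_dec.2.2.2.1 f
    rw [X.md.TT_fix (X.rT hy)] at this
    simpa using this
  have TJ : ∀ y ∈ X.T, y ∈ 𝒩(S.J) := fun y hy => X.toJ0.NJ (X.toJ0.TN hy)
  let St : Subgroup G :=
    { carrier := {c | c ∈ 𝒩(S.J) ∧ G2Mv S c 85 true 85 true}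
      one_mem' := ⟨one_mem _, hT 1 (one_mem _) _⟩
      mul_mem' := fun ha hb => ⟨mul_mem ha.1 hb.1, hb.2.mul ha.2 ha.1⟩
      inv_mem' := fun ha => ⟨inv_mem ha.1, ha.2.inv⟩ }
  obtain ⟨k, hk, h1⟩ := syl_conj_le ((g2g1_S X).of_le (K := St) (fun y hy => ⟨TJ y hy, hT y hy _⟩) fun _ h => h.1)
    (isPGroup_cj X.syl.isPGroup n) (by
      rintro _ ⟨y, hy, rfl⟩
      exact ⟨conj_mem (le_normalizer hn) (TJ y hy), show G2Mv S (n * y * n⁻¹) _ _ _ _ from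
        (mul_assoc n y n⁻¹).symm ▸ (h.inv.mul (hT y hy _) (TJ y hy)).mul h hn⟩)
  have h2 := mul_mem hk.1 hn
  obtain ⟨e1, e2⟩ := (h.mul hk.2 hk.1).uniq (g2g1_act X.toJ0 (g2g1_N X h2 (mem_norm_of_cj_le ((Even.cj_mul k n _).le.trans h1)))
    g2a_dec.2.2.2.1 false) h2 (by omega) (ap_lt _ _)
  rw [← e1] at e2
  simp at e2

theorem g2g1 {G : Type u} {Γ : Type} [Group G] [Finite G] [Group Γ] {S : JB G} {m : Γ → ℕ} (X : XM S m) {n : G}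
    (hn : n ∈ 𝒩(S.J)) : Cp (S.mx n) (S.lx n) := by
  refine ⟨(JB.mx_spec hn).2.1, fun a ha hi => ?_⟩
  have hi' := (JB.mx_spec hn).2.2.iso hn hi
  obtain ⟨γ, -, e⟩ := X.md.exists_85 hi
  obtain ⟨γ', -, e'⟩ := X.md.exists_85 hi'
  obtain ⟨u, hu, rfl⟩ := X.surj γ
  obtain ⟨u', hu', rfl⟩ := X.surj γ'
  have h1 := g2g1_act X.toJ0 hu hi (sg a)
  have h2 : G2Mv S n a (sg a) _ _ := ⟨false, JB.mx_conj_j hn ha false _⟩
  have h3 := g2g1_act X.toJ0 hu' hi' (sg a ^^ BB a (S.lx n))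
  rw [e, cp_consts.2.2.2.2.2.2, Bool.xor_self, Bool.xor_false] at h1
  rw [e', cp_consts.2.2.2.2.2.2, Bool.xor_false] at h3
  have h4 := (h1.inv.mul h2 hn).mul h3 (X.toJ0.NJ hu')
  have h5 := g2g1_O X (mul_mem (X.toJ0.NJ hu') (mul_mem hn (inv_mem (X.toJ0.NJ hu))))
  revert h4 h5
  cases sg a <;> cases BB a (S.lx n) <;> cases sg (ap (S.mx n) a) <;> simp

end CL.F6
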