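/-
Project F6: the seventh reflection.
-/
import Cfsg.Agent.F6.JD

set_option autoImplicit false

namespace CL.F6

open Subgroup CL.Even CL.Grp CL.U6 CL.Fc CL.MT Cfsg

universe u

namespace G2e

def R6 : List ℕ := [1161999622395332620, 2244287426028894300, 2319495370234790920, 3401783173868352600,
  3463479494608751620, 4545767298242313300]

def R2 : ℕ := 2100449348976605340
def R3 : ℕ := 10548385356668439245
def R4 : ℕ := 10476050703149648525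
def Bm : ℕ := 11533701100133244935
def Bi : ℕ := 13274985086798090597
def UU : ℕ := 2826447228406785144

def FX (x y : ℕ) : ℕ := mk8 x (ap s1 x) (ap s5 x) (ap s1 (ap s5 x)) y (ap s1 y) (ap s5 y) (ap s1 (ap s5 y))

theorem dec1 : (∀ B ∈ [s3, s4, s5], B ∈ RC ∧ B ∈ RF ∧ B < 2 ^ 64 ∧ mm B s1 = mm s1 B ∧ mm B c0 = mm c0 B ∧ B ≠ s1 ∧ B ≠ c0) ∧
    (∀ A ∈ RF, mm A c0 = mm c0 A → mm A s1 = mm s1 A → A ≠ c0 → A ≠ s1 → A ∈ R6) ∧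
    mm s3 s4 ≠ mm s4 s3 ∧ mm s4 s5 ≠ mm s5 s4 ∧ mm s3 s5 = mm s5 s3 ∧ s3 ≠ s5 ∧ c0 < 2 ^ 64 ∧ s1 < 2 ^ 64 ∧
    s2 ∈ RC ∧ ∀ B ∈ RC, mm B c0 = mm c0 B ∧ mm B B = I8 ∧ sl B = true := by
  decide +kernel

theorem dec2 : ∀ A3 ∈ R6, ∀ A4 ∈ R6, ∀ A5 ∈ R6, mm A3 A4 ≠ mm A4 A3 → mm A4 A5 ≠ mm A5 A4 → mm A3 A5 = mm A5 A3 →
    A3 ≠ A5 → ∃ B ∈ RC, mm B (mm s1 B) = mm s1 (mm B s1) ∧ mm B (mm A3 B) = mm A3 (mm B A3) ∧ mm B A4 = mm A4 B ∧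
      mm B A5 = mm A5 B := by
  decide +kernel

theorem dec3 : mm Bm Bi = I8 ∧ ap s4 7 = 7 ∧ ap s4 10 = 10 ∧ col Bm 0 = 7 ∧ col Bm 8 = ap s1 7 ∧ col Bm 16 = ap s5 7 ∧
    col Bm 24 = ap s1 (ap s5 7) ∧ col Bm 32 = 10 ∧ col Bm 40 = ap s1 10 ∧ col Bm 48 = ap s5 10 ∧
    col Bm 56 = ap s1 (ap s5 10) := by
  decide +kernel

theorem dec4 : ∀ x < 256, ap s4 x = x → ∀ y < 256, ap s4 y = y → mm (mm (FX x y) Bi) (mm (FX x y) Bi) = I8 →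
    mm (mm (FX x y) Bi) (mm c0 (mm (FX x y) Bi)) = mm c0 (mm (mm (FX x y) Bi) c0) →
    mm (mm (FX x y) Bi) (mm s3 (mm (FX x y) Bi)) = mm s3 (mm (mm (FX x y) Bi) s3) →
    mm (FX x y) Bi ∈ [R1, R2, R3, R4] := by
  decide +kernel

theorem dec5 : (∀ l < 256, Cp (mm s4 s5) l → l = 0) ∧ (∀ l < 256, Cp UU l → l = 65) ∧ Cp R1 0 ∧
    (∀ l < 256, (∀ a < 256, BB (ap (mm s4 s5) a) l = BB a l) → l = 0) ∧ mm (mm s2 s3) s2 = UU ∧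
    mm (mm c0 R2) c0 = R1 ∧ sl R1 = true ∧
    ∀ M ∈ [R3, R4], mm (mm UU M) (mm UU M) = I8 ∧ (BB (ap M 1) 65 ^^ BB (ap M (ap (mm UU M) 1)) 65) = true := by
  unfold Cp; decide +kernel

theorem four {M : ℕ} (hM : M < 2 ^ 64) (h1 : mm M s1 = mm s1 M) (h4 : mm M s4 = mm s4 M) (h5 : mm M s5 = mm s5 M)
    (h2 : mm M M = I8) (h0 : mm M (mm c0 M) = mm c0 (mm M c0)) (h3 : mm M (mm s3 M) = mm s3 (mm M s3)) :
    M ∈ [R1, R2, R3, R4] := by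
  have k : ∀ {s : ℕ}, mm M s = mm s M → ∀ a, ap M (ap s a) = ap s (ap M a) := fun h a => by rw [← ap_mm, h, ap_mm]
  obtain ⟨d0, d1, d2, e0, e1, e2, e3, e4, e5, e6, e7⟩ := dec3
  have e : mm M Bm = FX (ap M 7) (ap M 10) := by
    rw [mm, e0, e1, e2, e3, e4, e5, e6, e7, k h1, k h1, k h1, k h1, k h5, k h5, FX]
  have e' : mm (FX (ap M 7) (ap M 10)) Bi = M := by rw [← e, mm_assoc, d0, mm_I8 hM]
  have := dec4 _ (ap_lt M 7) (by rw [← k h4, d1]) _ (ap_lt M 10) (by rw [← k h4, d2])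
  rw [e'] at this
  exact this h2 h0 h3

theorem code {A A' : ℕ} (hA : A < 2 ^ 64) (h1 : mm A' A = I8) (h2 : mm A A' = I8) (e0 : ph A A' c0 = s1)
    (e1 : ph A A' s1 = c0) (h : ∀ B ∈ [s3, s4, s5], ph A' A B ∈ RF) : ∃ B ∈ RC, ph A A' B ∈ [R1, R2, R3, R4] ∧
      mm (ph A A' B) s4 = mm s4 (ph A A' B) ∧ mm (ph A A' B) s5 = mm s5 (ph A A' B) := by
  obtain ⟨d1, d2, d34, d45, d35, d35', l0, l1, -, d3⟩ := dec1
  have f0 : ph A' A s1 = c0 := by rw [← e0, ph_ph h1 l0]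
  have f1 : ph A' A c0 = s1 := by rw [← e1, ph_ph h1 l1]
  have inj : ∀ {X Y : ℕ}, X < 2 ^ 64 → Y < 2 ^ 64 → ph A' A X = ph A' A Y → X = Y := fun hX hY e => by
    rw [← ph_ph h2 hX, e, ph_ph h2 hY]
  have k : ∀ B ∈ [s3, s4, s5], ph A' A B ∈ R6 := fun B hB => by
    obtain ⟨-, -, b1, b2, b3, b4, b5⟩ := d1 B hB
    refine d2 _ (h B hB) ?_ ?_ (fun e => b4 (inj b1 l1 (e.trans f0.symm))) fun e => b5 (inj b1 l0 (e.trans f1.symm))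
    · rw [← f0, ← ph_mul h2, ← ph_mul h2, b2]
    · conv_lhs => rw [← f1, ← ph_mul h2, b3, ph_mul h2, f1]
  obtain ⟨B, hB, b1, b3, b4, b5⟩ := dec2 _ (k s3 (by simp)) _ (k s4 (by simp)) _ (k s5 (by simp))
    (fun e => d34 (inj (mm_lt _ _) (mm_lt _ _) (by rw [ph_mul h2, ph_mul h2, e])))
    (fun e => d45 (inj (mm_lt _ _) (mm_lt _ _) (by rw [ph_mul h2, ph_mul h2, e])))
    (by rw [← ph_mul h2, ← ph_mul h2, d35])
    fun e => d35' (inj (d1 s3 (by simp)).2.2.1 (d1 s5 (by simp)).2.2.1 e)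
  obtain ⟨b6, b7, -⟩ := d3 B hB
  replace b1 := congrArg (ph A A') b1
  replace b3 := congrArg (ph A A') b3
  replace b4 := congrArg (ph A A') b4
  replace b5 := congrArg (ph A A') b5
  replace b6 := congrArg (ph A A') b6
  replace b7 := congrArg (ph A A') b7
  simp only [ph_mul h1, e0, e1, ph_ph h2 (d1 s3 (by simp)).2.2.1, ph_ph h2 (d1 s4 (by simp)).2.2.1,
    ph_ph h2 (d1 s5 (by simp)).2.2.1, ph_I8 h2 hA] at b1 b3 b4 b5 b6 b7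
  exact ⟨B, hB, four (mm_lt _ _) b6 b4 b5 b7 b1 b3, b4, b5⟩

variable {G : Type u} {Γ : Type} [Group G] [Group Γ] {S : JB G} {m : Γ → ℕ}

theorem toolC {D : PD S} (cf : CF D) {x y : G} (hx : x ∈ 𝒩(S.J)) (hy : y ∈ 𝒩(S.J))
    (h : mm (S.mx x) (S.mx y) = mm (S.mx y) (S.mx x)) : x * y * x⁻¹ * y⁻¹ ∈ S.J ⊔ S.OJ := by
  rw [show x * y * x⁻¹ * y⁻¹ = x * y * (y * x)⁻¹ by group]
  refine cf.mx_ker (mul_mem (mul_mem hx hy) (inv_mem (mul_mem hy hx))) ?_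
  rw [JB.mx_mul (mul_mem hx hy) (inv_mem (mul_mem hy hx)), JB.mx_mul hx hy, h, ← JB.mx_mul hy hx,
    (JB.mx_inv (mul_mem hy hx)).2]

theorem toolL {k x : G} (hk : k ∈ S.J ⊔ S.OJ) (hx : x ∈ 𝒩(S.J)) {a : ℕ} (ha : a < 256) :
    BB a (S.lx (k * x)) = BB a (S.lx x) := by
  rw [(JB.mx_mul' (S.K_N hk) hx).2 a ha, (JB.mx_triv (S.K_le hk)).2, BB_zero', Bool.xor_false]

theorem fin {n : G} (hn : n ∈ 𝒩(S.J)) (h1 : S.mx n = R1) (h2 : S.lx n = 0) (h3 : ¬ Commute n S.d) : S.Ac n R1 := by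
  obtain ⟨c, hc⟩ := S.Nd hn
  refine ⟨S.Nz hn, ?_, 0, dec5.2.2.1, h1 ▸ h2 ▸ (JB.mx_spec hn).2.2⟩
  cases c
  · exact (h3 (mul_inv_eq_iff_eq_mul.1 (hc.trans (mul_one _)))).elim
  · rw [hc, dec5.2.2.2.2.2.2.1]

theorem main [Finite G] (P : PM S m) (cf : CF P.toPD) (h : SW P) : ∃ n, S.Ac n R1 := by
  obtain ⟨g, hg, p, hp, hs, h1, h2⟩ := h
  have NJ : ∀ {n : G}, n ∈ P.Nn → n ∈ 𝒩(S.J) := P.toJ0.NJ
  have tN := NJ (P.toJ0.TN P.toCM.tT)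
  have ti : P.t⁻¹ = P.t := inv_eq_of_mul_eq_one_right P.toCM.tt
  obtain ⟨t1, t2⟩ := JB.mx_eq tN P.toCM.act_t.1 dec1.2.2.2.2.2.2.1 (by omega)
  have p1 : S.mx p = s1 := (P.toJ0.mx hp).1.trans hs
  have e0 : ph (S.mx g) (S.mx g⁻¹) c0 = s1 := by
    rw [← t1, ← JB.mx_conj hg tN, JB.mx_congr (NJ hp) (mem_sup_left h1), p1]
  have e1 : ph (S.mx g) (S.mx g⁻¹) s1 = c0 := by
    rw [← p1, ← JB.mx_conj hg (NJ hp), JB.mx_congr tN (mem_sup_left h2), t1]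
  obtain ⟨B, hB, b1, b4, b5⟩ := code (JB.mx_spec hg).1 (JB.mx_inv hg).1 (JB.mx_inv hg).2 e0 e1 fun B hB => by
    obtain ⟨b1, b2, -, b3, -⟩ := dec1.1 B hB
    obtain ⟨q, hq, e⟩ := P.img B b1
    have ha := conj_mem (le_normalizer (inv_mem hg)) (NJ hq)
    have e2 : S.mx (g⁻¹ * q * g⁻¹⁻¹) = ph (S.mx g⁻¹) (S.mx g) B := by
      rw [JB.mx_conj (inv_mem hg) (NJ hq), inv_inv, (P.toJ0.mx hq).1, e]
    have f0 : ph (S.mx g⁻¹) (S.mx g) s1 = c0 := by rw [← e0, ph_ph (JB.mx_inv hg).1 dec1.2.2.2.2.2.2.1]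
    obtain ⟨o, ho, h3⟩ := cf.ct _ ha (toolC cf ha tN (by
      rw [e2, t1, ← f0, ← ph_mul (JB.mx_inv hg).2, ← ph_mul (JB.mx_inv hg).2, b3]))
    have ho' := S.K_N (mem_sup_right ho)
    have h4 : g⁻¹ * q * g⁻¹⁻¹ * o ∈ P.Nn := P.hN ▸ ⟨h3, mul_mem ha ho'⟩
    have := P.toJ0.refl (inv_mem hg) hq (e ▸ b2) h4 (mem_sup_right (S.OJ_le (conj_mem (S.N_OJ ha) ho)))
    rwa [← (P.toJ0.mx h4).1, JB.mx_mul ha ho', (JB.mx_triv (S.K_le (mem_sup_right ho))).1,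
      mm_I8 (JB.mx_spec ha).1, e2] at this
  obtain ⟨n', hn', e⟩ := P.img B hB
  have hn := conj_mem (le_normalizer hg) (NJ hn')
  have hd : ¬ Commute (g * n' * g⁻¹) S.d := JB.not_comm_conj hg (NJ hn') (by
    rw [P.toJ0.comm_d hn', e, (dec1.2.2.2.2.2.2.2.2.2 B hB).2.2]; simp)
  rw [← e, ← (P.toJ0.mx hn').1, ← JB.mx_conj hg (NJ hn')] at b1 b4 b5
  generalize g * n' * g⁻¹ = n at hn hd b1 b4 b5
  obtain ⟨n2, hn2, e2⟩ := P.img s2 dec1.2.2.2.2.2.2.2.2.1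
  obtain ⟨n3, hn3, e3⟩ := P.img s3 (dec1.1 s3 (by simp)).1
  obtain ⟨n4, hn4, e4⟩ := P.img s4 (dec1.1 s4 (by simp)).1
  obtain ⟨n5, hn5, e5⟩ := P.img s5 (dec1.1 s5 (by simp)).1
  have hl : S.lx n = 0 := by
    have hρ := mul_mem hn4 hn5
    obtain ⟨r1, r2⟩ := P.toJ0.mx hρ
    rw [P.r_mul hn4 hn5, P.md.mul, e4, e5] at r1 r2
    replace r2 := dec5.1 _ r2.1 r2
    generalize n4 * n5 = ρ at hρ r1 r2
    have hk := toolC cf hn (NJ hρ) (by rw [r1, ← mm_assoc, b4, mm_assoc, b5, mm_assoc])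
    refine dec5.2.2.2.1 _ (JB.mx_spec hn).2.1 fun a ha => ?_
    have := toolL hk (mul_mem (NJ hρ) hn) ha
    rw [show n * ρ * n⁻¹ * ρ⁻¹ * (ρ * n) = n * ρ by group, (JB.mx_mul' hn (NJ hρ)).2 a ha,
      (JB.mx_mul' (NJ hρ) hn).2 a ha, r1, r2, BB_zero', BB_zero', Bool.false_xor, Bool.xor_false] at this
    exact this
  have k34 : S.mx n ∉ [R3, R4] := fun hM => by
    obtain ⟨k1, k2⟩ := dec5.2.2.2.2.2.2.2 _ hM
    have hu := mul_mem (mul_mem hn2 hn3) hn2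
    obtain ⟨r1, r2⟩ := P.toJ0.mx hu
    rw [P.r_mul (mul_mem hn2 hn3) hn2, P.r_mul hn2 hn3, P.md.mul, P.md.mul, e2, e3, dec5.2.2.2.2.1] at r1 r2
    replace r2 := dec5.2.1 _ r2.1 r2
    generalize n2 * n3 * n2 = u at hu r1 r2
    have m1 := JB.mx_mul' (NJ hu) hn
    have m2 := JB.mx_mul' (mul_mem (NJ hu) hn) (mul_mem (NJ hu) hn)
    have := m2.2 1 (by omega)
    rw [(JB.mx_triv (S.K_le (cf.mx_ker (mul_mem (mul_mem (NJ hu) hn) (mul_mem (NJ hu) hn))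
      (by rw [m2.1, m1.1, r1, k1])))).2, m1.2 1 (by omega), m1.2 _ (ap_lt _ _), m1.1, hl, r1, r2, BB_zero', BB_zero',
      Bool.false_xor, Bool.false_xor, k2] at this
    exact absurd this (by decide)
  rcases List.mem_cons.1 b1 with b1 | b1
  · exact ⟨n, fin hn b1 hl hd⟩
  rcases List.mem_cons.1 b1 with b1 | b1
  swap
  · exact (k34 b1).elim
  have hn' := conj_mem (le_normalizer tN) hn
  refine ⟨_, fin hn' ?_ (l_zero _ (JB.mx_spec hn').2.1 fun a ha _ => ?_) (JB.not_comm_conj tN hn hd)⟩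
  · rw [ti, JB.mx_mul (mul_mem tN hn) tN, JB.mx_mul tN hn, t1, b1, dec5.2.2.2.2.2.1]
  · rw [ti, (JB.mx_mul' (mul_mem tN hn) tN).2 a ha, (JB.mx_mul' tN hn).2 _ (ap_lt _ _), t2, hl, BB_zero', BB_zero',
      BB_zero']
    rfl

end G2e

theorem g2e : G2E.{u} := fun _ _ _ _ _ _ _ P cf h => G2e.main P cf h

end CL.F6
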