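/-
Project F6, job G2F: the subgroup of `N(J)` which lies over `U₄(2).2`.
-/
import Cfsg.Agent.F6.JC

set_option autoImplicit false

namespace CL.F6

open Subgroup CL.Even CL.Grp CL.U6 CL.Fc CL.MT Cfsg

universe u

theorem g2f_dec : (∀ B ∈ [s1, s2, s3, s4, s5], B ∈ RC) ∧ (∀ v ∈ [103, 18, 17], Iso v) ∧
    mm (tw [103, 18, 17]) SG = R1 ∧ ∀ A ∈ GS, ∃ l ∈ [[2, 3, 6, 1, 2, 3, 0, 6, 5, 1, 2, 3, 1, 2],
      [5, 1, 2, 3, 1, 2, 1, 0], [2, 3, 6, 1, 2, 3, 0, 6, 5, 1, 2, 3, 1, 2, 1, 0], [2, 3, 6, 5, 3, 4, 2, 3, 0, 6, 1, 2],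
      [4, 3, 6, 4, 5, 2, 3, 4, 1, 0]], (∀ i ∈ l, i < [c0, s1, s2, s3, s4, s5, R1].length) ∧
        ev [c0, s1, s2, s3, s4, s5, R1] l = A := by decide +kernel

section
variable {G : Type u} {Γ : Type} [Group G] [Finite G] [Group Γ] (S : JB G) {m : Γ → ℕ} (md : Md m)

/-- the elements which act through `Γ` -/
def g2fY : Subgroup G where
  carrier := {n | ∃ γ, S.Ac n (m γ)}
  one_mem' := ⟨1, md.one ▸ S.ac_one (one_mem _)⟩
  mul_mem' := fun ⟨_, h⟩ ⟨_, h'⟩ => ⟨_, h.mul md h'⟩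
  inv_mem' := fun ⟨_, h⟩ => ⟨_, h.inv md⟩

open Classical in
/-- the action -/
noncomputable def g2fr (n : G) : Γ := if h : n ∈ g2fY S md then h.choose else 1

variable {S md}

theorem g2f_ac {n : G} (h : n ∈ g2fY S md) : S.Ac n (m (g2fr S md n)) := by
  rw [g2fr, dif_pos h]; exact h.choose_spec

theorem g2f_u {n : G} {γ : Γ} (h : S.Ac n (m γ)) : g2fr S md n = γ :=
  md.inj ((g2f_ac ⟨γ, h⟩).eq h (md.lt _) (md.lt _))

theorem g2f_mul {a b : G} (ha : a ∈ g2fY S md) (hb : b ∈ g2fY S md) :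
    g2fr S md (a * b) = g2fr S md a * g2fr S md b := g2f_u ((g2f_ac ha).mul md (g2f_ac hb))

variable (S md)

/-- the action as a homomorphism -/
noncomputable def g2fh : g2fY S md →* Γ := MonoidHom.mk' (fun a => g2fr S md a) fun a b => g2f_mul a.2 b.2

/-- preimages -/
noncomputable def g2fD (K : Subgroup Γ) : Subgroup G := (K.comap (g2fh S md)).map (g2fY S md).subtype

variable {S md}

theorem g2f_memD {K : Subgroup Γ} {n : G} : n ∈ g2fD S md K ↔ n ∈ g2fY S md ∧ g2fr S md n ∈ K :=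
  ⟨fun ⟨a, h, e⟩ => e ▸ ⟨a.2, h⟩, fun h => ⟨⟨n, h.1⟩, h.2, rfl⟩⟩

theorem g2f_triv {n : G} (h : n ∈ S.J ⊔ S.OJ) : n ∈ g2fY S md ∧ g2fr S md n = 1 :=
  have k : S.Ac n (m 1) := md.one ▸ S.ac_one (sup_le_sup_left (pPrimeCoreOf_le 2 _) _ h)
  ⟨⟨1, k⟩, g2f_u k⟩

/-- a Sylow subgroup of the preimage of `TT m` maps onto it -/
theorem g2f_onT (surj : ∀ γ, ∃ n ∈ g2fY S md, g2fr S md n = γ) {T : Subgroup G}
    (hT : IsSylowIn 2 T (g2fD S md (TT m))) : ∀ γ ∈ TT m, ∃ y ∈ T, g2fr S md y = γ := fun γ hγ => by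
  obtain ⟨n, hn, rfl⟩ := surj γ
  obtain ⟨s, hs, ρ, hρ, rfl⟩ := exists_syl_mul_res hT (g2f_memD.2 ⟨hn, hγ⟩)
  have k : pResidualOf 2 (g2fD S md (TT m)) ≤ g2fD S md ⊥ := res_le_of fun x hx o => by
    obtain ⟨h1, h2⟩ := g2f_memD.1 hx
    refine g2f_memD.2 ⟨h1, CL.Grp.eq_one_of_coprime_of_mem md.TT_two h2 (o.coprime_dvd_left ?_)⟩
    exact (orderOf_map_dvd (g2fh S md) ⟨x, h1⟩).trans (by rw [Subgroup.orderOf_mk])
  obtain ⟨h1, h2⟩ := g2f_memD.1 (k hρ)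
  exact ⟨s, hs, by rw [g2f_mul (g2f_memD.1 (hT.le hs)).1 h1, mem_bot.1 h2, mul_one]⟩

theorem g2f_syl (surj : ∀ γ, ∃ n ∈ g2fY S md, g2fr S md n = γ) {T : Subgroup G}
    (hT : IsSylowIn 2 T (g2fD S md (TT m))) : IsSylowIn 2 T (g2fY S md) := by
  refine isSylowIn_of_maximal (fun y hy => (g2f_memD.1 (hT.le hy)).1) hT.isPGroup fun U hU h1 h2 => ?_
  have e := md.eq_TT (P := (U.subgroupOf (g2fY S md)).map (g2fh S md)) (hU.comap_subtype.map _) fun γ hγ => by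
    obtain ⟨y, hy, rfl⟩ := g2f_onT surj hT γ hγ
    exact ⟨⟨y, h2 (h1 hy)⟩, h1 hy, rfl⟩
  exact hT.eq_of_le hU h1 fun y hy => g2f_memD.2 ⟨h2 hy, e ▸ ⟨⟨y, h2 hy⟩, hy, rfl⟩⟩

theorem g2f_surj (P : PM S m) (h : ∃ n, S.Ac n R1) (γ : Γ) : ∃ n ∈ g2fY S P.md, g2fr S P.md n = γ := by
  have md := P.md
  have mem : ∀ {n γ}, S.Ac n (m γ) → γ ∈ (g2fh S md).range := fun {n γ} h => ⟨⟨n, γ, h⟩, g2f_u h⟩
  have tN := P.toJ0.TN P.toCM.tT
  have hL : LL m ≤ (g2fh S md).range := md.LL_le fun A hA => by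
    obtain ⟨l, -, h1, rfl⟩ := g2f_dec.2.2.2 A hA
    refine md.exists_ev (fun B hB => ?_) h1
    have k : B ∈ [s1, s2, s3, s4, s5] → ∃ γ ∈ (g2fh S md).range, m γ = B := fun hB => by
      obtain ⟨n, hn, e⟩ := P.img B (g2f_dec.1 B hB)
      exact ⟨_, mem (P.ac hn), e⟩
    simp only [List.mem_cons, List.not_mem_nil, or_false] at hB k
    rcases hB with rfl | hB | hB | hB | hB | hB | rfl
    · exact ⟨_, mem (P.ac tN), P.rt⟩
    rotate_right
    · obtain ⟨a, ha⟩ := md.exists_tw g2f_dec.2.1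
      obtain ⟨σ, hσ⟩ := P.out
      obtain ⟨n, hn⟩ := h
      have e : m (a * σ) = R1 := by rw [md.mul, ha, hσ, g2f_dec.2.2.1]
      exact ⟨_, mem (e ▸ hn), e⟩
    all_goals exact k (by simp only [hB, true_or, or_true])
  have : γ ∈ (g2fh S md).range := by
    cases hs : sl (m γ)
    · exact hL (md.mem_LL.2 hs)
    · have := mul_mem (hL (md.mem_LL.2 (show sl (m (γ * (P.r P.t)⁻¹)) = false by
        rw [md.sl_mul, md.sl_inv, hs, P.rt, cp_consts.2.2.2.1]; rfl))) (mem (P.ac tN))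
      rwa [inv_mul_cancel_right] at this
  obtain ⟨n, rfl⟩ := this
  exact ⟨n, n.2, rfl⟩

end

theorem g2f : G2F.{u} := fun G Γ _ _ _ S m P cf h => by
  have md := P.md
  have surj := g2f_surj P h
  have hN : ∀ {n}, n ∈ P.Nn → n ∈ g2fY S md ∧ g2fr S md n = P.r n := fun hn => ⟨⟨_, P.ac hn⟩, g2f_u (P.ac hn)⟩
  have hT : ∀ {y}, y ∈ P.T → g2fr S md y = P.r y := fun hy => (hN (P.toJ0.TN hy)).2
  obtain ⟨T, sT, le⟩ := exists_isSylowIn_ge (H := g2fD S md (TT m)) P.syl.isPGroup fun y hy =>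
    g2f_memD.2 ⟨(hN (P.toJ0.TN hy)).1, hT hy ▸ P.rT hy⟩
  let X0 : J0 S m :=
    { Nn := g2fY S md
      O1 := S.OJ
      T := T
      r := g2fr S md
      md := md
      out := P.out
      JT := P.JT.trans le
      syl := g2f_syl surj sT
      ON := fun _ h => (g2f_triv (mem_sup_right h)).1
      odd1 := Nat.coprime_two_right.1 (pPrimeCoreOf_coprime 2 _)
      OJ1 := pPrimeCoreOf_le 2 _
      nO1 := fun _ h => normalizer_le_normalizer_pPrimeCoreOf 2 _ (norm_le_norm_cent _ (g2f_ac h).norm)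
      r_mul := g2f_mul
      r_eq := fun {n} hn => ⟨fun e => by
        have k := g2f_ac hn
        rw [e, md.one] at k
        obtain ⟨l, -, k2⟩ := k.2.2
        exact cf.ker n k.norm fun a ha => let ⟨e, k3⟩ := k2 a ha; ⟨e, _, by rw [k3, ap_I8 a ha]⟩,
        fun e => (g2f_triv e).2⟩
      ac := g2f_ac
      rT := fun hy => (g2f_memD.1 (sT.le hy)).2 }
  have sb : ∀ y ∈ X0.T, Cj m (X0.r y) b0 → ∃ b ∈ X0.T, X0.r b = X0.r y ∧ b * b = 1 ∧
      ∀ a < 256, ap (m (X0.r y)) a = a → Commute b (S.s a) := by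
    rintro y hy ⟨δ, hδ⟩
    obtain ⟨n, hn, en⟩ : ∃ n ∈ X0.Nn, X0.r n = δ⁻¹ := surj δ⁻¹
    have βN : P.β ∈ X0.Nn := (hN (P.toJ0.TN P.βT)).1
    have rβ : X0.r P.β = δ * X0.r y * δ⁻¹ := md.inj (by rw [hδ, ← P.rβ]; exact congrArg m (hT P.βT))
    have b1N : n * P.β * n⁻¹ ∈ X0.Nn := mul_mem (mul_mem hn βN) (inv_mem hn)
    have rb1 : X0.r (n * P.β * n⁻¹) = X0.r y := by rw [X0.r_conj hn βN, en, rβ]; group
    have sq : n * P.β * n⁻¹ * (n * P.β * n⁻¹) = 1 := by rw [conj_mul, P.ββ]; simp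
    obtain ⟨o, ho, a0, ha0, e, f, eo⟩ := X0.lift1 b1N (k := 1) (by rw [pow_one, pow_two, sq]) hy rb1.symm
    have jm := S.j_mem ha0 e f
    refine ⟨_, eo ▸ mul_mem hy (X0.JT jm), by rw [eo, X0.r_mul (X0.TN hy) (X0.JN jm), X0.r_J jm, mul_one],
      by rw [conj_mul, sq]; simp, fun a ha ea => ?_⟩
    obtain ⟨e', f', k, -⟩ := X0.act (inv_mem hn) ha false false
    rw [X0.r_inv hn, en, inv_inv, inv_inv, S.j_s] at k
    have c := commute_conj (g := n) (P.toCM.βj (a := ap (m δ) a) (l0_spec.2.2 _ (ap_lt _ _) (.inl (by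
      rw [← hδ, md.ap_mul, md.ap_mul, md.ap_inv δ ha, ea]))) e' f')
    rw [← k, show n * (n⁻¹ * S.s a * n) * n⁻¹ = S.s a by group] at c
    have c' := commute_conj (g := o) c
    rwa [conj_eq_of_commute (a := S.s a) (X0.OJ1 ho _ (S.s_mem ha)).symm] at c'
  exact ⟨{ toPD := P.toPD
           toJ0 := X0
           sb := sb
           AT := P.AT.trans le
           κT := le P.κT
           βT := le P.βT
           rt := (congrArg m (hT P.toCM.tT)).trans P.rt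
           rκ := (congrArg m (hT P.κT)).trans P.rκ
           rβ := (congrArg m (hT P.βT)).trans P.rβ
           k2 := let ⟨y, hy, e⟩ := P.k2; ⟨y, le hy, (congrArg m (hT hy)).trans e⟩
           surj := surj
           onT := g2f_onT surj sT
           hO := rfl
           hA := fun _ hn => (hN (P.hN ▸ hn)).1 }, rfl⟩

end CL.F6
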