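/-
Project F6 (job G2G2, helper75): `N(J) = Nn`.
-/
import Cfsg.Agent.F6.JD

set_option autoImplicit false

namespace CL.F6

open Subgroup CL.Even CL.Grp CL.U6 CL.Fc CL.MT Cfsg

universe u

/-- good pairs -/
def g2gGd (a b : ℕ) : Prop := Iso a ∧ Iso b ∧ Iso (a ^^^ b) ∧ sg (a ^^^ b) = (sg a ^^ sg b)

instance (a b : ℕ) : Decidable (g2gGd a b) := inferInstanceAs (Decidable (_ ∧ _ ∧ _ ∧ _))

/-- the four codes -/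
def g2gY : List ℕ := [I8, 9241421688489445380, 4262204996417898189, 4479218866423613895]

set_option synthInstance.maxSize 2000 in
theorem g2g_dec : ∀ y < 256, g2gGd 85 y → ∀ v < 256, g2gGd 85 v → g2gGd y v → g2gGd (85 ^^^ y) v →
    ∀ w < 256, g2gGd 85 w → g2gGd y w → g2gGd v w → g2gGd (85 ^^^ y) w → g2gGd (85 ^^^ v) w →
    g2gGd (y ^^^ v) w → ∃ Y ∈ g2gY, ap Y 85 ∈ W0 ∧ ap Y y ∈ W0 ∧ ap Y v ∈ W0 ∧ ap Y w ∈ W0 := by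
  decide +kernel

theorem g2g_dec2 : (∀ Y ∈ g2gY, Y ∈ TL) ∧ (∀ a ∈ W0, a ≠ 0 → Iso a ∧ sg a = false) ∧
    (∀ a ∈ W0, ∃ i j k l : Bool, a = cond i 85 0 ^^^ cond j 175 0 ^^^ cond k 20 0 ^^^ cond l 131 0) ∧
    (∀ c < 256, (∀ a ∈ W0, BB c a = false) → c ∈ W0) ∧ (∀ A ∈ RF, (∀ a ∈ W0, ap A a = a) → A = c0) ∧
    c0 ∈ RF := by
  decide +kernel

variable {G : Type u} {Γ : Type} [Group G] [Group Γ] {m : Γ → ℕ} {S : JB G}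

theorem g2g_gd {n : G} (hn : n ∈ 𝒩(S.J)) (hc : Cp (S.mx n) (S.lx n)) {a b : ℕ} (ha : a ∈ W0) (hb : b ∈ W0)
    (h0 : a ≠ 0 ∧ b ≠ 0 ∧ a ^^^ b ≠ 0) : g2gGd (ap (S.mx n) a) (ap (S.mx n) b) := by
  have hab := ((W0_spec.2 a ha).2.2.2.2 b hb).1
  have k : ∀ c ∈ W0, c ≠ 0 → Iso (ap (S.mx n) c) ∧ sg (ap (S.mx n) c) = BB c (S.lx n) := fun c h1 h2 => by
    obtain ⟨h3, h4⟩ := g2g_dec2.2.1 c h1 h2
    exact ⟨(JB.mx_spec hn).2.2.iso hn h3, by rw [hc.2 c h3.1 h3, h4, Bool.false_xor]⟩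
  refine ⟨(k a ha h0.1).1, (k b hb h0.2.1).1, ap_xor _ a b ▸ (k _ hab h0.2.2).1, ?_⟩
  rw [← ap_xor, (k a ha h0.1).2, (k b hb h0.2.1).2, (k _ hab h0.2.2).2,
    BB_xor (W0_spec.2 a ha).2.2.1 (W0_spec.2 b hb).2.2.1 hc.1]

theorem g2g_move {p : G} (hp : p ∈ 𝒩(S.J)) (h : ∀ a ∈ W0, ap (S.mx p) a = a) {x : ℕ} (hx : x < 256) :
    ap (S.mx p) x ^^^ x ∈ W0 := g2g_dec2.2.2.2.1 _ (xor_lt (ap_lt _ _) hx) fun a ha => by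
  have h1 := (W0_spec.2 a ha).2.2.1
  rw [BB_xor (ap_lt _ _) hx h1, ← JB.mx_BB hp hx h1, h a ha, Bool.xor_self]

theorem g2g_comm {p q : G} (hp : p ∈ 𝒩(S.J)) (hq : q ∈ 𝒩(S.J)) (h : ∀ a ∈ W0, ap (S.mx p) a = a)
    (h' : ∀ a ∈ W0, ap (S.mx q) a = a) : S.mx (p * q * p⁻¹ * q⁻¹) = I8 := by
  have k : ∀ {p q : G}, q ∈ 𝒩(S.J) → (∀ a ∈ W0, ap (S.mx p) a = a) → (∀ a ∈ W0, ap (S.mx q) a = a) → ∀ x < 256,
      ap (S.mx p) (ap (S.mx q) x) = ap (S.mx p) x ^^^ (ap (S.mx q) x ^^^ x) := fun hq h h' x hx => by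
    rw [← h _ (g2g_move hq h' hx), ← ap_xor, Nat.xor_comm _ x, Nat.xor_xor_cancel_left]
  have e : S.mx (p * q) = S.mx (q * p) := by
    rw [JB.mx_mul hp hq, JB.mx_mul hq hp]
    refine mat_ext (mm_lt _ _) (mm_lt _ _) fun x hx => ?_
    rw [ap_mm, ap_mm, k hq h h' x hx, k hp h' h x hx, ← Nat.xor_assoc, ← Nat.xor_assoc, Nat.xor_comm (ap _ x)]
  rw [show p * q * p⁻¹ * q⁻¹ = p * q * (q * p)⁻¹ by group, JB.mx_mul (mul_mem hp hq) (inv_mem (mul_mem hq hp)), e,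
    (JB.mx_inv (mul_mem hq hp)).2]

/-- elements which fix `W0` -/
theorem g2g_fin [Finite G] (X : XM S m) (cf : CF X.toPD) {n : G} (hn : n ∈ 𝒩(S.J))
    (h : ∀ a ∈ W0, ap (S.mx n) a ∈ W0) : n ∈ X.Nn := by
  have ht := X.toJ0.TN X.toCM.tT
  have ht' := X.toJ0.NJ ht
  have mt : S.mx X.t = c0 := (X.toJ0.mx ht).1.trans X.rt
  have hg := inv_mem hn
  have h1 : n⁻¹ * X.t * n⁻¹⁻¹ ∈ 𝒩(S.J) := mul_mem (mul_mem hg ht') (inv_mem hg)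
  have h2 : ∀ a ∈ W0, ap (S.mx (n⁻¹ * X.t * n⁻¹⁻¹)) a = a := fun a ha => by
    rw [JB.mx_conj hg ht', inv_inv, mt, ph, ap_mm, ap_mm, (W0_spec.2 _ (h a ha)).1, ← ap_mm, (JB.mx_inv hn).1,
      ap_I8 _ (W0_spec.2 a ha).2.2.1]
  have hO : ∀ o ∈ S.OJ, o ∈ 𝒩(S.J) := fun o ho => S.K_N (mem_sup_right ho)
  obtain ⟨o, ho, h3⟩ := cf.ct _ h1 (cf.mx_ker (mul_mem (mul_mem (mul_mem h1 ht') (inv_mem h1)) (inv_mem ht'))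
    (g2g_comm h1 ht' h2 fun a ha => by rw [mt, (W0_spec.2 a ha).1]))
  have h4 := X.hA (mem_inf.2 ⟨h3, mul_mem h1 (hO o ho)⟩)
  have h5 : n⁻¹ * X.t * n⁻¹⁻¹ * o * (n⁻¹ * X.t * n⁻¹⁻¹)⁻¹ ∈ S.J ⊔ 𝒞(S.J) :=
    mem_sup_right (S.OJ_le (conj_mem (S.N_OJ h1) ho))
  have h6 := X.toJ0.refl hg ht (by rw [X.rt]; exact g2g_dec2.2.2.2.2.2) h4 h5
  rw [← (X.toJ0.mx h4).1, JB.mx_congr h1 h5] at h6
  have h7 := g2g_dec2.2.2.2.2.1 _ h6 h2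
  obtain ⟨o', ho', h8⟩ := cf.ct _ hg (cf.mx_ker (mul_mem h1 (inv_mem ht')) (by
    rw [JB.mx_mul h1 (inv_mem ht'), h7, ← mt, (JB.mx_inv ht').2]))
  have h9 := X.hA (mem_inf.2 ⟨h8, mul_mem hg (hO o' ho')⟩)
  have h10 : o' ∈ X.Nn := X.ON (X.hO ▸ ho')
  simpa using X.Nn.inv_mem (X.Nn.mul_mem h9 (X.Nn.inv_mem h10))

theorem g2g2 {G : Type u} {Γ : Type} [Group G] [Finite G] [Group Γ] {S : JB G} {m : Γ → ℕ} (X : XM S m)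
    (cf : CF X.toPD) (hc : ∀ n ∈ 𝒩(S.J), Cp (S.mx n) (S.lx n)) : 𝒩(S.J) ≤ X.Nn := fun n hn => by
  obtain ⟨γ, -, h1⟩ := X.md.exists_85 ((JB.mx_spec hn).2.2.iso hn (a := 85) (by decide +kernel))
  obtain ⟨u, hu, rfl⟩ := X.surj γ
  have hu' := X.toJ0.NJ hu
  have hn1 := mul_mem hu' hn
  have h2 : ap (S.mx (u * n)) 85 = 85 := by rw [JB.mx_mul hu' hn, ap_mm, (X.toJ0.mx hu).1, h1]
  have k : ∀ a ∈ W0, ∀ b ∈ W0, a ≠ 0 ∧ b ≠ 0 ∧ a ^^^ b ≠ 0 → g2gGd (ap (S.mx (u * n)) a) (ap (S.mx (u * n)) b) :=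
    fun a ha b hb => g2g_gd hn1 (hc _ hn1) ha hb
  obtain ⟨Y, hY, e1, e2, e3, e4⟩ := g2g_dec (ap (S.mx (u * n)) 175) (ap_lt _ _)
    (h2 ▸ k 85 (by decide) 175 (by decide) (by decide)) (ap (S.mx (u * n)) 20) (ap_lt _ _)
    (h2 ▸ k 85 (by decide) 20 (by decide) (by decide)) (k 175 (by decide) 20 (by decide) (by decide))
    (by rw [← h2, ← ap_xor]; exact k _ (by decide) 20 (by decide) (by decide)) (ap (S.mx (u * n)) 131) (ap_lt _ _)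
    (h2 ▸ k 85 (by decide) 131 (by decide) (by decide)) (k 175 (by decide) 131 (by decide) (by decide))
    (k 20 (by decide) 131 (by decide) (by decide))
    (by rw [← h2, ← ap_xor]; exact k _ (by decide) 131 (by decide) (by decide))
    (by rw [← h2, ← ap_xor]; exact k _ (by decide) 131 (by decide) (by decide))
    (by rw [← ap_xor]; exact k _ (by decide) 131 (by decide) (by decide))
  obtain ⟨δ, hδ, rfl⟩ := X.md.exists_TL Y (g2g_dec2.1 Y hY)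
  obtain ⟨y, hy, rfl⟩ := X.onT δ hδ
  have hy1 := X.toJ0.TN hy
  have hy2 := X.toJ0.NJ hy1
  rw [← h2] at e1
  rw [← (X.toJ0.mx hy1).1, ← ap_mm, ← JB.mx_mul hy2 hn1] at e1 e2 e3 e4
  have k2 : ∀ {a b}, a ∈ W0 → b ∈ W0 → a ^^^ b ∈ W0 := fun ha hb => ((W0_spec.2 _ ha).2.2.2.2 _ hb).1
  have k3 : ∀ (i : Bool) {a}, a ∈ W0 → cond i a 0 ∈ W0 := fun i a ha => by
    cases i
    exacts [(by decide : 0 ∈ W0), ha]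
  have h3 := g2g_fin X cf (mul_mem hy2 hn1) fun a ha => by
    obtain ⟨i, j, k, l, rfl⟩ := g2g_dec2.2.2.1 a ha
    rw [ap_xor, ap_xor, ap_xor, ap_cond, ap_cond, ap_cond, ap_cond]
    exact k2 (k2 (k2 (k3 i e1) (k3 j e2)) (k3 k e3)) (k3 l e4)
  simpa using X.Nn.mul_mem (X.Nn.inv_mem hu) (X.Nn.mul_mem (X.Nn.inv_mem hy1) h3)

end CL.F6
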