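/-
Project F6: `C(z) = O(C(z)) N(J)`.
-/
import Cfsg.Agent.F6.JD
import Cfsg.Agent.Grp.ThompsonReduction
import Cfsg.Agent.Grp.MinNormal

set_option autoImplicit false

namespace CL.F6

open Subgroup CL.Even CL.Grp CL.U6 CL.Fc CL.MT Cfsg

universe u

namespace Glx

theorem dec : (∀ a < 256, qq a = true → ∃ v < 256, Iso v ∧ ∃ w < 256, Iso w ∧ tvf v (tvf w a) = 1) ∧
    (∀ c : Bool, 120 ≤ ((Finset.range 256).filter fun a => a ≠ 0 ∧ qq a = c).card) ∧ qq 85 = false ∧ qq 1 = true := by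
  decide +kernel

variable {G : Type u} {Γ : Type} [Group G] [Group Γ] {S : JB G} {m : Γ → ℕ}

theorem zp2 {H : Type*} [Group H] {t x : H} (ht : t * t = 1) (hx : x ∈ zpowers t) : x = 1 ∨ x = t := by
  obtain ⟨k, rfl⟩ := mem_zpowers_iff.1 hx
  have h2 : t ^ (2 : ℤ) = 1 := by rw [zpow_two, ht]
  rcases Int.even_or_odd' k with ⟨j, rfl | rfl⟩
  · exact .inl (by rw [zpow_mul, h2, one_zpow])
  · exact .inr (by rw [zpow_add, zpow_mul, h2, one_zpow, one_mul, zpow_one])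

theorem reach (md : Md m) {a a' : ℕ} (ha : a < 256) (ha' : a' < 256) (h0 : a ≠ 0) (h0' : a' ≠ 0) (h : qq a' = qq a) :
    ∃ γ, ap (m γ) a = a' := by
  have k : ∀ c : Bool, ∃ b, ∀ a < 256, a ≠ 0 → qq a = c → ∃ γ, ap (m γ) a = b := fun c => by
    cases c
    · exact ⟨85, fun a ha h0 h => let ⟨γ, _, e⟩ := md.exists_85 ⟨ha, h0, h⟩; ⟨γ, e⟩⟩
    · refine ⟨1, fun a ha _ h => ?_⟩
      obtain ⟨v, hv, h1, w, hw, h2, e⟩ := dec.1 a ha h
      obtain ⟨γ, hγ⟩ := md.tvx v h1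
      obtain ⟨δ, hδ⟩ := md.tvx w h2
      exact ⟨γ * δ, by rw [md.ap_mul, hγ, hδ, ap_tv hw ha, ap_tv hv (tvf_lt hw ha), e]⟩
  obtain ⟨b, hb⟩ := k (qq a)
  obtain ⟨γ, e⟩ := hb a ha h0 rfl
  obtain ⟨δ, e'⟩ := hb a' ha' h0' h
  exact ⟨δ⁻¹ * γ, by rw [md.ap_mul, e, ← e', md.ap_inv δ ha']⟩

theorem main (hG : GB.{u}) [Finite G] (X : XF S m) (hsc : S.SC) : S.H1 := by
  classical
  set K := centralizer ({S.z} : Set G) with hK
  have mC : ∀ {a}, a ∈ K ↔ Commute a S.z := mem_centralizer_singleton_iff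
  have mK : ∀ {a}, a ∈ 𝒩(S.J) → a ∈ K := fun ha => mC.2 (S.Nz ha)
  let r : K := ⟨S.z, mC.2 rfl⟩
  have rc : r ∈ center K := mem_center_iff.2 fun g => Subtype.ext (mC.1 g.2)
  have := normal_of_le_center' (zpowers_le.2 rc)
  let π := QuotientGroup.mk' (zpowers r)
  have hπ : Function.Surjective π := QuotientGroup.mk'_surjective _
  have πr : π r = 1 := (QuotientGroup.eq_one_iff _).2 (mem_zpowers r)
  have πe : ∀ {k k' : K}, π k = π k' → (k : G) = k' ∨ (k : G) = k' * S.z := fun {k k'} e => by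
    rcases zp2 (Subtype.ext S.zz : r * r = 1) (QuotientGroup.eq.1 e.symm) with e | e
    · exact .inl (congrArg Subtype.val (inv_mul_eq_one.1 e)).symm
    · exact .inr (congrArg Subtype.val (inv_mul_eq_iff_eq_mul.1 e))
  set V := (S.J.subgroupOf K).map π with hV
  have mV : ∀ {k : K}, π k ∈ V ↔ (k : G) ∈ S.J := fun {k} => ⟨fun ⟨l, hl, e⟩ => by
    rcases πe e.symm with e | e <;> rw [e]
    exacts [hl, mul_mem hl S.zJ], fun hk => ⟨k, hk, rfl⟩⟩
  have mN : ∀ {k : K}, π k ∈ 𝒩(V) ↔ (k : G) ∈ 𝒩(S.J) := fun {k} =>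
    ⟨fun hk => mem_normalizer_fintype fun s hs => mV (k := k * ⟨s, mK (le_normalizer hs)⟩ * k⁻¹).1 (by
      rw [map_mul, map_mul, map_inv]; exact conj_mem hk (mV.2 hs)),
    fun hk => mem_normalizer_fintype fun _ ⟨l, hl, e⟩ => by
      rw [← e, ← map_inv, ← map_mul, ← map_mul]; exact mV.2 (conj_mem hk hl)⟩
  choose! f hf using fun a (ha : a < 256) e =>
    (⟨⟨S.j a false e, mK (le_normalizer (S.j_mem ha _ _))⟩, rfl⟩ : ∃ k : K, (k : G) = S.j a false e)
  have fV : ∀ a < 256, ∀ e, π (f a e) ∈ V := fun a ha e => mV.2 (hf a ha e ▸ S.j_mem ha _ _)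
  have fm : ∀ a < 256, ∀ e' e (k : K), (k : G) = S.j a e' e → π k = π (f a e) := fun a ha e' e k h => by
    cases e'
    · rw [show k = f a e from Subtype.ext (h.trans (hf a ha e).symm)]
    · rw [show k = f a e * r from Subtype.ext (by rw [coe_mul, hf a ha, h]; exact (S.j_mul_z a false e).symm),
        map_mul, πr, mul_one]
  have fi : ∀ a < 256, ∀ a' < 256, ∀ e e', π (f a e) = π (f a' e') → a = a' ∧ e = e' := fun a ha a' ha' e e' h => by
    rcases πe h with h | h <;> rw [hf a ha, hf a' ha'] at h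
    · exact ⟨(S.j_inj ha ha' h).1, (S.j_inj ha ha' h).2.2⟩
    · rw [S.j_mul_z] at h
      exact ⟨(S.j_inj ha ha' h).1, (S.j_inj ha ha' h).2.2⟩
  have f0 : π (f 0 false) = 1 := (fm 0 (by omega) false false 1 S.j_one.symm).symm.trans (map_one π)
  have fb : ∀ a < 256, ∀ e, π (f a e) * π (f 0 true) = π (f a (!e)) := fun a ha e => by
    rw [← map_mul]
    exact fm a ha false _ _ (by rw [coe_mul, hf a ha, hf 0 (by omega), S.j_d, S.j_mul_d])
  have exV : ∀ v ∈ V, ∃ a < 256, ∃ e, v = π (f a e) := by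
    rintro _ ⟨l, hl, rfl⟩
    obtain ⟨a, ha, e', e, h⟩ := S.ex_j hl
    exact ⟨a, ha, e, fm a ha e' e l h⟩
  have cj' : ∀ (k : K), ∀ a < 256, ∀ a' < 256, ∀ e e1 e', k * S.j a false e * (k : G)⁻¹ = S.j a' e1 e' →
      π k * π (f a e) * (π k)⁻¹ = π (f a' e') := fun k a ha a' ha' e e1 e' h => by
    rw [← map_inv, ← map_mul, ← map_mul]
    exact fm a' ha' e1 e' _ (by rw [coe_mul, coe_mul, coe_inv, hf a ha, h])
  have ea : ∀ v ∈ V, v * v = 1 := by
    rintro _ ⟨l, hl, rfl⟩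
    rw [← map_mul]
    rcases S.J_sq hl with h | h
    · rw [show l * l = 1 from Subtype.ext h, map_one]
    · rw [show l * l = r from Subtype.ext h, πr]
  have hVp : IsPGroup 2 V := isPGroup_iff_forall.2 fun v hv => ⟨1, by rw [pow_one, pow_two, ea v hv]⟩
  have key := hG (K ⧸ zpowers r) V (π (f 0 true)) ea ?_ (fun v hv g e => ?_) (fV 0 (by omega) _) (fun a ha => ?_)
    (fun u hu h1 hb D hD => ?_) ?_
  · intro h hz
    set O := pPrimeCore 2 (K ⧸ zpowers r) with hO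
    have hOn : O.Normal := inferInstance
    obtain ⟨w, hw, h1⟩ := syl_conj_le (isSylowIn_sup_of_coprime hVp (pPrimeCore_coprime 2 _) le_normalizer_of_normal)
      (isPGroup_cj hVp (π ⟨h, mC.2 hz⟩)) (by rintro _ ⟨v, hv, rfl⟩; exact key _ v hv)
    obtain ⟨v, hv, o, ho, rfl⟩ := ex_mul le_normalizer_of_normal hw
    rw [← Even.cj_mul] at h1
    have h2 : o * π ⟨h, mC.2 hz⟩ ∈ 𝒩(V) := by
      simpa [mul_assoc] using mul_mem (inv_mem (le_normalizer hv)) (mem_norm_of_cj_le h1)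
    obtain ⟨k, rfl⟩ := hπ o
    set U := (O.comap π).map K.subtype with hU
    have hn : K ≤ 𝒩(U) := fun a ha => mem_normalizer_fintype fun _ ⟨l, hl, e⟩ =>
      ⟨⟨a, ha⟩ * l * ⟨a, ha⟩⁻¹, Normal.conj_mem inferInstance l hl _, e ▸ rfl⟩
    have cz : Nat.card (zpowers S.z) = 2 := by rw [Nat.card_zpowers, S.ord_z]
    have cU : Nat.card U = 2 * Nat.card O := by
      rw [hU, card_map_subtype, card_comap_mk', Nat.card_zpowers, ← orderOf_coe r]
      exact congrArg (· * _) S.ord_z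
    have zU : zpowers S.z ≤ U := zpowers_le.2 ⟨r, by rw [SetLike.mem_coe, mem_comap, πr]; exact one_mem _, rfl⟩
    have sU : IsSylowIn 2 (zpowers S.z) U := ⟨zU, S.isP.to_le (zpowers_le.2 S.zJ), fun hd => by
      have h3 := ((zpowers S.z).subgroupOf U).card_mul_index
      rw [card_subgroupOf_of_le zU, cz, cU] at h3
      have h4 : (zpowers S.z).relIndex U = Nat.card O := Nat.eq_of_mul_eq_mul_left (by omega) h3
      exact not_dvd_card_pPrimeCore 2 _ (h4 ▸ hd)⟩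
    obtain ⟨o', ho', e, he, h3⟩ := central_split sU (fun x hx y hy => by
      obtain ⟨i, rfl⟩ := mem_zpowers_iff.1 hy
      exact ((mC.1 (map_subtype_le _ hx)).zpow_right i).symm) (c := k) ⟨k, ho, rfl⟩
    refine ⟨o', pPrimeCoreOf_le_of_le_normalizer (map_subtype_le _) hn ho', ?_⟩
    rw [← map_mul, mN, coe_mul, h3] at h2
    have he' : e ∈ 𝒩(S.J) := le_normalizer (zpowers_le.2 S.zJ he)
    have hc : Commute e h := by
      obtain ⟨i, rfl⟩ := mem_zpowers_iff.1 he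
      exact (hz.zpow_right i).symm
    have := mul_mem h2 (inv_mem he')
    rwa [mul_assoc o', hc.eq, ← mul_assoc, mul_inv_cancel_right] at this
  · rw [show 512 = Nat.card (Fin 256 × Bool) by simp]
    exact Nat.card_le_card_of_surjective (fun p : Fin 256 × Bool => (⟨π (f p.1 p.2), fV _ p.1.2 _⟩ : V)) fun v => by
      obtain ⟨a, ha, e, h⟩ := exV v v.2
      exact ⟨(⟨a, ha⟩, e), Subtype.ext h.symm⟩
  · obtain ⟨l, hl, rfl⟩ := hv
    obtain ⟨g, rfl⟩ := hπ g
    rw [← map_inv, ← map_mul, ← map_mul] at e ⊢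
    exact mV.2 (hsc l hl g (mC.1 g.2) (mN.1 e))
  · obtain ⟨k, rfl⟩ := hπ a
    obtain ⟨c, hc⟩ := S.Nd (mN.1 ha)
    exact cj' k 0 (by omega) 0 (by omega) true _ true (S.conj_j0 (mC.1 k.2) hc false true)
  · obtain ⟨a, ha, e, rfl⟩ := exV u hu
    have h0 : a ≠ 0 := by
      rintro rfl
      cases e
      exacts [h1 f0, hb rfl]
    have h2 : ∀ a' < 256, a' ≠ 0 → qq a' = qq a → ∀ e', π (f a' e') ∈ D := fun a' ha' h0' hq e' => by
      obtain ⟨γ, hγ⟩ := reach X.md ha ha' h0 h0' hq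
      obtain ⟨n, hn, rfl⟩ := X.surj γ
      obtain ⟨e1, e2, h3, -⟩ := X.toJ0.act hn ha false e
      have hn' := X.toJ0.NJ hn
      have h4 := hD (π ⟨n, mK hn'⟩) (mN.2 hn')
      rw [cj' ⟨n, mK hn'⟩ a ha a' ha' e e1 e2 (hγ ▸ h3), fb a' ha'] at h4
      cases e2 <;> cases e'
      exacts [h4.1, h4.2, h4.2, h4.1]
    have h3 := Set.ncard_le_ncard_of_injOn
      (s := ((((Finset.range 256).filter fun a' => a' ≠ 0 ∧ qq a' = qq a) ×ˢ (Finset.univ : Finset Bool) :
        Finset (ℕ × Bool)) : Set (ℕ × Bool))) (t := D) (fun p => π (f p.1 p.2)) (fun p hp => by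
          have := Finset.mem_filter.1 (Finset.mem_product.1 hp).1
          exact h2 _ (Finset.mem_range.1 this.1) this.2.1 this.2.2 _) fun p hp p' hp' e =>
        have := fi _ (Finset.mem_range.1 (Finset.mem_filter.1 (Finset.mem_product.1 hp).1).1) _
          (Finset.mem_range.1 (Finset.mem_filter.1 (Finset.mem_product.1 hp').1).1) _ _ e
        Prod.ext this.1 this.2
    rw [Set.ncard_coe_finset, Finset.card_product, Finset.card_univ, Fintype.card_bool] at h3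
    have := dec.2.1 (qq a)
    omega
  · refine ⟨_, fV 85 (by omega) false, _, fV 1 (by omega) false, fun e => ?_, fun e => ?_, fun e => ?_, fun e => ?_,
      fun a ha => ?_⟩
    · simpa using (fi _ (by omega) _ (by omega) _ _ (e.trans f0.symm)).1
    · simpa using (fi _ (by omega) _ (by omega) _ _ e).1
    · simpa using (fi _ (by omega) _ (by omega) _ _ (e.trans f0.symm)).1
    · simpa using (fi _ (by omega) _ (by omega) _ _ e).1
    · obtain ⟨k, rfl⟩ := hπ a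
      obtain ⟨e', h⟩ := JB.mx_conj_j (mN.1 ha) (a := 85) (by omega) false false
      have hq := JB.mx_qq (mN.1 ha) (a := 85) (by omega)
      rw [cj' k 85 (by omega) _ (ap_lt _ _) _ _ _ h, fb 1 (by omega)]
      constructor <;> intro e <;> rw [(fi _ (ap_lt _ _) _ (by omega) _ _ e).1, dec.2.2.1, dec.2.2.2] at hq <;>
        exact absurd hq (by decide)

end Glx

theorem glx : GLX.{u} := fun hG _ _ _ _ _ _ _ X h => Glx.main hG X h

end CL.F6
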