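/-
Project F6: the faithful module of order `64` for `Sp₆(2)` is the natural module.
-/
import Cfsg.Agent.F6.NB

set_option autoImplicit false

namespace CL.F6

open Subgroup CL.Even CL.Grp CL.U6 CL.Fc Cfsg

universe u v

namespace Mod

open Module

section Rank

variable {K V : Type*} [Field K] [AddCommGroup V] [Module K V] [FiniteDimensional K V]

/-- the rank -/
noncomputable def rk (X : End K V) : ℕ := finrank K (LinearMap.range X)

theorem rk_le (g X h : End K V) : rk (g * X * h) ≤ rk X :=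
  (Submodule.finrank_mono (show LinearMap.range (g * X * h) ≤ (LinearMap.range X).map g from by
    rintro _ ⟨y, rfl⟩; exact ⟨_, ⟨h y, rfl⟩, rfl⟩)).trans (Submodule.finrank_map_le _ _)

theorem rk_conj {g g' X X' : End K V} (h1 : g * g' = 1) (h2 : g' * g = 1) (h : SemiconjBy g X X') : rk X = rk X' := by
  refine le_antisymm ?_ ?_
  · have := rk_le g' X' g
    rwa [mul_assoc, ← h.eq, ← mul_assoc, h2, one_mul] at this
  · have := rk_le g X g'
    rwa [h.eq, mul_assoc, h1, mul_one] at this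

theorem rk_pos {X : End K V} (h : X ≠ 0) : 1 ≤ rk X :=
  Nat.pos_of_ne_zero fun e => h (LinearMap.range_eq_bot.1 (Submodule.finrank_eq_zero.1 e))

theorem rk_split {X p : End K V} (hp : p * p = p) (h : Commute X p) : rk X = rk (X * p) + rk (X * (1 - p)) := by
  have e1 : LinearMap.range (X * p) ⊔ LinearMap.range (X * (1 - p)) = LinearMap.range X := by
    refine le_antisymm (sup_le (LinearMap.range_comp_le_range _ _) (LinearMap.range_comp_le_range _ _)) ?_
    rintro _ ⟨y, rfl⟩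
    exact Submodule.mem_sup.2 ⟨_, ⟨y, rfl⟩, _, ⟨y, rfl⟩, by simp⟩
  have e2 : LinearMap.range (X * p) ⊓ LinearMap.range (X * (1 - p)) = ⊥ := by
    rw [eq_bot_iff]
    rintro _ ⟨⟨y, rfl⟩, z, e⟩
    have a1 : p * (X * p) = X * p := by rw [← mul_assoc, ← h.eq, mul_assoc, hp]
    have a2 : p * (X * (1 - p)) = 0 := by rw [← mul_assoc, ← h.eq, mul_assoc, mul_sub, hp, mul_one, sub_self, mul_zero]
    rw [Submodule.mem_bot, ← a1, End.mul_apply, ← e, ← End.mul_apply, a2, LinearMap.zero_apply]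
  have := Submodule.finrank_sup_add_finrank_inf_eq (LinearMap.range (X * p)) (LinearMap.range (X * (1 - p)))
  rw [e1, e2, finrank_bot, add_zero] at this
  exact this

theorem rk_nil {X n : End K V} (hn : n * n = 0) (h : Commute n X) : 2 * rk (n * X) ≤ rk X := by
  have e1 := LinearMap.finrank_range_add_finrank_ker (n.domRestrict (LinearMap.range X))
  rw [LinearMap.range_domRestrict, ← LinearMap.range_comp, ← Submodule.finrank_map_subtype_eq] at e1
  have e2 : LinearMap.range (n * X) ≤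
      (LinearMap.ker (n.domRestrict (LinearMap.range X))).map (LinearMap.range X).subtype := by
    rintro _ ⟨y, rfl⟩
    refine ⟨⟨_, n y, (LinearMap.congr_fun h.eq y).symm⟩, ?_, rfl⟩
    show (n * (n * X)) y = 0
    rw [← mul_assoc, hn, zero_mul, LinearMap.zero_apply]
  have e3 := Submodule.finrank_mono e2
  change rk (n * X) + _ = rk X at e1
  change rk (n * X) ≤ _ at e3
  omega

end Rank

/-- the relations between `t - 1` and `s - 1` in characteristic two, `t s` of order three -/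
structure Pr {R : Type*} [Ring R] (a b : R) : Prop where
  aa : a * a = 0
  bb : b * b = 0
  br : a * b * a - a = b * a * b - b

/-- the projection to the fixed points of `t s` -/
def E {R : Type*} [Ring R] (a b : R) : R := (1 - a * b) * (1 - b * a)

theorem sE {R : Type*} [Ring R] {g a b a' b' : R} (ha : SemiconjBy g a a') (hb : SemiconjBy g b b') :
    SemiconjBy g (E a b) (E a' b') :=
  ((SemiconjBy.one_right g).sub_right (ha.mul_right hb)).mul_right
    ((SemiconjBy.one_right g).sub_right (hb.mul_right ha))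

theorem cE {R : Type*} [Ring R] {g a b : R} (ha : Commute g a) (hb : Commute g b) : Commute g (E a b) := sE ha hb

section Three

variable {K V : Type*} [Field K] [AddCommGroup V] [Module K V] [FiniteDimensional K V]

theorem rk_three {a b X : End K V} (h : Pr a b) (ha : Commute X a) (hb : Commute X b) :
    rk X = rk (X * E a b) + 2 * rk (X * (a * b)) := by
  have p1 : a * b * (a * b) = a * b := by
    linear_combination (norm := noncomm_ring) h.br * b + b * a * h.bb - h.bb
  have p2 : b * a * (b * a) = b * a := by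
    linear_combination (norm := noncomm_ring) a * b * h.aa - h.aa - h.br * a
  have p3 : a * b * (b * a) = 0 := by linear_combination (norm := noncomm_ring) a * h.bb * a
  have p4 : b * a * (a * b) = 0 := by linear_combination (norm := noncomm_ring) b * h.aa * b
  have e1 := rk_split p1 (ha.mul_right hb)
  have e2 := rk_split (X := X * (1 - a * b)) p2 ((hb.mul_right ha).mul_left
    ((Commute.one_left _).sub_left (p3.trans p4.symm)))
  rw [mul_assoc X, mul_assoc X, sub_mul, p3, one_mul, sub_zero] at e2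
  have e3 := rk_le a (X * (b * a)) b
  have e4 := rk_le b (X * (a * b)) a
  rw [← mul_assoc a, ← ha.eq, show X * a * (b * a) * b = X * (a * b * (a * b)) by noncomm_ring, p1] at e3
  rw [← mul_assoc b, ← hb.eq, show X * b * (a * b) * a = X * (b * a * (b * a)) by noncomm_ring, p2] at e4
  unfold E
  omega

theorem rk_one (h6 : finrank K V = 6) {a b c d e f g g' k k' : End K V} (h1 : Pr a b) (h2 : Pr c d) (h3 : Pr e f)
    (ac : Commute a c) (ad : Commute a d) (ae : Commute a e) (af : Commute a f) (bc : Commute b c) (bd : Commute b d)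
    (be : Commute b e) (bf : Commute b f) (ce : Commute c e) (cf : Commute c f) (de : Commute d e) (df : Commute d f)
    (g1 : g * g' = 1) (g2 : g' * g = 1) (k1 : k * k' = 1) (k2 : k' * k = 1)
    (ga : SemiconjBy g a c) (gb : SemiconjBy g b d) (gc : SemiconjBy g c a) (gd : SemiconjBy g d b)
    (ge : SemiconjBy g e e) (gf : SemiconjBy g f f) (ka : SemiconjBy k a a) (kb : SemiconjBy k b b)
    (kc : SemiconjBy k c e) (kd : SemiconjBy k d f) (ke : SemiconjBy k e c) (kf : SemiconjBy k f d)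
    (n1 : a * b ≠ 0) (n3 : e ≠ 0) : rk e = 1 := by
  have e1 := (cE ae.symm be.symm).symm
  have f1 := (cE af.symm bf.symm).symm
  have e2 := (cE ce.symm de.symm).symm
  have f2 := (cE cf.symm df.symm).symm
  have c1 := (cE ac.symm bc.symm).symm
  have d1 := (cE ad.symm bd.symm).symm
  have r0 := rk_three h1 (Commute.one_left a) (Commute.one_left b)
  have r1 := rk_three h2 c1 d1
  have r2 := rk_three h2 (ac.mul_left bc) (ad.mul_left bd)
  have r3 := rk_three h3 (e1.mul_left e2) (f1.mul_left f2)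
  have r4 := rk_three h3 (e1.mul_left (ce.mul_left de)) (f1.mul_left (cf.mul_left df))
  have r5 := rk_three h3 ((ae.mul_left be).mul_left e2) ((af.mul_left bf).mul_left f2)
  have r6 := rk_three h3 ((ae.mul_left be).mul_left (ce.mul_left de)) ((af.mul_left bf).mul_left (cf.mul_left df))
  have s1 := rk_conj g1 g2 (((ga.mul_right gb).mul_right (sE gc gd)).mul_right (sE ge gf))
  have s2 := rk_conj g1 g2 (((ga.mul_right gb).mul_right (sE gc gd)).mul_right (ge.mul_right gf))
  have s3 := rk_conj k1 k2 ((sE ka kb).mul_right ((kc.mul_right kd).mul_right (sE ke kf)))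
  have s4 := rk_conj k1 k2 ((ka.mul_right kb).mul_right ((kc.mul_right kd).mul_right (sE ke kf)))
  rw [← (c1.mul_right d1).eq] at s1 s2
  rw [← (e2.mul_right f2).eq, ← mul_assoc _ (c * d), ← mul_assoc _ (E c d)] at s3 s4
  have t1 := rk_three h1 ae.symm be.symm
  have t2 := rk_three h2 (ce.symm.mul_left c1) (de.symm.mul_left d1)
  have u1 := rk_nil h3.aa (ae.mul_left be).symm
  have u2 := rk_nil h3.aa (e1.mul_left e2).symm
  have u3 := rk_nil h3.aa (e1.mul_left (ce.mul_left de)).symm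
  rw [← mul_assoc] at u2 u3
  have v1 := rk_pos n1
  have v3 := rk_pos n3
  have v0 : rk (1 : End K V) = 6 := by rw [rk, End.one_eq_id, LinearMap.range_id, finrank_top, h6]
  rw [one_mul, one_mul] at r0
  omega

end Three

theorem sp_ext {c c' : ℕ} (h : SP c) (h' : SP c') (e : ∀ x < 64, ap c x = ap c' x) : c = c' :=
  mat_ext h.1.1 h'.1.1 fun _ ha => ind8 (P := fun a => ap c a = ap c' a) (e 0 (by omega))
    (fun a _ b _ h1 h2 => by rw [ap_xor, ap_xor, h1, h2])
    ⟨e _ (by omega), e _ (by omega), e _ (by omega), e _ (by omega), e _ (by omega), e _ (by omega),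
      h.2.trans h'.2.symm, h.1.2.1.trans h'.1.2.1.symm⟩ ha

theorem orb : ∀ w < 64, w ≠ 0 → ∃ u < 64, ∃ v < 64, ap (tc u) (ap (tc v) 1) = w := by decide +kernel

theorem perms : SP I8 ∧ (∃ c, SP c ∧ ap c 4 = 2 ∧ ap c 8 = 16 ∧ ap c 2 = 4 ∧ ap c 16 = 8 ∧ ap c 1 = 1 ∧ ap c 32 = 32) ∧
    ∃ c, SP c ∧ ap c 4 = 4 ∧ ap c 8 = 8 ∧ ap c 2 = 1 ∧ ap c 16 = 32 ∧ ap c 1 = 2 ∧ ap c 32 = 16 :=
  ⟨by decide +kernel, ⟨mk8 1 4 2 16 8 32 64 128, by decide +kernel⟩, mk8 2 1 4 8 32 16 64 128, by decide +kernel⟩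

theorem core {V : Type u} {Γ : Type v} [AddCommGroup V] [Module (ZMod 2) V] [Finite V] (hV : Nat.card V = 64) [Group Γ]
    {μ : Γ → ℕ} (hμ : SpM μ) (σ : Γ →* End (ZMod 2) V) (hσ : Function.Injective σ) :
    ∃ a : ℕ → V, (∀ x y, a (x ^^^ y) = a x + a y) ∧ (∀ x < 64, a x = 0 → x = 0) ∧ (∀ y, ∃ x < 64, y = a x) ∧
      ∀ γ, ∀ x < 64, σ γ (a x) = a (ap (μ γ) x) := by
  have : Fact (Nat.Prime 2) := Nat.fact_prime_two
  have : Module.Finite (ZMod 2) V := Module.Finite.of_finite
  have h6 : finrank (ZMod 2) V = 6 := by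
    have := Module.natCard_eq_pow_finrank (K := ZMod 2) (V := V)
    rw [hV, Nat.card_zmod] at this
    exact (Nat.pow_right_injective le_rfl (this.symm.trans (by norm_num : 64 = 2 ^ 6)))
  choose! T hT using fun w (hw : w < 64) => hμ.surj _ (tc_SP w hw).1
  have μ1 : μ 1 = I8 := by
    obtain ⟨γ, e⟩ := hμ.surj _ perms.1
    have := hμ.mul γ 1
    rw [mul_one, e, I8_mm (hμ.sp 1).1.1] at this
    exact this.symm
  have TT : ∀ w < 64, T w * T w = 1 := fun w hw => hμ.inj (by rw [hμ.mul, hT w hw, (tc_SP w hw).2.1, μ1])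
  have lt : ∀ γ, ∀ w < 64, ap (μ γ) w < 64 := fun γ w hw => (hμ.sp γ).1.lt hw
  have cjT : ∀ γ, ∀ w < 64, γ * T w = T (ap (μ γ) w) * γ := fun γ w hw =>
    hμ.inj (sp_ext (hμ.sp _) (hμ.sp _) fun x hx => by
      rw [hμ.mul, hμ.mul, ap_mm, ap_mm, hT w hw, hT _ (lt γ w hw), (tc_SP w hw).2.2 x hx,
        (tc_SP _ (lt γ w hw)).2.2 _ (lt γ x hx), ap_xor, ap_cond, (hμ.sp γ).1.ff hx hw])
  obtain ⟨n, hn⟩ : ∃ n : ℕ → End (ZMod 2) V, ∀ w, σ (T w) = n w + 1 := ⟨fun w => σ (T w) - 1, fun w => by simp⟩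
  have two : ∀ x : End (ZMod 2) V, x + x = 0 := fun x => ZModModule.add_self x
  have N1 : ∀ w < 64, n w * n w = 0 := fun w hw => by
    have := congrArg σ (TT w hw)
    rw [map_mul, map_one, hn] at this
    linear_combination (norm := noncomm_ring) this - two (n w)
  have N4 : ∀ γ, ∀ w < 64, SemiconjBy (σ γ) (n w) (n (ap (μ γ) w)) := fun γ w hw => by
    have := congrArg σ (cjT γ w hw)
    rw [map_mul, map_mul, hn, hn] at this
    show _ = _
    linear_combination (norm := noncomm_ring) this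
  have N2 : ∀ w < 64, ∀ w' < 64, ff w w' = false → Commute (n w) (n w') := fun w hw w' hw' e => by
    have := N4 (T w') w hw
    rw [hT w' hw', (tc_SP w' hw').2.2 w hw, e, cond_false, Nat.xor_zero, hn] at this
    show _ = _
    linear_combination (norm := noncomm_ring) -this.eq
  have N3 : ∀ w < 64, ∀ w' < 64, ff w w' = true → Pr (n w) (n w') ∧ n w * n w' ≠ 0 := fun w hw w' hw' e => by
    have e1 := cjT (T w') w hw
    have e2 := cjT (T w) w' hw'
    rw [hT w' hw', (tc_SP w' hw').2.2 w hw, e, cond_true] at e1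
    rw [hT w hw, (tc_SP w hw).2.2 w' hw', ff_comm hw' hw, e, cond_true, Nat.xor_comm] at e2
    have e3 : σ (T w * T w' * T w) = σ (T w' * T w * T w') := by
      rw [e1, e2, mul_assoc, mul_assoc, TT w hw, TT w' hw']
    simp only [map_mul, hn] at e3
    have br : n w * n w' * n w - n w = n w' * n w * n w' - n w' := by
      linear_combination (norm := noncomm_ring) e3 - N1 w hw + N1 w' hw' - two (n w) + two (n w')
    refine ⟨⟨N1 w hw, N1 w' hw', br⟩, fun e0 => ?_⟩
    rw [e0, mul_assoc, e0, zero_mul, mul_zero, sub_right_inj] at br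
    have e4 := congrArg (fun γ => ap (μ γ) w') (hσ ((hn w).trans (br ▸ (hn w').symm)))
    simp only [hT w hw, hT w' hw', (tc_SP w hw).2.2 w' hw', (tc_SP w' hw').2.2 w' hw', ff_comm hw' hw, e,
      (ff_zero w' hw').2.1, cond_true, cond_false, Nat.xor_right_inj] at e4
    rw [e4, (ff_zero w' hw').1] at e
    exact Bool.false_ne_true e
  have i1 : ∀ γ, σ γ * σ γ⁻¹ = 1 := fun γ => by rw [← map_mul, mul_inv_cancel, map_one]
  have i2 : ∀ γ, σ γ⁻¹ * σ γ = 1 := fun γ => by rw [← map_mul, inv_mul_cancel, map_one]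
  have R1 : rk (n 1) = 1 := by
    obtain ⟨-, ⟨_, hc, c1, c2, c3, c4, c5, c6⟩, _, hd, d1, d2, d3, d4, d5, d6⟩ := perms
    obtain ⟨g, rfl⟩ := hμ.surj _ hc
    obtain ⟨k, rfl⟩ := hμ.surj _ hd
    have f : ff 4 8 = true ∧ ff 2 16 = true ∧ ff 1 32 = true ∧ ∀ x ∈ [(4, 2), (4, 16), (4, 1), (4, 32), (8, 2), (8, 16),
      (8, 1), (8, 32), (2, 1), (2, 32), (16, 1), (16, 32)], x.1 < 64 ∧ x.2 < 64 ∧ ff x.1 x.2 = false := by
      clear * -; decide +kernel
    have c := fun x hx => N2 _ (f.2.2.2 x hx).1 _ (f.2.2.2 x hx).2.1 (f.2.2.2 x hx).2.2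
    simp only [List.forall_mem_cons, List.not_mem_nil, false_imp_iff, implies_true, and_true] at c
    obtain ⟨x1, x2, x3, x4, x5, x6, x7, x8, x9, x10, x11, x12⟩ := c
    have P1 := N3 4 (by omega) 8 (by omega) f.1
    have P3 := N3 1 (by omega) 32 (by omega) f.2.2.1
    have S : ∀ γ w w', ap (μ γ) w = w' → w < 64 → SemiconjBy (σ γ) (n w) (n w') := fun γ w _ e hw => e ▸ N4 γ w hw
    exact rk_one h6 P1.1 (N3 2 (by omega) 16 (by omega) f.2.1).1 P3.1 x1 x2 x3 x4 x5 x6 x7 x8 x9 x10 x11 x12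
      (i1 g) (i2 g) (i1 k) (i2 k) (S _ _ _ c1 (by omega)) (S _ _ _ c2 (by omega)) (S _ _ _ c3 (by omega))
      (S _ _ _ c4 (by omega)) (S _ _ _ c5 (by omega)) (S _ _ _ c6 (by omega)) (S _ _ _ d1 (by omega))
      (S _ _ _ d2 (by omega)) (S _ _ _ d3 (by omega)) (S _ _ _ d4 (by omega)) (S _ _ _ d5 (by omega))
      (S _ _ _ d6 (by omega)) P1.2 fun e => P3.2 (by rw [e, zero_mul])
  have R : ∀ w < 64, w ≠ 0 → ∃ α : V, α ≠ 0 ∧ (∃ y, n w y = α) ∧ ∀ y, n w y = 0 ∨ n w y = α := fun w hw w0 => by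
    obtain ⟨x, hx, y, hy, e⟩ := orb w hw w0
    have := rk_conj (i1 _) (i2 _) (N4 (T x * T y) 1 (by omega))
    rw [R1, hμ.mul, ap_mm, hT x hx, hT y hy, e] at this
    obtain ⟨⟨α, hα⟩, α0, hs⟩ := finrank_eq_one_iff'.1 this.symm
    refine ⟨α, fun e => α0 (Subtype.ext e), hα, fun y => ?_⟩
    obtain ⟨c, hc⟩ := hs ⟨_, y, rfl⟩
    have hc' : n w y = c • α := (congrArg Subtype.val hc).symm
    rw [hc']
    fin_cases c
    exacts [.inl (zero_smul _ _), .inr (one_smul _ _)]
  choose! α α0 αe αs using R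
  have nα : ∀ w < 64, w ≠ 0 → ∀ x < 64, x ≠ 0 → n w (α x) = cond (ff x w) (α w) 0 := fun w hw w0 x hx x0 => by
    obtain ⟨y, hy⟩ := αe x hx x0
    cases e : ff x w
    · refine (αs w hw w0 _).resolve_right fun e1 => ?_
      obtain ⟨z, hz⟩ := αe w hw w0
      have e2 : n x (n w y) = α w := by rw [← End.mul_apply, (N2 x hx w hw e).eq, End.mul_apply, hy, e1]
      have e3 : α x = α w := (e2 ▸ (αs x hx x0 (n w y)).resolve_left (e2 ▸ α0 w hw w0)).symm
      rw [e3, ← hz, ← End.mul_apply, N1 w hw, hz] at e1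
      exact α0 w hw w0 e1.symm
    · refine (αs w hw w0 _).resolve_left fun e1 => (N3 w hw x hx (ff_comm hx hw ▸ e)).2 (LinearMap.ext fun z => ?_)
      rw [End.mul_apply, LinearMap.zero_apply]
      rcases αs x hx x0 z with e2 | e2
      · rw [e2, map_zero]
      · rw [e2, e1]
  obtain ⟨a, ha⟩ : ∃ a : ℕ → V, ∀ x, a x = ∑ i ∈ Finset.range 6, cond (x.testBit i) (α (2 ^ i)) 0 := ⟨_, fun _ => rfl⟩
  have ax : ∀ x y, a (x ^^^ y) = a x + a y := fun x y => by
    rw [ha, ha, ha, ← Finset.sum_add_distrib]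
    refine Finset.sum_congr rfl fun i _ => ?_
    rw [Nat.testBit_xor]
    cases x.testBit i <;> cases y.testBit i <;> simp [ZModModule.add_self]
  have a0 : a 0 = 0 := by simp [ha]
  have ab : ∀ i < 6, a (2 ^ i) = α (2 ^ i) := fun i hi => by
    rw [ha, Finset.sum_eq_single i (fun j _ e => by simp [Nat.testBit_two_pow, e.symm]) fun e => by simp [hi] at e]
    simp
  have na : ∀ w < 64, w ≠ 0 → ∀ x < 64, n w (a x) = cond (ff x w) (α w) 0 := fun w hw w0 =>
    ind_bits (k := 6) (P := fun x => n w (a x) = cond (ff x w) (α w) 0)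
      (by rw [a0, map_zero, (ff_zero w hw).1, cond_false]) fun x hx i hi e => by
        rw [ax, map_add, e, ab i hi, nα w hw w0 _ (pow_lt64 hi) (by positivity), (ff_bit x hx w hw).2 i hi]
        cases ff x w <;> cases ff (2 ^ i) w <;> simp [ZModModule.add_self]
  have ai : ∀ x < 64, a x = 0 → x = 0 := fun x hx e => (ff_zero x hx).2.2 fun i hi => by
    have := na _ (pow_lt64 hi) (by positivity) x hx
    rw [e, map_zero] at this
    by_contra e'
    rw [Bool.not_eq_false] at e'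
    rw [e', cond_true] at this
    exact α0 _ (pow_lt64 hi) (by positivity) this.symm
  have as : ∀ y, ∃ x < 64, y = a x := fun y => by
    obtain ⟨x, e⟩ := (Function.Injective.bijective_of_nat_card_le (f := fun x : Fin 64 => a x)
      (fun x y e => Fin.ext (Nat.xor_eq_zero_iff.1 (ai _ (xor64 x.2 y.2)
        (by rw [ax, show a x = a y from e, ZModModule.add_self])))) (by simp [hV])).2 y
    exact ⟨x, x.2, e.symm⟩
  have aα : ∀ w < 64, w ≠ 0 → α w = a w := fun w hw w0 => by
    obtain ⟨x, hx, e⟩ := as (α w)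
    rw [e, Nat.xor_eq_zero_iff.1 ((ff_zero _ (xor64 hx hw)).2.2 fun i hi => ?_)]
    have h1 := na _ (pow_lt64 hi) (by positivity) x hx
    have h0 := α0 _ (pow_lt64 hi) (by positivity)
    rw [← e, nα _ (pow_lt64 hi) (by positivity) w hw w0] at h1
    rw [ff_xor hx hw (pow_lt64 hi)]
    revert h1
    cases ff x (2 ^ i) <;> cases ff w (2 ^ i) <;> simp [h0, h0.symm]
  refine ⟨a, ax, ai, as, fun γ w hw => ?_⟩
  by_cases w0 : w = 0
  · rw [w0, ap_zero, a0, map_zero]
  have w1 : ap (μ γ) w ≠ 0 := fun e => w0 (by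
    have := congrArg (ap (μ γ⁻¹)) e
    rwa [← ap_mm, ← hμ.mul, inv_mul_cancel, μ1, ap_I8 w (by omega), ap_zero] at this)
  obtain ⟨y, hy⟩ := αe w hw w0
  have e : σ γ (α w) = n (ap (μ γ) w) (σ γ y) := by rw [← hy, ← End.mul_apply, (N4 γ w hw).eq, End.mul_apply]
  rw [← aα w hw w0, ← aα _ (lt γ w hw) w1, e]
  refine (αs _ (lt γ w hw) w1 _).resolve_left fun e0 => α0 w hw w0 ?_
  have := congrArg (σ γ⁻¹) (e.trans e0)
  rwa [← End.mul_apply, i2, map_zero] at this

end Mod

theorem mod : MOD.{u, v} := by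
  intro G Γ _ _ _ A μ ρ hμ sq hA surj ker
  let _ : CommGroup A := { (inferInstance : Group A) with
    mul_comm := fun x y => Subtype.ext (by
      have h := fun z (hz : z ∈ A) => inv_eq_of_mul_eq_one_right (sq z hz)
      show (x : G) * y = y * x
      rw [← h _ (mul_mem x.2 y.2), mul_inv_rev, h _ x.2, h _ y.2]) }
  let _ : Module (ZMod 2) (Additive A) := AddCommMonoid.zmodModule fun x => by
    rw [two_nsmul]; exact Subtype.ext (sq _ x.toMul.2)
  have hk : ρ.ker = A.normalizerMonoidHom.ker := by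
    ext n
    rw [normalizerMonoidHom_ker, MonoidHom.mem_ker, ker, mem_subgroupOf]
  let τ : Γ →* MulAut A := ρ.liftOfSurjective surj ⟨A.normalizerMonoidHom, hk.le⟩
  have hτ : ∀ n, τ (ρ n) = A.normalizerMonoidHom n := fun n => ρ.liftOfRightInverse_comp_apply _ _ _ n
  let σ : Γ →* Module.End (ZMod 2) (Additive A) :=
    { toFun := fun γ => (MonoidHom.toAdditive (τ γ).toMonoidHom).toZModLinearMap 2
      map_one' := by ext y; simp
      map_mul' := fun x y => by ext z; simp }
  have hσ : ∀ (n : 𝒩(A)) (y : Additive A), (((σ (ρ n) y).toMul : A) : G) = n * (y.toMul : G) * (n : G)⁻¹ := fun n y => by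
    show ((τ (ρ n) y.toMul : A) : G) = _
    rw [hτ]; rfl
  obtain ⟨a, h1, h2, h3, h4⟩ := Mod.core (V := Additive A) hA hμ σ fun γ δ e => by
    obtain ⟨n, rfl⟩ := surj γ
    obtain ⟨m, rfl⟩ := surj δ
    rw [← inv_mul_eq_one, ← map_inv, ← map_mul, ker, mem_centralizer_iff]
    intro y hy
    have := (hσ n (.ofMul ⟨y, hy⟩)).symm.trans (e ▸ hσ m (.ofMul ⟨y, hy⟩))
    change (n : G) * y * (n : G)⁻¹ = m * y * (m : G)⁻¹ at this
    show y * ((n : G)⁻¹ * m) = (n : G)⁻¹ * m * y
    calc y * ((n : G)⁻¹ * m) = (n : G)⁻¹ * (n * y * (n : G)⁻¹) * m := by group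
      _ = _ := by rw [this]; group
  refine ⟨fun x => ((a x).toMul : A), ⟨fun x _ y _ => by rw [h1]; rfl, fun x hx e => h2 x hx (Subtype.ext e),
    fun y => ⟨fun hy => ?_, fun ⟨x, _, e⟩ => e ▸ (a x).toMul.2⟩⟩, fun n x hx => by rw [← hσ, h4 _ x hx]⟩
  obtain ⟨x, hx, e⟩ := h3 (.ofMul ⟨y, hy⟩)
  exact ⟨x, hx, by rw [← e]; rfl⟩

end CL.F6
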