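/-
Project F6 (helper26): the group `J` inside `T`; codes and the action of lifted codes.
-/
import Cfsg.Agent.F6.JD
import Cfsg.Agent.F6.NB2

set_option autoImplicit false

namespace CL.F6

open Subgroup CL.Even CL.Grp CL.U6 CL.Fc CL.MT Cfsg

universe u

/-- the table of the section `s` -/
def TAB : ℕ := 0x804222110804020180522810080502018048381008050301805933110804030180562a11080502018046201008040201805c301008040301804d3b1108050301804a3e1109050301805a341009040301804024100904020180512f1109050201805f371109040301804f3d100905030180552d10090502018044261109040201805e2a1108050201804e201008040201805430100804030180453b1108050301804b221108040201805b28100805020180413810080503018050331108040301805637110904030180463d1009050301805c2d1009050201804d26110904020180423e11090503018052341009040301804824100904020180592f1109050201804a371109040301805a3d100905030180402d10090502018051261109040201805e3e1109050301804e341009040301805424100904020180452f110905020180432a11080502018053201008040201804930100804030180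583b110805030180562211080402018046281008050201805c381008050301804d33110804030180573e11090503018047341009040301805d241009040201804c2f1109050201804237110904030180523d100905030180482d10090502018059261109040201805e221108040201804e28100805020180543810080503018045331108040301804a2a1108050201805a201008040201804030100804030180513b11080503018058281008050201804922110804020180523311080403018042381008050301804c201008040201805d2a110805020180463b11080503018056301008040301805034100904030180413e1109050301805a2f1109050201804a24100904020180453d10090503018054371109040301804f261109040201805f2d1009050201804420100804020180552a1108050201804e3b1108050301805e30100804030180512810080502018040221108040201805b331108040301804b381008050301804c3d1009050301805d371109040301804626110904020180562d1009050201805834100904030180493e110905030180522f1109050201804224100904020180503d10090503018041371109040301805a261109040201804a2d1009050201804434100904030180553e1109050301804e2f1109050201805e241009040201805920100804020180482a110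805020180533b11080503018043301008040301804c281008050201805d22110804020180463311080403018056381008050301804d341009040301805c3e110905030180472f1109050201805724100904020180583d10090503018049371109040301805226110904020180422d100905020180442810080502018055221108040201804e331108040301805e381008050301805020100804020180412a1108050201805a3b1108050301804a3010080403018048331108040301805838100805030180432810080502018052221108040201805c3b1108050301804c301008040301805720100804020180462a110805020180402f11090502018050241009040201804b341009040301805a3e1109050301805526110904020180452d1009050201805e3d1009050301804f37110904030180543b11080503018044301008040301805f201008040201804e2a110805020180413311080403018051381008050301804a281008050201805b221108040201805c261109040201804c2d100905020180573d1009050301804637110904030180482f11090502018058241009040201804334100904030180523e1109050301804026110904020180502d1009050201804b3d1009050301805a37110904030180542f11090502018044241009040201805f341009040301804e3e1109050301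80493b11080503018059301008040301804220100804020180532a1108050201805c331108040301804c38100805030180572810080502018046221108040201805d2f1109050201804d241009040201805634100904030180473e1109050301804826110904020180582d100905020180433d1009050301805237110904030180543311080403018044381008050301805f281008050201804e22110804020180403b11080503018050301008040301804b201008040201805a2a11080502018053381008050301804233110804030180582211080402018048281008050201804730100804030180563b1108050301804c2a1108050201805c201008040201805b241009040201804a2f110905020180503e11090503018040341009040301804e2d1009050201805f261109040201804537110904030180553d1009050301804f301008040301805e3b110805030180442a11080502018054201008040201805a381008050301804b3311080403018051221108040201804128100805020180472d10090502018056261109040201804c371109040301805c3d1009050301805324100904020180422f110905020180583e11090503018048341009040301805b2d1009050201804a261109040201805037110904030180403d1009050301804f241009040201805e2f110905020180443e11090503018054341009040301805230100804030180433b110805030180592a1108050201804920100804020180473810080503018056331108040301804c221108040201805c281008050201804624100904020180572f1109050201804d3e1109050301805d34100904030180532d10090502018042261109040201805837110904030180483d1009050301804f381008050301805e33110804030180442211080402018054281008050201805b301008040301804a3b110805030180502a11080502018040201008040201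

/-- the code of `s a` -/
def sc (a : ℕ) : ℕ := Nat.land (Nat.shiftRight TAB (Nat.mul 64 a)) 18446744073709551615

/-- optional factor -/
def zc (c : ℕ) (e : Bool) : ℕ := cond e c I8

/-- the code of `j a e f` -/
def jc (a : ℕ) (e f : Bool) : ℕ := mm (mm (sc a) (zc (tr 1) e)) (zc (tc 1) f)

theorem sc_spec : ∀ a < 256, TC (sc a) ∧ mm (tr 1) (sc a) = mm (sc a) (tr 1) ∧ mm (tc 1) (sc a) = mm (sc a) (tc 1) ∧
    (∀ i < 8, mm (sc a) (sc (2 ^ i)) = mm (sc (a ^^^ 2 ^ i)) (zc (tr 1) (be a (2 ^ i)))) ∧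
    ∀ e f, jc a e f = I8 → a = 0 ∧ e = false ∧ f = false := by decide +kernel

theorem pm_consts : TC (tr 1) ∧ TC (tc 1) ∧ TC (tr 32) ∧ TC (tc 2) ∧ TC (vc 256) ∧ TC (tc 4) ∧ sc 0 = I8 ∧
    mm (tr 1) (tr 1) = I8 ∧ mm (tc 1) (tc 1) = I8 ∧ mm (tr 1) (tc 1) = mm (tc 1) (tr 1) := by decide +kernel

theorem TC_zc {c : ℕ} (h : TC c) (e : Bool) : TC (zc c e) := by
  cases e
  exacts [TC_I8, h]

/-- the code `c` acts on `J` by `M` and `l` -/
def AcC (c M l : ℕ) : Prop := AS c ∧ mm c (tr 1) = mm (tr 1) c ∧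
  mm c (tc 1) = mm (mm (tc 1) (zc (tr 1) (sl M))) c ∧ Cp M l ∧
    ∀ i < 8, ∃ e, mm c (sc (2 ^ i)) = mm (jc (ap M (2 ^ i)) e (BB (2 ^ i) l)) c

noncomputable instance (M l : ℕ) : Decidable (Cp M l) := inferInstanceAs (Decidable (_ ∧ _))

noncomputable instance (c M l : ℕ) : Decidable (AcC c M l) := inferInstanceAs (Decidable (_ ∧ _ ∧ _ ∧ _ ∧ _))

theorem pow_lt256 {i : ℕ} (hi : i < 8) : 2 ^ i < 256 := Nat.pow_lt_pow_right (a := 2) (by omega) hi

variable {G : Type u} [Group G]

theorem pre_bits {z : G} {s : ℕ → G} (zz : z * z = 1) (zs : ∀ a < 256, Commute z (s a)) (s0 : s 0 = 1)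
    (h : ∀ a < 256, ∀ i < 8, s a * s (2 ^ i) = s (a ^^^ 2 ^ i) * zb z (be a (2 ^ i))) :
    ∀ a < 256, ∀ b < 256, s a * s b = s (a ^^^ b) * zb z (be a b) := fun a ha =>
  ind_bits (k := 8) (by simp [s0, (be_zero a ha).2, zb]) fun b hb i hi ih => by
    have hp := pow_lt256 hi
    have e : s (b ^^^ 2 ^ i) = s b * s (2 ^ i) * zb z (be b (2 ^ i)) := by
      rw [h b hb i hi, zb_mul zz, Bool.xor_self, zb_false, mul_one]
    rw [e, ← mul_assoc, ← mul_assoc, ih, zb_swap (zs _ hp).symm, h _ (xor_lt ha hb) i hi, zb_mul zz, zb_mul zz,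
      Nat.xor_assoc, be_xor ha hb hp, be_xor' hb hp ha]
    congr 2
    cases be a b <;> cases be a (2 ^ i) <;> cases be b (2 ^ i) <;> rfl

/-- construction of `JB` -/
def mkJB (z d : G) (s : ℕ → G) (zz : z * z = 1) (dd : d * d = 1) (zd : Commute z d) (zs : ∀ a < 256, Commute z (s a))
    (ds : ∀ a < 256, Commute d (s a)) (s0 : s 0 = 1)
    (sm : ∀ a < 256, ∀ b < 256, s a * s b = s (a ^^^ b) * zb z (be a b))
    (inj : ∀ a < 256, ∀ e f, s a * zb z e * zb d f = 1 → a = 0 ∧ e = false ∧ f = false) : JB G :=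
  have k : ∀ {a b}, a < 256 → b < 256 → ∀ e f e' f', s a * zb z e * zb d f * (s b * zb z e' * zb d f') =
      s (a ^^^ b) * zb z (be a b ^^ (e ^^ e')) * zb d (f ^^ f') := fun {a b} ha hb e f e' f' => by
    have h1 := (zb_comm (ds b hb).symm f).eq
    have h2 := (zb_comm (zs b hb).symm e).eq
    have h3 : zb d f * zb z e' = zb z e' * zb d f := (zb_comm (zb_comm zd f).symm e').eq
    calc _ = s a * (zb z e * (zb d f * s b)) * zb z e' * zb d f' := by simp only [mul_assoc]
      _ = s a * s b * zb z e * (zb d f * zb z e') * zb d f' := by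
        rw [← h1, ← mul_assoc (zb z e), ← h2]; simp only [mul_assoc]
      _ = _ := by rw [h3, ← mul_assoc, zb_mul dd, sm a ha b hb, mul_assoc (s _ * _), ← one_mul (zb z e), zb_mul zz,
        one_mul, zb_mul zz]
  { z := z, d := d, s := s, zz := zz, dd := dd, zd := zd, zs := zs, ds := ds, s_mul := sm, inj := inj
    J := { carrier := {y | ∃ a < 256, ∃ e f, y = s a * zb z e * zb d f}
           one_mem' := ⟨0, by omega, false, false, by simp [s0, zb]⟩
           mul_mem' := by
             rintro _ _ ⟨a, ha, e, f, rfl⟩ ⟨b, hb, e', f', rfl⟩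
             exact ⟨_, xor_lt ha hb, _, _, k ha hb ..⟩
           inv_mem' := by
             rintro _ ⟨a, ha, e, f, rfl⟩
             refine ⟨a, ha, e ^^ qq a, f, inv_eq_of_mul_eq_one_right ?_⟩
             rw [k ha ha, Nat.xor_self, be_self ha, s0]
             cases e <;> cases f <;> cases qq a <;> simp [zb] }
    mem_J := Iff.rfl }

namespace JB

variable (S : JB G)

theorem s_xor {a b : ℕ} (ha : a < 256) (hb : b < 256) : S.s (a ^^^ b) = S.s a * S.s b * zb S.z (be a b) := by
  rw [S.s_mul a ha b hb, zb_mul S.zz, Bool.xor_self, zb_false, mul_one]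

theorem ind {P : G → Prop} (h1 : P 1) (hm : ∀ x y, P x → P y → P (x * y)) (hz : P S.z) (hd : P S.d)
    (hs : ∀ i < 8, P (S.s (2 ^ i))) : ∀ y ∈ S.J, P y := fun y hy => by
  have k : ∀ x, P x → ∀ e, P (zb x e) := fun x hx e => by
    cases e
    exacts [h1, hx]
  obtain ⟨a, ha, e, f, rfl⟩ := S.mem_J.1 hy
  refine hm _ _ (hm _ _ (ind_bits (k := 8) (P := fun a => P (S.s a)) (S.s_zero ▸ h1) (fun a ha i hi ih => ?_) a ha)
    (k _ hz e)) (k _ hd f)
  rw [S.s_xor ha (pow_lt256 hi)]
  exact hm _ _ (hm _ _ ih (hs i hi)) (k _ hz _)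

theorem j_zb (a : ℕ) (e f c : Bool) : S.j a e f * zb S.z c = S.j a (e ^^ c) f := by
  cases c <;> simp [zb, S.j_mul_z]

theorem AcL_of {n : G} {M l : ℕ} (hl : l < 256) (hz : Commute n S.z)
    (h : ∀ i < 8, ∃ e, n * S.s (2 ^ i) * n⁻¹ = S.j (ap M (2 ^ i)) e (BB (2 ^ i) l)) : S.AcL n M l :=
  ind_bits (k := 8) ⟨false, by simp [S.s_zero, ap_zero, BB_zero, S.j_one]⟩ fun a ha i hi ⟨e, h1⟩ => by
    obtain ⟨e', h2⟩ := h i hi
    have hp := pow_lt256 hi
    exact ⟨_, by rw [S.s_xor ha hp, zb_conj hz, ← conj_mul, h1, h2, S.j_mul (ap_lt _ _) (ap_lt _ _), S.j_zb, ap_xor,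
      BB_xor ha hp hl]⟩

end JB

namespace NM

variable (M : NM G)

theorem el_zc (c : ℕ) (e : Bool) : zb (M.el c) e = M.el (zc c e) := by
  cases e
  exacts [M.el_I8.symm, rfl]

include M in
theorem TC_mm {c c' : ℕ} (h : TC c) (h' : TC c') : TC (mm c c') := (M.el_mul h h').1

include M in
theorem TC_jc {a : ℕ} (ha : a < 256) (e f : Bool) : TC (jc a e f) :=
  M.TC_mm (M.TC_mm (sc_spec a ha).1 (TC_zc pm_consts.1 e)) (TC_zc pm_consts.2.1 f)

theorem el_jc {a : ℕ} (ha : a < 256) (e f : Bool) :
    M.el (sc a) * zb (M.el (tr 1)) e * zb (M.el (tc 1)) f = M.el (jc a e f) := by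
  rw [M.el_zc, M.el_zc, M.mul_el (sc_spec a ha).1 (TC_zc pm_consts.1 e),
    M.mul_el (M.TC_mm (sc_spec a ha).1 (TC_zc pm_consts.1 e)) (TC_zc pm_consts.2.1 f), jc]

theorem sq_el {c : ℕ} (h : TC c) (e : mm c c = I8) : M.el c * M.el c = 1 := by rw [M.mul_el h h, e, M.el_I8]

/-- the group `J` -/
def jb : JB G :=
  have z := pm_consts.1
  have d := pm_consts.2.1
  have s0 := pm_consts.2.2.2.2.2.2.1
  have zz := pm_consts.2.2.2.2.2.2.2.1
  have dd := pm_consts.2.2.2.2.2.2.2.2.1
  have zd := pm_consts.2.2.2.2.2.2.2.2.2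
  have zs : ∀ a < 256, Commute (M.el (tr 1)) (M.el (sc a)) := fun a ha =>
    (M.comm_el z (sc_spec a ha).1).2 (sc_spec a ha).2.1
  mkJB (M.el (tr 1)) (M.el (tc 1)) (fun a => M.el (sc a)) (M.sq_el z zz) (M.sq_el d dd) ((M.comm_el z d).2 zd) zs
    (fun a ha => (M.comm_el d (sc_spec a ha).1).2 (sc_spec a ha).2.2.1) (by rw [s0, M.el_I8])
    (pre_bits (M.sq_el z zz) zs (by rw [s0, M.el_I8]) fun a ha i hi => by
      rw [M.mul_el (sc_spec a ha).1 (sc_spec _ (pow_lt256 hi)).1, (sc_spec a ha).2.2.2.1 i hi, M.el_zc,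
        M.mul_el (sc_spec _ (xor_lt ha (pow_lt256 hi))).1 (TC_zc z _)])
    fun a ha e f h => (sc_spec a ha).2.2.2.2 e f (M.el_inj (M.TC_jc ha e f) TC_I8 (by rw [← M.el_jc ha, h, M.el_I8]))

theorem jb_z : M.jb.z = M.el (tr 1) := rfl

theorem jb_d : M.jb.d = M.el (tc 1) := rfl

theorem jb_s (a : ℕ) : M.jb.s a = M.el (sc a) := rfl

theorem jb_j {a : ℕ} (ha : a < 256) (e f : Bool) : M.jb.j a e f = M.el (jc a e f) := M.el_jc ha e f

theorem JT : M.jb.J ≤ M.T := fun _ h => by
  obtain ⟨a, ha, e, f, rfl⟩ := M.jb.ex_j h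
  exact M.jb_j ha e f ▸ M.el_mem (M.TC_jc ha e f)

theorem ac_of {n : G} {A l : ℕ} (hn : n ∈ 𝒩(M.A)) (hT : ∀ y ∈ M.jb.J, n * y * n⁻¹ ∈ M.T) (h : AcC (M.ν n) A l) :
    M.jb.Ac n A := by
  obtain ⟨-, h1, h2, h3, h4⟩ := h
  have hz : Commute n M.jb.z :=
    mul_inv_eq_iff_eq_mul.1 (M.conj_el hn pm_consts.1 pm_consts.1 (hT _ M.jb.zJ) h1)
  refine ⟨hz, ?_, l, h3, M.jb.AcL_of h3.1 hz fun i hi => ?_⟩
  · rw [jb_d, jb_z, M.el_zc, M.mul_el pm_consts.2.1 (TC_zc pm_consts.1 _)]
    exact M.conj_el hn pm_consts.2.1 (M.TC_mm pm_consts.2.1 (TC_zc pm_consts.1 _)) (hT _ M.jb.dJ) h2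
  · obtain ⟨e, h5⟩ := h4 i hi
    exact ⟨e, (M.conj_el hn (sc_spec _ (pow_lt256 hi)).1 (M.TC_jc (ap_lt _ _) ..) (hT _ (M.jb.s_mem (pow_lt256 hi)))
      h5).trans (M.jb_j (ap_lt _ _) ..).symm⟩

theorem ac_el {c A l : ℕ} (hc : TC c) (h : AcC c A l) : M.jb.Ac (M.el c) A :=
  M.ac_of (M.el_N hc) (fun _ hy => conj_mem (le_normalizer (M.el_mem hc)) (M.JT hy)) ((M.ν_el hc).symm ▸ h)

theorem ac_lift {c A l : ℕ} (h : AcC c A l) : ∃ n ∈ 𝒩(M.A), M.ν n = c ∧ M.jb.Ac n A := by
  have k : ∀ {x}, TC x → (∃ c', TC c' ∧ mm c x = mm c' c) →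
      M.el x ∈ M.T ∧ ∃ c', TC c' ∧ mm c (M.ν (M.el x)) = mm c' c := fun hx h => ⟨M.el_mem hx, by rwa [M.ν_el hx]⟩
  obtain ⟨n, hn, rfl, h1⟩ := M.lift c h.1 _ M.JT fun y hy => (M.jb.ind
    (P := fun y => y ∈ M.T ∧ ∃ c', TC c' ∧ mm c (M.ν y) = mm c' c)
    ⟨one_mem _, I8, TC_I8, by rw [M.ν_one, mm_I8 h.1.1, I8_mm h.1.1]⟩
    (fun x y ⟨hx, a, ha, e⟩ ⟨hy, b, hb, e'⟩ => ⟨mul_mem hx hy, _, M.TC_mm ha hb, by
      rw [M.ν_mul (M.TN hx) (M.TN hy), ← mm_assoc, e, mm_assoc, e', mm_assoc]⟩)
    (k pm_consts.1 ⟨_, pm_consts.1, h.2.1⟩)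
    (k pm_consts.2.1 ⟨_, M.TC_mm pm_consts.2.1 (TC_zc pm_consts.1 _), h.2.2.1⟩)
    (fun i hi => k (sc_spec _ (pow_lt256 hi)).1
      (let ⟨_, e⟩ := h.2.2.2.2 i hi; ⟨_, M.TC_jc (ap_lt _ _) .., e⟩)) y hy).2
  exact ⟨n, hn, rfl, M.ac_of hn h1 h⟩

theorem mem_O {n n' : G} (hn : n ∈ 𝒩(M.A)) (hn' : n' ∈ 𝒩(M.A)) (e : M.ν n = M.ν n') : n'⁻¹ * n ∈ M.O := by
  rw [← M.ker (mul_mem (inv_mem hn') hn), M.ν_mul (inv_mem hn') hn, e, ← M.ν_mul (inv_mem hn') hn', inv_mul_cancel,
    M.ν_one]

theorem O_cent : M.O ⊓ 𝒩(M.jb.J) ≤ 𝒞(M.jb.J) := fun o ho y hy => by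
  have h1 : o ∈ 𝒩(M.A) := cent_le_norm _ (M.OA ho.1)
  have h2 := M.TN (M.JT hy)
  have := M.ν_inj (M.JT (conj_mem ho.2 hy)) (M.JT hy) (by
    rw [M.ν_mul (mul_mem h1 h2) (inv_mem h1), M.ν_mul h1 h2, (M.ker h1).2 ho.1, (M.ker (inv_mem h1)).2 (inv_mem ho.1),
      I8_mm (M.ν_AS h2).1, mm_I8 (M.ν_AS h2).1])
  exact (mul_inv_eq_iff_eq_mul.1 this).symm

theorem fixA {n : G} (hn : n ∈ 𝒩(M.A)) {x : ℕ} (hx : x < 64) (h : Commute n (M.el (tr x))) : ap (M.ν n) x = x := by
  have h1 := (M.ν_AS hn).lt hx
  have := M.el_inj (tr_TC _ h1) (tr_TC _ hx) ((M.act hn x hx).symm.trans (conj_eq_of_commute h))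
  exact (by decide +kernel : ∀ a < 64, ∀ b < 64, tr a = tr b → a = b) _ h1 _ hx this

theorem cn' {g c c' : ℕ} {x y : G} (hx : x = M.el c) (hy : y = M.el c')
    (h : AS g ∧ TC c ∧ TC c' ∧ mm c c = I8 ∧ mm g c = mm c' g) : Cn 𝒩(M.A) x y :=
  let ⟨n, hn, _, e⟩ := M.cn h.1 h.2.1 h.2.2.1 h.2.2.2.1 h.2.2.2.2
  ⟨n, hn, hx ▸ hy ▸ e⟩

end NM

end CL.F6
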