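/-
Project F6: normal forms of the inner elements of `N(J)`.
-/
import Cfsg.Agent.F6.JC

set_option autoImplicit false

namespace CL.F6

open Subgroup CL.Even CL.Grp CL.U6 CL.Fc CL.MT Cfsg

universe u

theorem rax_dec : (∀ a ∈ FF 85, ∃ b < 256, ap t0 b ^^^ b = a) ∧
    (∀ a < 256, ap t0 a = a → qq a = false → a ∉ FF 85 → ∃ g ∈ [[], [109, 126, 94, 87], [112, 117, 94, 87], [125], [119],
      [111, 109, 87], [123, 121, 87], [76, 96, 87], [28, 112, 87]], (∀ v ∈ g, Iso v) ∧ sl (tw g) = false ∧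
      mm (tw g) t0 = mm t0 (tw g) ∧ ap (tw g) a ^^^ 175 ∈ FF 85) ∧
    (∀ c < 256, (∀ a < 256, ap t0 a = a → BB c a = false) → c ∈ FF 85) ∧ BB 85 2 = true ∧ qq 0 = false := by
  decide +kernel

theorem rax_xor {p b u v : ℕ} (h : p ^^^ b = u ^^^ v) : p ^^^ u ^^^ b = v := by
  rw [Nat.xor_assoc, Nat.xor_comm u, ← Nat.xor_assoc, h, Nat.xor_comm u, Nat.xor_assoc, Nat.xor_self, Nat.xor_zero]

variable {G : Type u} {Γ : Type} [Group G] [Group Γ] {m : Γ → ℕ} {S : JB G}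

theorem rax_T {ε : G} {M l a b : ℕ} (hN : ε ∈ 𝒩(S.J)) (h2 : ε * ε = 1) (h : S.AcL ε M l) (ha : a < 256) (hb : b < 256)
    (e f : Bool) : ∃ e' f', S.s b * (ε * S.j a e f) * (S.s b)⁻¹ = ε * S.j (ap M b ^^^ a ^^^ b) e' f' := by
  obtain ⟨e1, h1⟩ := h.conj hN hb false false
  refine ⟨_, _, Eq.trans ?_ (congrArg (ε * ·) (((congrArg (· * S.j b (false ^^ qq b) false)
    (S.j_mul (ap_lt M b) ha e1 (false ^^ BB b l) e f))).trans (S.j_mul (xor_lt (ap_lt M b) ha) hb _ _ _ _)))⟩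
  rw [← h1, ← S.j_inv hb, S.j_s, inv_eq_of_mul_eq_one_right h2]
  simp only [← mul_assoc, h2, one_mul]

theorem rax_fix {ε : G} {M l a : ℕ} (hN : ε ∈ 𝒩(S.J)) (h2 : ε * ε = 1) (h : S.AcL ε M l) (ha : a < 256)
    {e f e' f' : Bool} (k : ε * S.j a e f * (ε * S.j a e f) = S.j 0 e' f') : ap M a = a := by
  obtain ⟨e1, h1⟩ := h.conj hN ha e f
  rw [inv_eq_of_mul_eq_one_right h2] at h1
  rw [← mul_assoc, h1, S.j_mul (ap_lt M a) ha] at k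
  exact Nat.xor_eq_zero_iff.1 (S.j_inj (xor_lt (ap_lt M a) ha) (by omega) k).1

variable [Finite G] (X : XF S m)

theorem rax_to {y ε : G} {δ : Γ} {k : ℕ} (hy : y ∈ X.Nn) (h2 : y ^ 2 ^ k = 1) (hε : ε ∈ X.T)
    (hδ : δ * X.r y * δ⁻¹ = X.r ε) (hs : sl (m δ) = false) :
    ∃ n ∈ X.Nn, Commute n S.d ∧ X.r n = δ ∧ ∃ a < 256, ∃ e f, n * y * n⁻¹ = ε * S.j a e f := by
  obtain ⟨n, hn, rfl⟩ := X.surj δ
  obtain ⟨o, ho, a, ha, e, f, h⟩ := X.toJ0.lift1 (p := n * y * n⁻¹) (k := k) (mul_mem (mul_mem hn hy) (inv_mem hn))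
    (by rw [conj_pow, h2]; simp) hε (by rw [X.toJ0.r_conj hn hy, hδ])
  have r1 : X.r (o * n) = X.r n := by rw [X.r_mul (X.ON ho) hn, X.toJ0.r_O ho, one_mul]
  have hon := mul_mem (X.ON ho) hn
  exact ⟨o * n, hon, (X.toJ0.comm_d hon).2 (r1 ▸ hs), r1, a, ha, e, f, by rw [← h]; group⟩

theorem rax_κN : X.κ ∈ 𝒩(S.J) := X.toJ0.NJ (X.toJ0.TN X.κT)

theorem rax_βN : X.β ∈ 𝒩(S.J) := X.toJ0.NJ (X.toJ0.TN X.βT)

theorem rax_red (y : G) (hy : y ∈ 𝒩(S.J)) (hd : Commute y S.d) (hJ : y ∉ S.J) (h2 : ∃ e f, y * y = S.j 0 e f) :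
    ∃ n ∈ 𝒩(S.J), Commute n S.d ∧
      ((∃ a < 256, ap t0 a = a ∧ ∃ e f, n * y * n⁻¹ = X.κ * S.j a e f) ∨ ∃ e f, n * y * n⁻¹ = X.β * S.j 0 e f) := by
  obtain ⟨e, f, h2⟩ := h2
  have md := X.md
  rw [← X.full] at hy
  have h4 : y ^ 2 ^ 2 = 1 := by
    rw [show y ^ 2 ^ 2 = y * y * (y * y) by simp [pow_succ, mul_assoc], h2, S.j_sq (by omega), rax_dec.2.2.2.2, S.j_one]
  have sq : ∀ n ∈ X.Nn, Commute n S.d → n * y * n⁻¹ * (n * y * n⁻¹) = S.j 0 e f := fun n hn k => by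
    rw [conj_mul, h2]
    exact mul_inv_eq_iff_eq_mul.2 (S.comm_j (X.toJ0.Nz hn) k (S.s_zero ▸ Commute.one_right n) e f)
  rcases md.types_in (γ := X.r y) (by rw [← X.r_mul hy hy, h2, X.toJ0.r_J (S.j_mem (by omega) _ _)])
    ((X.toJ0.comm_d hy).1 hd) with h | h | ⟨δ, h⟩
  · exact absurd (X.toJ0.mem_J hy h h4) hJ
  · obtain ⟨δ, h1, h3⟩ := tv_cj md h
    obtain ⟨n, hn, k1, -, a, ha, e1, f1, k⟩ := rax_to X hy h4 X.κT (md.inj (h3.trans X.rκ.symm)) (md.mem_LL.1 h1)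
    exact ⟨n, X.toJ0.NJ hn, k1, .inl ⟨a, ha, rax_fix (rax_κN X) X.κκ X.toCM.act_κ.1 ha (k ▸ sq n hn k1), e1, f1, k⟩⟩
  · have h1 := md.inj (h.trans X.rβ.symm)
    obtain ⟨δ, h1, hs⟩ : ∃ δ, δ * X.r y * δ⁻¹ = X.r X.β ∧ sl (m δ) = false := by
      rcases hs : sl (m δ) with _ | _
      · exact ⟨δ, h1, hs⟩
      · have tN := X.toJ0.TN X.toCM.tT
        refine ⟨X.r X.t * δ, ?_, by rw [md.sl_mul, hs, X.rt, cp_consts.2.2.2.1]; rfl⟩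
        calc _ = X.r X.t * (δ * X.r y * δ⁻¹) * (X.r X.t)⁻¹ := by group
          _ = _ := by rw [h1, ← X.toJ0.r_conj tN (X.toJ0.TN X.βT), X.tβ.eq, mul_inv_cancel_right]
    obtain ⟨n, hn, k1, -, a, ha, e1, f1, k⟩ := rax_to X hy h4 X.βT h1 hs
    obtain ⟨-, c, hc, k2⟩ := b0_fix a ha (rax_fix (rax_βN X) X.ββ X.toCM.act_β.1 ha (k ▸ sq n hn k1))
    obtain ⟨e2, f2, k3⟩ := rax_T (rax_βN X) X.ββ X.toCM.act_β.1 ha hc e1 f1
    rw [rax_xor (v := 0) (by rw [← k2, Nat.xor_zero]), ← k] at k3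
    exact ⟨S.s c * n, mul_mem (le_normalizer (S.s_mem hc)) (X.toJ0.NJ hn), (S.Jd (S.s_mem hc)).mul_left k1,
      .inr ⟨e2, f2, by rw [← k3]; group⟩⟩

theorem rax_red0 (a : ℕ) (ha : a ∈ FF 85) (e f : Bool) :
    ∃ b < 256, ∃ e' f', S.s b * (X.κ * S.j a e f) * (S.s b)⁻¹ = X.κ * S.j 0 e' f' := by
  obtain ⟨b, hb, k⟩ := rax_dec.1 a ha
  obtain ⟨e2, f2, k3⟩ := rax_T (rax_κN X) X.κκ X.toCM.act_κ.1 (FF_spec 85 (by omega) a ha).1 hb e f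
  rw [rax_xor (v := 0) (by rw [k, Nat.xor_zero])] at k3
  exact ⟨b, hb, e2, f2, k3⟩

theorem rax_redw (a : ℕ) (ha : a < 256) (h1 : ap t0 a = a) (h2 : qq a = false) (h3 : a ∉ FF 85) (e f : Bool) :
    ∃ n ∈ 𝒩(S.J), Commute n S.d ∧ ∃ e' f', n * (X.κ * S.j a e f) * n⁻¹ = X.κ * S.j 175 e' f' := by
  have md := X.md
  obtain ⟨g, -, g1, g2, g3, g4⟩ := rax_dec.2.1 a ha h1 h2 h3
  obtain ⟨δ, hδ⟩ := md.exists_tw g1
  have cm : δ * X.r X.κ = X.r X.κ * δ := md.inj (by rw [md.mul, md.mul, hδ, X.rκ, g3])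
  obtain ⟨n, hn, k1, rfl, c, hc, e1, f1, k⟩ := rax_to X (k := 1) (X.toJ0.TN X.κT) (by simpa [pow_two] using X.κκ) X.κT
    (mul_inv_eq_iff_eq_mul.2 cm) (hδ ▸ g2)
  have cF : c ∈ FF 85 := rax_dec.2.2.1 c hc fun a' ha' k2 => by
    have k3 : ap t0 (ap (m (X.r n)⁻¹) a') = ap (m (X.r n)⁻¹) a' := by
      rw [← X.rκ, ← md.ap_mul, ← (show Commute (X.r n) _ from cm).inv_left.eq, md.ap_mul, X.rκ, k2]
    obtain ⟨e', f', k4, -⟩ := X.toJ0.act hn (ap_lt (m (X.r n)⁻¹) a') false false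
    have k5 := (X.toCM.κj (ap_lt _ _) k3 false false).conj n
    rw [k, k4, md.ap_inv' _ ha'] at k5
    have k6 := (X.toCM.κj ha' k2 e' f').inv_left.mul_left k5
    rw [inv_mul_cancel_left] at k6
    exact (S.j_comm hc ha' _ _ _ _).1 k6
  obtain ⟨e2, f2, k4, -⟩ := X.toJ0.act hn ha e f
  obtain ⟨b, hb, k5⟩ := rax_dec.1 _ ((FF_spec 85 (by omega) c cF).2.2.2 _ g4)
  obtain ⟨e3, f3, k6⟩ := rax_T (rax_κN X) X.κκ X.toCM.act_κ.1 (xor_lt hc (ap_lt (tw g) a)) hb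
    (be c (ap (tw g) a) ^^ (e1 ^^ e2)) (f1 ^^ f2)
  rw [rax_xor (v := 175) (by rw [k5, Nat.xor_assoc]), ← S.j_mul hc (ap_lt _ _), ← mul_assoc X.κ, ← k, ← hδ, ← k4] at k6
  exact ⟨S.s b * n, mul_mem (le_normalizer (S.s_mem hb)) (X.toJ0.NJ hn), (S.Jd (S.s_mem hb)).mul_left k1, e3, f3,
    by rw [← k6]; group⟩

theorem rax_nf (y : G) (hy : y ∈ 𝒩(S.J)) (hd : Commute y S.d) (hJ : y ∉ S.J) (h2 : y * y = 1) :
    ∃ n ∈ 𝒩(S.J), Commute n S.d ∧ ∃ e f, n * y * n⁻¹ = X.κ * S.j 0 e f ∨ n * y * n⁻¹ = X.κ * S.j 175 e f ∨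
      n * y * n⁻¹ = X.β * S.j 0 e f := by
  obtain ⟨n, hn, k1, ⟨a, ha, h1, e, f, k⟩ | ⟨e, f, k⟩⟩ := rax_red X y hy hd hJ ⟨false, false, h2.trans S.j_one.symm⟩
  · by_cases h3 : a ∈ FF 85
    · obtain ⟨b, hb, e', f', k2⟩ := rax_red0 X a h3 e f
      exact ⟨S.s b * n, mul_mem (le_normalizer (S.s_mem hb)) hn, (S.Jd (S.s_mem hb)).mul_left k1, e', f',
        .inl (by rw [← k2, ← k]; group)⟩
    · have k3 : X.κ * S.j a e f * (X.κ * S.j a e f) = 1 := by rw [← k, conj_mul, h2]; simp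
      rw [(X.toCM.κj ha h1 e f).symm.mul_mul_mul_comm, X.κκ, one_mul] at k3
      obtain ⟨n', hn', k4, e', f', k2⟩ := rax_redw X a ha h1 ((S.sq_one ha e f).1 k3) h3 e f
      exact ⟨n' * n, mul_mem hn' hn, k4.mul_left k1, e', f', .inr (.inl (by rw [← k2, ← k]; group))⟩
  · exact ⟨n, hn, k1, e, f, .inr (.inr k)⟩

include X in
theorem rax_sing (a : ℕ) (ha : Iso a) (e f : Bool) :
    ∃ n ∈ 𝒩(S.J), Commute n S.d ∧ n * S.j a e f * n⁻¹ = S.j 85 false (f ^^ sg a) := by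
  obtain ⟨δ, h1, h2⟩ := X.md.exists_85 ha
  obtain ⟨n, hn, rfl⟩ := X.surj δ
  obtain ⟨e', f', k, k1⟩ := X.toJ0.act hn ha.1 e f
  have k2 := (X.toJ0.comm_d hn).2 (X.md.mem_LL.1 h1)
  rw [h2] at k k1
  rw [← k1 ha, cp_consts.2.2.2.2.2.2, Bool.xor_false]
  cases e'
  · exact ⟨n, X.toJ0.NJ hn, k2, k⟩
  · have k3 := S.j_conj (a := 85) (b := 2) (by omega) (by omega) true f' false false
    have m2 := S.j_mem (a := 2) (by omega) false false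
    rw [rax_dec.2.2.2.1, ← k] at k3
    exact ⟨_ * n, mul_mem (le_normalizer m2) (X.toJ0.NJ hn), (S.Jd m2).mul_left k2, Eq.trans (by group) k3⟩

theorem rax : RAX.{u} := fun _ _ _ _ _ _ _ X =>
  ⟨rax_red X, rax_red0 X, rax_redw X, rax_nf X, rax_sing X⟩

end CL.F6
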