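/-
Project F6: the classes of involutions of `N(J)`.
-/
import Cfsg.Agent.F6.JC

set_option autoImplicit false
set_option linter.unusedSectionVars false

namespace CL.F6

open Subgroup CL.Even CL.Grp CL.U6 CL.Fc CL.MT Cfsg

universe u

namespace RBXa

theorem dec : sg 170 = true ∧ sg 5 = false ∧ Iso 170 ∧ Iso 5 ∧ ap t0 34 = 34 ∧ BB 175 34 = true ∧ ap t0 245 = 245 ∧
    qq 245 = false ∧ 245 ∉ FF 85 ∧ (∀ v ∈ [125], Iso v) ∧ mm (tw [125]) (mm c0 t0) = mm SG (tw [125]) ∧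
    ∀ a < 256, ap (mm c0 t0) a ^^^ a = 0 → ∃ b < 256, ap (mm c0 t0) b ^^^ a ^^^ b = 0 := by decide +kernel

variable {G : Type u} {Γ : Type} [Group G] [Finite G] [Group Γ] {S : JB G} {m : Γ → ℕ} {X : XF S m} {a b c n y : G}

theorem refl : X.K a a := ⟨1, one_mem _, by simp⟩

theorem symm (h : X.K a b) : X.K b a := let ⟨g, h1, h2⟩ := h; ⟨g⁻¹, inv_mem h1, by rw [← h2]; group⟩

theorem trans (h : X.K a b) (h' : X.K b c) : X.K a c :=
  let ⟨g, h1, h2⟩ := h; let ⟨g', h3, h4⟩ := h'; ⟨g' * g, mul_mem h3 h1, by rw [← h4, ← h2]; group⟩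

theorem ofA (h : Cn 𝒩(X.A) a b) : X.K a b := let ⟨g, h1, h2⟩ := h; ⟨g, mem_sup_left h1, h2⟩

theorem ofJ (hn : n ∈ 𝒩(S.J)) (h : n * a * n⁻¹ = b) : X.K a b := ⟨n, mem_sup_right hn, h⟩

theorem toz (ha : a ∈ X.A) (h1 : a ≠ 1) : X.K a S.z := symm (ofA (X.trans a ha h1))

theorem tz (h : Commute X.t a) : X.K (a * S.j 0 true true) (a * S.j 0 false true) := by
  have ht := X.toJ0.TN X.tT
  refine symm (ofJ (X.toJ0.NJ ht) ?_)
  rw [← conj_mul, conj_eq_of_commute h, S.conj_j0 (c := true) (X.toJ0.Nz ht) X.act_t.2]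
  rfl

theorem lift (hy : y ∈ X.Nn) (h2 : y * y = 1) (ha : a ∈ X.T) {δ : Γ} (e : X.r a = δ * X.r y * δ⁻¹) :
    ∃ n ∈ 𝒩(S.J), ∃ v < 256, ∃ e f, n * y * n⁻¹ = a * S.j v e f := by
  obtain ⟨n, hn, rfl⟩ := X.surj δ
  obtain ⟨o, ho, v, hv, e, f, h⟩ := X.toJ0.lift1 (k := 1) (mul_mem (mul_mem hn hy) (inv_mem hn))
    (by rw [pow_one, sq, conj_mul, h2, mul_one, mul_inv_cancel]) ha (e.trans (X.toJ0.r_conj hn hy).symm)
  exact ⟨o * n, X.toJ0.NJ (mul_mem (X.ON ho) hn), v, hv, e, f, by rw [← h]; group⟩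

theorem out (hy : y ∈ 𝒩(S.J)) (h2 : y * y = 1) (hd : ¬ Commute y S.d) : X.K y S.z ∨ X.K y S.xh := by
  rw [← X.full] at hy
  have h3 : sl (m (X.r y)) = true := by simpa using mt (X.toJ0.comm_d hy).2 hd
  have sq : ∀ {n a : G}, n * y * n⁻¹ = a → a * a = 1 := fun e => by rw [← e, conj_mul, h2, mul_one, mul_inv_cancel]
  rcases X.md.types (γ := X.r y) (by rw [← X.r_mul hy hy, h2, X.toJ0.r_one]) with h | ⟨v, hv, h⟩ | h | ⟨δ, h⟩ | ⟨δ, h⟩
  · simp [h, X.md.sl_one] at h3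
  · simp [h, sl_tv v hv.1 hv.2.2] at h3
  · simp [h.sl X.md, cp_consts.2.2.2.2.2.1] at h3
  · obtain ⟨n, hn, v, hv, e, f, h4⟩ := lift hy h2 X.tT (X.md.inj (X.rt.trans h.symm))
    exact .inl (trans (ofJ hn h4) (toz (mul_mem X.tA (X.inv_t (S.j_mem hv e f) (sq h4))) fun h5 =>
      hd (conj_eq_one_iff.1 (h4.trans h5) ▸ Commute.one_left _)))
  have hT := mul_mem X.tT X.κT
  have hN := X.toJ0.TN hT
  have k1 : m (X.r (X.t * X.κ)) = mm c0 t0 := by
    rw [X.r_mul (X.toJ0.TN X.tT) (X.toJ0.TN X.κT), X.md.mul, X.rt, X.rκ]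
  have k2 : (X.t * X.κ)⁻¹ = X.t * X.κ := inv_eq_of_mul_eq_one_right (by
    rw [mul_assoc, ← mul_assoc X.κ, ← X.tκ.eq, mul_assoc, X.κκ, mul_one, X.tt])
  have k3 : X.t * X.κ * S.d * (X.t * X.κ)⁻¹ = S.d * zb S.z true := by
    rw [mul_assoc X.t, X.act_κ.2.2.eq, zb_true, ← X.act_t.2]; group
  obtain ⟨ε, hε⟩ := X.md.exists_tw dec.2.2.2.2.2.2.2.2.2.1
  have k4 : ε * X.r (X.t * X.κ) = δ * X.r y * δ⁻¹ * ε :=
    X.md.inj (by rw [X.md.mul, X.md.mul _ ε, hε, k1, h, dec.2.2.2.2.2.2.2.2.2.2.1])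
  obtain ⟨n, hn, v, hv, e, f, h4⟩ := lift hy h2 hT (δ := ε⁻¹ * δ) (by
    rw [← inv_mul_cancel_left ε (X.r _), k4]; group)
  have h0 := ofA X.f1
  generalize X.t * X.κ = τ at *
  have k5 : ∀ g, τ * g * (τ * g) = τ * g * τ⁻¹ * g := fun g => by rw [k2, mul_assoc (τ * g)]
  obtain ⟨e1, f1, h5, -⟩ := X.toJ0.act hN hv e f
  have h6 := sq h4
  rw [k5, h5, S.j_mul (ap_lt _ _) hv, ← S.j_one, k1] at h6
  obtain ⟨b, hb, h7⟩ := dec.2.2.2.2.2.2.2.2.2.2.2 v hv (S.j_inj (xor_lt (ap_lt _ _) hv) (by omega) h6).1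
  obtain ⟨e2, f2, h8, -⟩ := X.toJ0.act hN hb false false
  obtain ⟨e3, f3, h9⟩ : ∃ e' f', S.j b false false * n * y * (S.j b false false * n)⁻¹ = τ * S.j 0 e' f' := ⟨_, _, by
    calc _ = τ⁻¹ * (τ * S.j b false false * (n * y * n⁻¹) * (S.j b false false)⁻¹) := by group
      _ = _ := by
        rw [h4, ← mul_assoc _ τ, k2, show τ * S.j b false false * τ = τ * S.j b false false * τ⁻¹ by rw [k2], h8,
          S.j_inv hb, S.j_mul (ap_lt _ _) hv, S.j_mul (xor_lt (ap_lt _ _) hv) hb, k1, h7]⟩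
  have h10 := sq h9
  rw [k5, S.conj_j0 (X.toJ0.Nz hN) k3, S.j_mul_j0 (by omega), ← S.j_one] at h10
  have h11 := (S.j_inj (by omega) (by omega) h10).2.1
  refine .inr (trans (ofJ (mul_mem (le_normalizer (S.j_mem hb _ _)) hn) h9) (trans ?_ h0))
  cases f3
  · cases e3
    · rw [S.j_one, mul_one]; exact refl
    · refine symm (ofJ (le_normalizer (inv_mem S.dJ)) ?_)
      rw [S.j_z, (X.toJ0.Nz hN).eq, inv_inv, mul_assoc, mul_inv_eq_iff_eq_mul.1 k3, zb_true]; group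
  · cases e3 <;> simp at h11

variable (R : X.RA)
include R

theorem clJ {v : ℕ} (hv : Iso v) (e f : Bool) : X.K (S.j v e f) (cond (f ^^ sg v) S.xh S.z) := by
  obtain ⟨n, hn, -, h⟩ := R.sing v hv e f
  refine trans (ofJ hn h) ?_
  cases (f ^^ sg v)
  · exact toz (X.jA (by decide +kernel) _) fun h => by
      simpa using S.j_inj (by omega) (by omega) (h.trans S.j_one.symm)
  · rw [S.j_xh]; exact refl

theorem clκ (e f : Bool) : X.K (X.κ * S.j 0 e f) (cond f S.z (cond e S.xh S.d)) := by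
  have h : X.K (X.κ * S.j 0 false true) S.z := by
    have := clJ R dec.2.2.1 false true
    rw [dec.1] at this
    rw [S.j_d]
    exact trans (ofA X.f4) this
  cases e <;> cases f
  · rw [S.j_one, mul_one]; exact ofA X.f2
  · exact h
  · rw [S.j_z]; exact ofA X.f3
  · exact trans (tz X.tκ) h

theorem clw (e f : Bool) : X.K (X.κ * S.j 175 e f) S.xh := by
  have h : X.K (X.κ * S.j 175 false f) S.xh := by
    cases f
    · rw [S.j_s]; exact ofA X.f7
    · have := clJ R dec.2.2.2.1 false true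
      rw [dec.2.1] at this
      rw [show S.j 175 false true = S.s 175 * S.d by rw [← S.j_s, S.j_mul_d]; rfl, ← mul_assoc]
      exact trans (ofA X.f8) this
  cases e
  · exact h
  · refine trans (ofJ (le_normalizer (S.j_mem (a := 34) (by omega) false false)) ?_) h
    rw [← conj_mul, conj_eq_of_commute (X.κj (by omega) dec.2.2.2.2.1 _ _).symm, S.j_conj (by omega) (by omega),
      dec.2.2.2.2.2.1]
    rfl

theorem clβ (e f : Bool) : X.K (X.β * S.j 0 e f) (cond (e && !f) S.z S.xh) := by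
  have h : X.K (X.β * S.j 0 false true) S.xh := by
    obtain ⟨n, hn, -, e', f', h⟩ := R.redw 245 (by omega) dec.2.2.2.2.2.2.1 dec.2.2.2.2.2.2.2.1 dec.2.2.2.2.2.2.2.2.1
      false false
    rw [S.j_s] at h
    rw [S.j_d]
    exact trans (ofA X.f9) (trans (ofJ hn h) (clw R _ _))
  cases e <;> cases f
  · have := clJ R dec.2.2.1 false false
    rw [dec.1, S.j_s] at this
    rw [S.j_one, mul_one]; exact trans (ofA X.f5) this
  · exact h
  · have := clJ R dec.2.2.2.1 false false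
    rw [dec.2.1, S.j_s] at this
    rw [S.j_z]; exact trans (ofA X.f6) this
  · exact trans (tz X.tβ) h

omit R in
theorem cld (e : Bool) : X.K (S.j 0 e true) S.d := by
  cases e
  · rw [S.j_d]; exact refl
  · simpa only [one_mul, S.j_d] using tz (X := X) (Commute.one_right _)

theorem all (hy : y ∈ 𝒩(S.J)) (h2 : y * y = 1) (h1 : y ≠ 1) : X.K y S.z ∨ X.K y S.d ∨ X.K y S.xh := by
  by_cases hd : Commute y S.d
  swap
  · exact (out hy h2 hd).imp_right .inr
  by_cases hJ : y ∈ S.J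
  · obtain ⟨v, hv, e, f, rfl⟩ := S.ex_j hJ
    by_cases h0 : v = 0
    · subst h0
      cases f
      · cases e
        · exact (h1 S.j_one).elim
        · exact .inl (by rw [S.j_z]; exact refl)
      · exact .inr (.inl (cld e))
    · have := clJ R ⟨hv, h0, (S.sq_one hv e f).1 h2⟩ e f
      revert this
      cases (f ^^ sg v)
      exacts [.inl, fun h => .inr (.inr h)]
  · obtain ⟨n, hn, -, e, f, h | h | h⟩ := R.nf y hy hd hJ h2
    · have := trans (ofJ hn h) (clκ R e f)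
      cases e <;> cases f
      exacts [.inr (.inl this), .inl this, .inr (.inr this), .inl this]
    · exact .inr (.inr (trans (ofJ hn h) (clw R e f)))
    · have := trans (ofJ hn h) (clβ R e f)
      revert this
      cases (e && !f)
      exacts [fun h => .inr (.inr h), .inl]

end RBXa

open RBXa in
theorem rbx : RBX.{u} := fun _ _ _ _ _ _ _ _ R =>
  ⟨fun _ => out, fun _ => clJ R, cld, clκ R, clw R, clβ R, fun _ => all R⟩

end CL.F6
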