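/-
Project F6: `J` is strongly closed in `N(J)` with respect to `C(z)`.
-/
import Cfsg.Agent.F6.D3X

set_option autoImplicit false

namespace CL.F6

open Subgroup CL.Even CL.Grp CL.U6 CL.Fc CL.MT Cfsg

universe u

namespace Sx

open Dx

variable {G : Type u} {Γ : Type} [Group G] [Group Γ] {S : JB G} {m : Γ → ℕ} (X : XF S m)

theorem ni (hv : X.VV) (ha : X.RA) (hb : X.RB) (h3 : S.D3) : X.NI := by
  intro h hN hz y hy
  have v1 := conj_mem hN (dV X)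
  have c1 : IsConj (h * S.d * h⁻¹) S.d := (isConj_conj (IsConj.refl _) h).symm
  have hJ : h * S.d * h⁻¹ ∈ S.J := by
    by_contra hJ
    obtain ⟨n, hn, -, e⟩ := nfd X ha hb h3.zd h3.dx (VJ X v1) (Vd X v1) hJ c1
    have e1 : n * h * S.j 0 true true * (n * h)⁻¹ = X.κ * S.j 0 true false := by
      rw [S.j_zd, S.j_z, ← e, S.zd.eq, ← conj_mul, conj_eq_of_commute ((S.Nz hn).mul_left hz)]; group
    exact h3.dx ((kc1 X (hb.cld true)).symm.trans (kc X e1 (hb.clκ true false)))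
  obtain ⟨c, hc⟩ := c0 X hb h3.zd h3.dx hJ c1
  have hd : h * S.d * h⁻¹ = S.d * zb S.z c := by
    rw [hc, JB.j, S.s_zero, one_mul]; exact (zb_comm S.zd.symm c).eq.symm
  have v2 := conj_mem hN (IV X hy)
  refine S.mem_I_of ?_ v2.2
  by_contra hJ'
  obtain ⟨a, ha0, e, f, rfl⟩ := S.mem_I.1 hy
  have ha' := (l0_spec.2.1 a ha0).1
  have h0 : a ≠ 0 := by
    rintro rfl
    exact hJ' (S.conj_j0 hz hd e f ▸ S.j_mem (by omega) _ _)
  have hi : Iso a := ⟨ha', h0, (l0_spec.2.1 a ha0).2.1⟩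
  obtain ⟨n, hn, hnd, e1, f1, h2⟩ := ha.nf _ (VJ X v2) (Vd X v2) hJ' (hv.sq _ v2)
  have key : ∀ (ε : G) (b : ℕ), b < 256 → n * (h * S.j a e f * h⁻¹) * n⁻¹ = ε * S.j b e1 f1 → ∀ e3 f3,
      IsConj (ε * S.j b e3 f3) (cond ((f ^^ (f1 ^^ f3)) ^^ sg a) S.xh S.z) := fun ε b hb' h2 e3 f3 => by
    have k1 := S.conj_j0 hz hd ((e1 ^^ e3) ^^ ((f1 ^^ f3) && c)) (f1 ^^ f3)
    rw [show (((e1 ^^ e3) ^^ ((f1 ^^ f3) && c)) ^^ ((f1 ^^ f3) && c)) = (e1 ^^ e3) by simp] at k1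
    have k2 := cj0 (S.Nz hn) hnd (e1 ^^ e3) (f1 ^^ f3)
    have k3 : ε * S.j b e3 f3 = ε * S.j b e1 f1 * S.j 0 (e1 ^^ e3) (f1 ^^ f3) := by
      rw [mul_assoc, S.j_mul_j0 hb']; simp
    rw [k3, ← h2, ← k2, conj_mul, ← k1, conj_mul, S.j_mul_j0 ha']
    exact (isConj_conj (isConj_conj (kc1 X (hb.clJ a hi _ _)).symm h) n).symm
  rcases h2 with h2 | h2 | h2
  · have k1 := (kc1 X (hb.clκ false false)).symm.trans (key _ _ (by omega) h2 false false)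
    revert k1
    cases ((f ^^ (f1 ^^ false)) ^^ sg a) <;> intro k1
    exacts [h3.zd k1.symm, h3.dx k1]
  · have k1 := (kc1 X (hb.clw false _)).symm.trans (key _ _ (by omega) h2 false (f1 ^^ (f ^^ sg a)))
    rw [show ((f ^^ (f1 ^^ (f1 ^^ (f ^^ sg a)))) ^^ sg a) = false by simp] at k1
    exact h3.zx k1.symm
  · exact h3.zx (((kc1 X (hb.clβ true false)).symm.trans (key _ _ (by omega) h2 true false)).trans
      ((kc1 X (hb.clβ false false)).symm.trans (key _ _ (by omega) h2 false false)).symm)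

/-- the stabiliser of `{w, w z}` in `C(z)` -/
def St (S : JB G) (w : G) : Subgroup G where
  carrier := {c | Commute c S.z ∧ (c * w * c⁻¹ = w ∨ c * w * c⁻¹ = w * S.z)}
  one_mem' := ⟨Commute.one_left _, .inl (by simp)⟩
  mul_mem' := fun {c c'} h h' => ⟨h.1.mul_left h'.1, by
    have e : c * c' * w * (c * c')⁻¹ = c * (c' * w * c'⁻¹) * c⁻¹ := by group
    rcases h'.2 with h2 | h2 <;> rw [e, h2]
    · exact h.2
    · rw [← conj_mul, conj_eq_of_commute h.1]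
      rcases h.2 with h3 | h3 <;> rw [h3]
      exacts [.inr rfl, .inl (by rw [mul_assoc, S.zz, mul_one])]⟩
  inv_mem' := fun {c} h => ⟨h.1.inv_left, by
    rcases h.2 with h2 | h2
    · exact .inl (by conv_lhs => rw [← h2]
                     group)
    · refine .inr ?_
      have e : w = c * (w * S.z) * c⁻¹ := by
        rw [← conj_mul, conj_eq_of_commute h.1, h2, mul_assoc, S.zz, mul_one]
      conv_lhs => rw [e]
      group⟩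

omit X in
theorem J_St {x y : G} (hx : x ∈ S.J) (hy : y ∈ S.J) : x * y * x⁻¹ = y ∨ x * y * x⁻¹ = y * S.z := by
  obtain ⟨a, ha, e, f, rfl⟩ := S.ex_j hy
  obtain ⟨b, hb, e', f', rfl⟩ := S.ex_j hx
  rw [S.j_conj ha hb, S.j_mul_z]
  cases BB a b <;> simp

theorem tool [Finite G] (hs : X.SY) {y h : G} (hy : y ∈ S.J) (hz : Commute h S.z) {U : Subgroup G} (hU : IsPGroup 2 U)
    (hS : U ≤ St S (h * y * h⁻¹)) : ∃ k ∈ St S (h * y * h⁻¹), ∀ x ∈ U, h⁻¹ * k * x * (h⁻¹ * k)⁻¹ ∈ 𝒩(S.J) := by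
  have h1 : cj h S.J ≤ St S (h * y * h⁻¹) := by
    rintro _ ⟨x, hx, rfl⟩
    refine ⟨conj_eq_of_commute hz ▸ commute_conj (g := h) (S.Jz hx), ?_⟩
    have e : h * x * h⁻¹ * (h * y * h⁻¹) * (h * x * h⁻¹)⁻¹ = h * (x * y * x⁻¹) * h⁻¹ := by group
    change h * x * h⁻¹ * (h * y * h⁻¹) * (h * x * h⁻¹)⁻¹ = _ ∨ h * x * h⁻¹ * (h * y * h⁻¹) * (h * x * h⁻¹)⁻¹ = _
    rcases J_St hx hy with h2 | h2 <;> rw [e, h2]
    exacts [.inl rfl, .inr (by rw [← conj_mul, conj_eq_of_commute hz])]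
  obtain ⟨P, hP, h2⟩ := exists_isSylowIn_ge (isPGroup_cj S.isP h) h1
  obtain ⟨k, hk, h3⟩ := syl_conj_le hP hU hS
  refine ⟨k, hk, fun x hx => ?_⟩
  have := hs.nrm h hz P hP.isPGroup (fun p hp => (hP.le hp).1) h2 (h3 (conj_mem_cj k hx))
  rw [← cj_norm, mem_cj] at this
  simpa [mul_assoc] using this

variable [Finite G] (hs : X.SY) (hv : X.VV) (ha : X.RA) (hb : X.RB) (h3 : S.D3) (hi : X.NI)

include hv ha hi in
omit [Finite G] in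
theorem sc1 {y h : G} (hy : y ∈ S.J) (h2 : y * y = 1) (hz : Commute h S.z) (hN : h * y * h⁻¹ ∈ 𝒩(S.J))
    (hd : Commute (h * y * h⁻¹) S.d) : h * y * h⁻¹ ∈ S.J := by
  by_contra hJ
  obtain ⟨n, hn, -, e, f, h4⟩ := ha.nf _ hN hd hJ (by rw [conj_mul, h2]; simp)
  have v1 : n * (h * y * h⁻¹) * n⁻¹ ∈ X.V := by
    rcases h4 with h4 | h4 | h4 <;> rw [h4]
    exacts [mul_mem (κV X) (jV X (by decide) _ _), mul_mem (κV X) (jV X (by decide) _ _),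
      mul_mem (βV X) (jV X (by decide) _ _)]
  obtain ⟨n0, hn0, hu⟩ : ∃ n0 ∈ 𝒩(S.J), n0 * y * n0⁻¹ ∈ S.I := by
    obtain ⟨a, ha', e, f, rfl⟩ := S.ex_j hy
    by_cases h0 : a = 0
    · exact ⟨1, one_mem _, by simpa [h0] using S.j_I (a := 0) (by decide) e f⟩
    · obtain ⟨n0, hn0, -, h5⟩ := ha.sing a ⟨ha', h0, (S.sq_one ha' e f).1 h2⟩ e f
      exact ⟨n0, hn0, h5 ▸ S.j_I (by decide) _ _⟩
  have e1 : n * h * n0⁻¹ * (n0 * y * n0⁻¹) * (n * h * n0⁻¹)⁻¹ = n * (h * y * h⁻¹) * n⁻¹ := by group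
  obtain ⟨k, hk, h5, h6⟩ := hv.ctl _ (IV X hu) (n * h * n0⁻¹) (e1 ▸ v1)
  have := S.IJ (hi k hk (h6 (((S.Nz hn).mul_left hz).mul_left (S.Nz hn0).inv_left)) _ hu)
  rw [h5, e1] at this
  exact hJ ((mem_normalizer_iff.1 hn _).2 this)

include hs hv ha hb h3 hi

theorem sc2 {y h : G} (hy : y ∈ S.J) (hz : Commute h S.z) (hN : h * y * h⁻¹ ∈ 𝒩(S.J)) :
    Commute (h * y * h⁻¹) S.d := by
  have hd : S.d ∈ St S (h * y * h⁻¹) := by
    refine ⟨S.zd.symm, ?_⟩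
    obtain ⟨c, hc⟩ := S.Nd hN
    have hz' := S.Nz hN
    generalize h * y * h⁻¹ = w at hc hz'
    have di : S.d⁻¹ = S.d := inv_eq_of_mul_eq_one_right S.dd
    have : S.d * w * S.d⁻¹ = w * zb S.z c := by
      rw [di, mul_assoc, mul_inv_eq_iff_eq_mul.1 hc, ← mul_assoc, ← mul_assoc, S.dd, one_mul, (zb_comm hz' c).eq]
    rw [this]
    cases c
    exacts [.inl (mul_one _), .inr rfl]
  obtain ⟨k, hk, h4⟩ := tool X hs hy hz (S.isP.to_le (zpowers_le.2 S.dJ)) (zpowers_le.2 hd)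
  have h5 := h4 _ (mem_zpowers S.d)
  have c1 : IsConj (h⁻¹ * k * S.d * (h⁻¹ * k)⁻¹) S.d := (isConj_conj (IsConj.refl _) _).symm
  have h6 : Commute (h⁻¹ * k * S.d * (h⁻¹ * k)⁻¹) S.d := by
    by_contra h6
    rcases hb.out _ h5 (sq_d c1) h6 with h7 | h7
    exacts [h3.zd ((kc1 X h7).symm.trans c1), h3.dx (c1.symm.trans (kc1 X h7))]
  obtain ⟨e, h7⟩ := c0 X hb h3.zd h3.dx (sc1 X hv ha hi S.dJ S.dd (hz.inv_left.mul_left hk.1) h5 h6) c1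
  have h8 := commute_conj (g := k⁻¹ * h) (h7 ▸ S.J_j0 hy e true)
  have e1 : k⁻¹ * h * (h⁻¹ * k * S.d * (h⁻¹ * k)⁻¹) * (k⁻¹ * h)⁻¹ = S.d := by group
  have e2 : k⁻¹ * h * y * (k⁻¹ * h)⁻¹ = k⁻¹ * (h * y * h⁻¹) * k⁻¹⁻¹ := by group
  rw [e1, e2] at h8
  rcases (inv_mem hk).2 with h9 | h9 <;> rw [h9] at h8
  · exact h8
  · simpa using h8.mul_left S.zd.inv_left

theorem sc3 {y h : G} (hy : y ∈ S.J) (h2 : y * y = 1) (hz : Commute h S.z) (hN : h * y * h⁻¹ ∈ 𝒩(S.J)) :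
    h * y * h⁻¹ ∈ S.J := sc1 X hv ha hi hy h2 hz hN (sc2 X hs hv ha hb h3 hi hy hz hN)

theorem sc : S.SC := by
  intro y hy h hz hN
  rcases S.J_sq hy with h2 | h2
  · exact sc3 X hs hv ha hb h3 hi hy h2 hz hN
  by_contra hJ
  have sq : ∀ g, Commute g S.z → g * y * g⁻¹ * (g * y * g⁻¹) = S.j 0 true false := fun g hg => by
    rw [conj_mul, h2, conj_eq_of_commute hg, S.j_z]
  obtain ⟨n, hn, -, h4⟩ := ha.red _ hN (sc2 X hs hv ha hb h3 hi hy hz hN) hJ ⟨_, _, sq h hz⟩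
  have hz' := (S.Nz hn).mul_left hz
  have h5 := sq _ hz'
  rw [show n * (h * y * h⁻¹) * n⁻¹ = n * h * y * (n * h)⁻¹ by group] at h4
  generalize n * h = g at h4 h5 hz'
  rcases h4 with ⟨a, ha', h6, e, f, h4⟩ | ⟨e, f, h4⟩
  swap
  · rw [h4, sqβ X, S.j_z] at h5
    exact S.z1 h5.symm
  rw [h4, sqκ X ha' h6] at h5
  obtain ⟨b, hb0, b1, b2, b3⟩ := dec1.2.2.2.2.2.2.2.2.2 a ha' h6 (S.j_inj (by omega) (by omega) h5).2.1
  have hb' : b < 256 := by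
    simp only [List.mem_cons, List.not_mem_nil, or_false] at hb0
    omega
  have mC : ∀ {x : G}, x ∈ centralizer ({X.κ} : Set G) ↔ Commute x X.κ := mem_centralizer_singleton_iff
  obtain ⟨k, hk, h7⟩ := tool X hs hy hz' (U := S.J ⊓ centralizer ({X.κ} : Set G)) (S.isP.to_le inf_le_left)
    fun x hx => ⟨S.Jz hx.1, by
      rw [h4, ← conj_mul, conj_eq_of_commute (mC.1 hx.2)]
      rcases J_St hx.1 (S.j_mem ha' e f) with h8 | h8 <;> rw [h8]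
      exacts [.inl rfl, .inr (mul_assoc _ _ _).symm]⟩
  have hp := hz'.inv_left.mul_left hk.1
  have k1 : ∀ c < 256, ap t0 c = c → qq c = false → ∀ e f, g⁻¹ * k * S.j c e f * (g⁻¹ * k)⁻¹ ∈ S.J :=
    fun c hc c1 c2 e f => sc3 X hs hv ha hb h3 hi (S.j_mem hc e f) ((S.sq_one hc e f).2 c2) hp
      (h7 _ ⟨S.j_mem hc e f, mC.2 (X.toCM.κj hc c1 e f).symm⟩)
  have k2 : g⁻¹ * k * S.j a e f * (g⁻¹ * k)⁻¹ ∈ S.J := by
    have := mul_mem (k1 b hb' b1 b2 false false) (k1 _ (xor_lt ha' hb') (by rw [ap_xor, h6, b1]) b3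
      (be b (a ^^^ b) ^^ e) f)
    rwa [conj_mul, S.j_mul hb' (xor_lt ha' hb'), Nat.xor_comm a, ← Nat.xor_assoc, Nat.xor_self, Nat.zero_xor,
      Bool.false_xor, Bool.false_xor, ← Bool.xor_assoc, Bool.xor_self, Bool.false_xor] at this
  have k3 : g⁻¹ * k * (X.κ * S.j a e f) * (g⁻¹ * k)⁻¹ ∈ S.J := by
    have e1 : g⁻¹ * k * (X.κ * S.j a e f) * (g⁻¹ * k)⁻¹ = g⁻¹ * (k * (g * y * g⁻¹) * k⁻¹) * g := by rw [h4]; group
    rcases hk.2 with h8 | h8 <;> rw [e1, h8]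
    · simpa [mul_assoc] using hy
    · rw [← conj_eq_of_commute hz', conj_mul]
      simpa [mul_assoc] using mul_mem hy S.zJ
  have k4 : g⁻¹ * k * X.κ * (g⁻¹ * k)⁻¹ ∈ S.J := by
    have := mul_mem k3 (inv_mem k2)
    rwa [← conj_mul, mul_inv_cancel_right] at this
  have e2 : (g⁻¹ * k)⁻¹ * (g⁻¹ * k * X.κ * (g⁻¹ * k)⁻¹) * (g⁻¹ * k)⁻¹⁻¹ = X.κ := by group
  have k5 := sc3 X hs hv ha hb h3 hi k4 (by rw [conj_mul, X.κκ]; simp) hp.inv_left (e2.symm ▸ TJ X X.κT)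
  rw [e2] at k5
  exact dec1.2.2.2.2.2.2.2.2.1 (by rw [← X.rκ, X.toJ0.r_J k5, X.md.one])

end Sx

theorem nix : NIX.{u} := fun _ _ _ _ _ _ _ X hv ha hb h3 => Sx.ni X hv ha hb h3

theorem scx : SCX.{u} := fun _ _ _ _ _ _ _ X hs hv ha hb h3 hi => Sx.sc X hs hv ha hb h3 hi

end CL.F6
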