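/-
Project F6 (S3405), job SGX: the signalizer functor `a ↦ O(C(a))` on `A`.
-/
import Cfsg.Agent.F6.JC
import Cfsg.Agent.RuR.Sig

set_option autoImplicit false

namespace CL.F6

open Subgroup CL.Even CL.Grp CL.U6 CL.Fc CL.MT Cfsg CL.RuR.Sig

universe u

theorem sgx_dec : (∀ c < 256, (∀ a ∈ W0, BB c a = false) → c ∈ W0) ∧
    (∀ v < 256, Iso v → ∃ a ∈ W0, a ≠ 0 ∧ tvf v a = a) ∧ (∀ i : Fin 4, W0.getD i 0 ∈ W0) ∧
    ∀ i k : Fin 4, W0.getD i 0 = W0.getD k 0 → i = k := by decide +kernel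

variable {G : Type u} {Γ : Type} [Group G] [Group Γ] {m : Γ → ℕ}

theorem sgx_sq (md : Md m) {γ : Γ} (h : ∀ a ∈ W0, ap (m γ) a = a) : γ * γ = 1 := by
  refine md.inj (mat_ext (md.lt _) (md.lt _) fun v hv => ?_)
  have h1 := h _ (sgx_dec.1 _ (xor_lt (ap_lt (m γ) v) hv) fun a ha => by
    have ha' := (W0_spec.2 a ha).2.2.1
    rw [BB_xor (ap_lt _ _) hv ha']
    conv_lhs => enter [1]; rw [← h a ha, md.BBinv γ hv ha']
    exact Bool.xor_self _)
  rw [ap_xor, ← Nat.xor_comm v] at h1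
  rw [md.ap_mul, md.ap_one hv]
  exact Nat.xor_left_injective h1

theorem sgx_ncyc {B : Subgroup G} (h : ∀ b ∈ B, b * b = 1) {x y : G} (hx : x ∈ B) (hy : y ∈ B) (x1 : x ≠ 1)
    (y1 : y ≠ 1) (xy : x ≠ y) : ¬ IsCyclic B := fun ⟨⟨g, hg⟩⟩ => by
  have k : ∀ x ∈ B, x ≠ 1 → x = g := fun x hx x1 => by
    obtain ⟨i, e⟩ := hg ⟨x, hx⟩
    have e : g.1 ^ i = x := congrArg Subtype.val e
    have g2 : g.1 ^ (2 : ℤ) = 1 := by rw [zpow_two, h _ g.2]
    rcases Int.even_or_odd' i with ⟨k, rfl | rfl⟩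
    · rw [zpow_mul, g2, one_zpow] at e; exact absurd e.symm x1
    · rw [zpow_add_one, zpow_mul, g2, one_zpow, one_mul] at e; exact e.symm
  exact xy ((k x hx x1).trans (k y hy y1).symm)

variable [Finite G] {S : JB G}

theorem sgx_NH (S : JB G) : 𝒩(S.J) ≤ 𝒩(th S.z) := fun _ hn =>
  le_normalizer_pPrimeCoreOf 2 _ (mem_centralizer_singleton_iff.2 (S.Nz hn).eq)

theorem sgx_OJ (h : S.H1) : S.OJ ≤ th S.z := by
  have h1 : S.OJ ≤ centralizer {S.z} := fun x hx =>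
    mem_centralizer_singleton_iff.2 (pPrimeCoreOf_le 2 _ hx _ S.zJ).symm
  refine le_sup_left.trans (le_pPrimeCoreOf (sup_le h1 (pPrimeCoreOf_le 2 _)) (fun g hg => ?_)
    (Nat.coprime_two_right.2 (odd_sup (Nat.coprime_two_right.1 (pPrimeCoreOf_coprime 2 _)) (th_odd _)
      (h1.trans (le_normalizer_pPrimeCoreOf 2 _)))))
  obtain ⟨o, ho, hn⟩ := h g (mem_centralizer_singleton_iff.1 hg)
  exact (mul_mem_cancel_left (le_normalizer (mem_sup_right ho))).1 (le_norm_sup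
    ((norm_le_norm_cent _).trans (normalizer_le_normalizer_pPrimeCoreOf 2 _)) (sgx_NH S) hn)

theorem sgx_B (X : XF S m) (h : S.H1) {U : Subgroup G} (hU : U ≤ centralizer {S.z}) (ho : Odd (Nat.card U))
    (hn : X.A ≤ 𝒩(U)) : U ≤ th S.z := fun u hu => by
  have hJ : S.J ≤ 𝒩(th S.z) := le_normalizer.trans (sgx_NH S)
  obtain ⟨o, hoz, hN⟩ := h u (mem_centralizer_singleton_iff.1 (hU hu))
  have hN' : o * u ∈ X.Nn := X.full ▸ hN
  have h2 := sgx_sq X.md (γ := X.r (o * u)) fun a ha => by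
    have ha' := (W0_spec.2 a ha).2.2.1
    have xJ := S.j_mem ha' false false
    have xA := X.toCM.jA ha false
    refine X.toJ0.fix hN' ha' (e := false) (f := false) (e' := false) (f' := false) ?_
    generalize S.j a false false = x at xJ xA
    have c : u * x * u⁻¹ * x⁻¹ ∈ th S.z := odd_mem S.isP hJ ho
      (by simpa only [mul_assoc] using mul_mem hu (conj_mem (hn xA) (inv_mem hu))) (by
        have := mul_mem (mul_mem (mul_mem (mem_sup_right (inv_mem hoz)) (mem_sup_left (conj_mem hN xJ)))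
          (mem_sup_right hoz)) (mem_sup_left (T := th S.z) (inv_mem xJ))
        convert this using 1; group)
    obtain ⟨k, hk⟩ := IsPGroup.pw S.isP (mul_mem (conj_mem hN xJ) (inv_mem xJ))
    refine mul_inv_eq_one.1 (two_odd (th_odd S.z) ?_ hk)
    have := mul_mem (mul_mem hoz c) (conj_mem (hJ xJ) (inv_mem hoz))
    convert this using 1; group
  rw [← X.r_mul hN' hN', X.r_eq (mul_mem hN' hN'), X.hO] at h2
  refine mem_of_pow_mem_of_coprime (n := 2) ((Nat.coprime_two_right.2 ho).coprime_dvd_left (U.orderOf_dvd_natCard hu))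
    (odd_mem S.isP hJ ho (pow_mem hu 2) ?_)
  have := mul_mem (mem_sup_right (mul_mem (inv_mem hoz) (conj_mem (sgx_NH S hN) (inv_mem hoz))))
    (sup_le_sup_left (sgx_OJ h) _ h2)
  convert this using 1; rw [pow_two]; group

theorem sgx_th (X : XF S m) (h : S.H1) {a : G} (ha : a ∈ X.A) (h1 : a ≠ 1) {Y : Subgroup G}
    (hY : Y ≤ centralizer {a}) (ho : Odd (Nat.card Y)) (hn : X.A ≤ 𝒩(Y)) : Y ≤ th a := by
  obtain ⟨g, hg, e⟩ := X.trans a ha h1
  have e' : g⁻¹ * a * g⁻¹⁻¹ = S.z := by rw [← e]; group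
  rw [← cj_le_cj (g := g⁻¹), cj_th, e']
  exact sgx_B X h (by rw [← e']; exact (cj_mono _ hY).trans (cj_Cn _ _).le) (by rwa [card_cj])
    (by rw [← cj_norm, ← cj_eq (inv_mem hg)]; exact cj_mono _ hn)

theorem sgx : SGX.{u} := fun G Γ _ _ _ S m X h => by
  have Ac : ∀ a ∈ X.A, ∀ b ∈ X.A, a * b = b * a := fun a ha b hb => X.toCM.A_comm ha hb
  have AC : ∀ a ∈ X.A, X.A ≤ centralizer {a} := fun a ha b hb => mem_centralizer_singleton_iff.2 (Ac b hb a ha)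
  have An : ∀ a ∈ X.A, X.A ≤ 𝒩(th a) := fun a ha => (AC a ha).trans (le_normalizer_pPrimeCoreOf 2 _)
  have c8 : 2 ^ 3 ≤ Nat.card X.A := by
    have lt := fun i => (W0_spec.2 _ (sgx_dec.2.2.1 i)).2.2.1
    simpa using Nat.card_le_card_of_injective (fun p : Fin 4 × Bool =>
      (⟨S.j (W0.getD p.1 0) p.2 false, X.toCM.jA (sgx_dec.2.2.1 _) _⟩ : X.A)) fun p q e => by
        have := S.j_inj (lt _) (lt _) (congrArg Subtype.val e)
        exact Prod.ext (sgx_dec.2.2.2 _ _ this.1) this.2.1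
  obtain ⟨h1, h2⟩ := Cfsg.Agent.S0217.result (p := 2) X.A Ac (fun a ha => (pow_two a).trans (X.Asq a ha)) c8 th
    (fun a _ _ => pPrimeCoreOf_le 2 _) (fun a _ _ => (th_odd a).not_two_dvd_nat)
    (fun a ha _ b hb x hx => conj_mem (An a ha hb) hx) (fun a _ _ => CL.Odd.feit_thompson (th_odd a))
    fun a ha _ b hb b1 => sgx_th X h hb b1 inf_le_right ((th_odd a).of_dvd_nat (card_dvd_of_le inf_le_left))
      (le_norm_inf (An a ha) (le_norm_of_le (AC b hb)))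
  have h3 : X.A ≤ 𝒩(⨆ a : {a : G // a ∈ X.A ∧ a ≠ 1}, th (a : G)) := le_norm_iSup fun a => An a a.2.1
  generalize ⨆ a : {a : G // a ∈ X.A ∧ a ≠ 1}, th (a : G) = W at h1 h2 h3
  have ho : Odd (Nat.card W) := Nat.not_even_iff_odd.1 fun e => h1 (even_iff_two_dvd.1 e)
  have w85 : 85 ∈ W0 := by decide
  have key : ∀ n, ∀ a ∈ W0, a ≠ 0 → n * S.z * n⁻¹ ∈ X.A → n * S.j a false false * n⁻¹ ∈ X.A → n ∈ 𝒩(W) := by
    intro n a ha a0 hz hj
    have ha' := (W0_spec.2 a ha).2.2.1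
    haveI : IsMulCommutative (X.A ⊓ cj n X.A :) := ⟨⟨fun x y => Subtype.ext (Ac x x.2.1 y y.2.1)⟩⟩
    refine mem_norm_of_cj_le (le_of_forall_centralizer_le (A := X.A ⊓ cj n X.A)
      (sgx_ncyc (fun b hb => X.Asq b hb.1) ⟨hz, conj_mem_cj n X.toCM.zA⟩ ⟨hj, conj_mem_cj n (X.toCM.jA ha _)⟩
        (by simpa using S.z1) (fun e => ?_) fun e => ?_) (inf_le_right.trans (by rw [← cj_norm]; exact cj_mono n h3))
      ?_ fun b hb b1 x hx => ?_)
    · rw [conj_eq_one_iff, ← S.j_one] at e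
      exact a0 (S.j_inj ha' (by omega) e).1
    · rw [mul_left_inj, mul_right_inj, ← S.j_z] at e
      exact a0 (S.j_inj (by omega) ha' e).1.symm
    · obtain ⟨k, hk⟩ := IsPGroup.iff_card.1 (isPGroup_iff_forall.2 fun x (hx : x ∈ X.A ⊓ cj n X.A) =>
        ⟨1, by rw [pow_one, pow_two, X.Asq x hx.1]⟩ : IsPGroup 2 _)
      rw [hk, card_cj]
      exact Nat.Coprime.pow_left k (Nat.coprime_two_left.2 ho)
    · have e : n * (n⁻¹ * b * n) * n⁻¹ = b := by group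
      have := h2 _ (mem_cj.1 hb.2) fun e' => b1 (by rw [← e, e']; simp)
      refine ((h2 b hb.1 b1).ge.trans inf_le_left) ?_
      rw [← e, ← cj_th, ← this, cj_inf, cj_Cn, e]
      exact hx
  have kN : ∀ n ∈ X.Nn, ∀ a ∈ W0, a ≠ 0 → ap (m (X.r n)) a = a → n ∈ 𝒩(W) := fun n hn a ha a0 e => by
    have ha' := W0_spec.2 a ha
    obtain ⟨e', f', h4, h5⟩ := X.toJ0.act hn ha'.2.2.1 false false
    have h5 := h5 ⟨ha'.2.2.1, a0, ha'.2.1⟩
    rw [e] at h4 h5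
    obtain rfl : f' = false := by revert h5; cases f' <;> cases sg a <;> simp
    exact key n a ha a0 (by rw [(X.toJ0.Nz hn).eq, mul_inv_cancel_right]; exact X.toCM.zA) (h4 ▸ X.toCM.jA ha _)
  let K : Subgroup Γ :=
    { carrier := {γ | ∃ n ∈ X.Nn, n ∈ 𝒩(W) ∧ X.r n = γ}
      one_mem' := ⟨1, one_mem _, one_mem _, X.toJ0.r_one⟩
      mul_mem' := by
        rintro _ _ ⟨a, ha, ha', rfl⟩ ⟨b, hb, hb', rfl⟩
        exact ⟨_, mul_mem ha hb, mul_mem ha' hb', X.r_mul ha hb⟩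
      inv_mem' := by
        rintro _ ⟨a, ha, ha', rfl⟩
        exact ⟨_, inv_mem ha, inv_mem ha', X.toJ0.r_inv ha⟩ }
  have LK : LL m ≤ K := (closure_le _).2 fun γ ⟨v, hv, e⟩ => by
    obtain ⟨n, hn, rfl⟩ := X.surj γ
    obtain ⟨a, ha, a0, e'⟩ := sgx_dec.2.1 v hv.1 hv
    exact ⟨n, hn, kN n hn a ha a0 (by rw [e, ap_tv hv.1 (W0_spec.2 a ha).2.2.1, e']), rfl⟩
  have tK : X.r X.t ∈ K := ⟨_, X.toJ0.TN X.toCM.tT, h3 X.toCM.tA, rfl⟩
  have hK : ∀ γ, γ ∈ K := fun γ => by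
    cases hs : sl (m γ)
    · exact LK (X.md.gen γ hs)
    · exact (mul_mem_cancel_right (inv_mem tK)).1 (LK (X.md.gen _ (by
        rw [X.md.sl_mul, X.md.sl_inv, hs, X.rt, cp_consts.2.2.2.1]; rfl)))
  have hz : th S.z ≤ W := (h2 _ X.toCM.zA S.z1).ge.trans inf_le_left
  refine ⟨W, ho, hz, fun n hn => key n 85 w85 (by omega) (conj_mem hn X.toCM.zA) (conj_mem hn (X.toCM.jA w85 _)),
    fun g hg => ?_⟩
  obtain ⟨o, hoz, hN⟩ := h g (mem_centralizer_singleton_iff.1 hg)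
  rw [← X.full] at hN
  obtain ⟨n, hn, hn', e⟩ := hK (X.r (o * g))
  refine (mul_mem_cancel_left (le_normalizer (hz hoz))).1 ((mul_mem_cancel_left (inv_mem hn')).1
    (kN _ (mul_mem (inv_mem hn) hN) 85 w85 (by omega) ?_))
  rw [X.r_mul (inv_mem hn) hN, X.toJ0.r_inv hn, e, inv_mul_cancel, X.md.ap_one (by omega)]

end CL.F6
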