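/-
Project F6 (helper26), job SPM (helper92): matrix codes for `PSp₆(2)`.
-/
import Cfsg.Agent.F6.NB2
import Cfsg.Agent.Cls.SpSimple

set_option autoImplicit false

namespace CL.F6

open Subgroup CL.U6 Cfsg Matrix

universe v

namespace SPMx

abbrev I6 := Fin 3 ⊕ Fin 3

def idx : I6 → ℕ := Sum.elim (fun i => i.1) fun i => 5 - i.1

def bit (F : Type v) [Field F] (b : Bool) : F := if b then 1 else 0

def dec (F : Type v) [Field F] (x : ℕ) : I6 → F := fun k => bit F (x.testBit (idx k))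

variable {F : Type v} [Field F]

theorem bit_inj {a b : Bool} (h : bit F a = bit F b) : a = b := by
  cases a <;> cases b <;> simp_all [bit]

theorem bit_and (a b : Bool) : bit F (a && b) = bit F a * bit F b := by cases a <;> cases b <;> simp [bit]

theorem bit_xor [CharP F 2] (a b : Bool) : bit F (a ^^ b) = bit F a + bit F b := by
  cases a <;> cases b <;> simp [bit, CharTwo.add_self_eq_zero]

theorem dec_zero : dec F 0 = 0 := funext fun k => by simp [dec, bit]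

theorem dec_xor [CharP F 2] (x y : ℕ) : dec F (x ^^^ y) = dec F x + dec F y :=
  funext fun k => by simp [dec, bit_xor]

theorem bits_ext : ∀ x < 64, ∀ y < 64, (∀ k, Nat.testBit x (idx k) = Nat.testBit y (idx k)) → x = y := by decide +kernel

theorem dec_inj {x y : ℕ} (hx : x < 64) (hy : y < 64) (h : dec F x = dec F y) : x = y :=
  bits_ext x hx y hy fun k => bit_inj (congrFun h k)

theorem dec_surj [Fintype F] (hF : Fintype.card F = 2) (v : I6 → F) : ∃ x < 64, dec F x = v := by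
  classical
  have : Function.Bijective fun x : Fin 64 => dec F x.1 := (Fintype.bijective_iff_injective_and_card _).2
    ⟨fun x y h => Fin.ext (dec_inj x.2 y.2 h), by simp [hF]⟩
  obtain ⟨x, hx⟩ := this.2 v
  exact ⟨x, x.2, hx⟩

theorem idx_pow : (∀ i < 6, ∃ k, idx k = i) ∧ (∀ k, idx k < 6) ∧
    ∀ k l, Nat.testBit (2 ^ idx k) (idx l) = decide (l = k) := by decide +kernel

theorem dec_pow (k : I6) : dec F (2 ^ idx k) = Pi.single k 1 := funext fun l => by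
  simp [dec, idx_pow.2.2, bit, Pi.single_apply]

theorem ff_eq : ∀ x < 64, ∀ y < 64, ff x y = ((((Nat.testBit x 0 && Nat.testBit y 5) ^^ (Nat.testBit x 1 && Nat.testBit y 4)) ^^
    (Nat.testBit x 2 && Nat.testBit y 3)) ^^ (((Nat.testBit x 5 && Nat.testBit y 0) ^^ (Nat.testBit x 4 && Nat.testBit y 1)) ^^
    (Nat.testBit x 3 && Nat.testBit y 2))) := by decide +kernel

theorem form [CharP F 2] {x y : ℕ} (hx : x < 64) (hy : y < 64) :
    dec F x ⬝ᵥ (J (Fin 3) F *ᵥ dec F y) = bit F (ff x y) := by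
  rw [ff_eq x hx y hy]
  simp [bit_xor, bit_and, J, fromBlocks_mulVec, dotProduct, Fintype.sum_sum_type, Fin.sum_univ_three,
    CharTwo.neg_eq, dec, idx, add_assoc]

theorem form_mul (g : Matrix I6 I6 F) (u w : I6 → F) :
    (g *ᵥ u) ⬝ᵥ (J (Fin 3) F *ᵥ (g *ᵥ w)) = u ⬝ᵥ ((gᵀ * J (Fin 3) F * g) *ᵥ w) := by
  rw [← mulVec_mulVec, ← mulVec_mulVec, dotProduct_mulVec u gᵀ, vecMul_transpose]

theorem code_ext {c d : ℕ} (hc : c < 2 ^ 64) (hd : d < 2 ^ 64) (h1 : ap c 64 = ap d 64) (h2 : ap c 128 = ap d 128)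
    (h : ∀ x < 64, ap c x = ap d x) : c = d := by
  rw [mk8_ap hc, mk8_ap hd, h1, h2, h 1 (by omega), h 2 (by omega), h 4 (by omega), h 8 (by omega), h 16 (by omega),
    h 32 (by omega)]

/-- `c` is the code of the matrix `g` -/
def Cd (g : Matrix I6 I6 F) (c : ℕ) : Prop := c < 2 ^ 64 ∧ ap c 64 = 64 ∧ ap c 128 = 128 ∧
  ∀ x < 64, ap c x < 64 ∧ dec F (ap c x) = g *ᵥ dec F x

theorem Cd.of_pow [CharP F 2] {g : Matrix I6 I6 F} {c : ℕ} (h : c < 2 ^ 64) (h1 : ap c 64 = 64) (h2 : ap c 128 = 128)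
    (h3 : ∀ i < 6, ap c (2 ^ i) < 64 ∧ dec F (ap c (2 ^ i)) = g *ᵥ dec F (2 ^ i)) : Cd g c :=
  ⟨h, h1, h2, ind_bits (k := 6) (by simp [ap_zero, dec_zero]) fun a _ i hi ha => by
    rw [ap_xor, dec_xor, dec_xor, mulVec_add, ha.2, (h3 i hi).2]
    exact ⟨xor64 ha.1 (h3 i hi).1, rfl⟩⟩

theorem Cd.ex [Fintype F] [CharP F 2] (hF : Fintype.card F = 2) (g : Matrix I6 I6 F) : ∃ c, Cd g c := by
  choose e he he' using fun i : ℕ => dec_surj hF (g *ᵥ dec F i)
  have k : ∀ i, e i < 256 := fun i => (he i).trans (by omega)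
  obtain ⟨a1, a2, a3, a4, a5, a6, a7, a8⟩ := ap_mk8 (k 1) (k 2) (k 4) (k 8) (k 16) (k 32) (g := 64) (h := 128)
    (by omega) (by omega)
  refine ⟨_, Cd.of_pow (col_mk8 (k 1) (k 2) (k 4) (k 8) (k 16) (k 32) (g := 64) (h := 128)
    (by omega) (by omega)).2.2.2.2.2.2.2.2 a7 a8 fun i hi => ?_⟩
  interval_cases i <;> simp only [Nat.reducePow, a1, a2, a3, a4, a5, a6, he, he', and_self]

theorem Cd.uniq {g : Matrix I6 I6 F} {c d : ℕ} (h : Cd g c) (h' : Cd g d) : c = d :=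
  code_ext h.1 h'.1 (h.2.1.trans h'.2.1.symm) (h.2.2.1.trans h'.2.2.1.symm) fun x hx =>
    dec_inj (h.2.2.2 x hx).1 (h'.2.2.2 x hx).1 ((h.2.2.2 x hx).2.trans (h'.2.2.2 x hx).2.symm)

theorem Cd.mul {g g' : Matrix I6 I6 F} {c d : ℕ} (h : Cd g c) (h' : Cd g' d) : Cd (g * g') (mm c d) :=
  ⟨mm_lt _ _, by rw [ap_mm, h'.2.1, h.2.1], by rw [ap_mm, h'.2.2.1, h.2.2.1], fun x hx => by
    rw [ap_mm, (h.2.2.2 _ (h'.2.2.2 x hx).1).2, (h'.2.2.2 x hx).2, mulVec_mulVec]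
    exact ⟨(h.2.2.2 _ (h'.2.2.2 x hx).1).1, rfl⟩⟩

theorem Cd.inj {g g' : Matrix I6 I6 F} {c : ℕ} (h : Cd g c) (h' : Cd g' c) : g = g' :=
  ext_of_mulVec_single fun k => by
    have hk := pow_lt64 (idx_pow.2.1 k)
    rw [← dec_pow, ← (h.2.2.2 _ hk).2, (h'.2.2.2 _ hk).2]

theorem Cd.form [CharP F 2] {g : Matrix I6 I6 F} {c : ℕ} (h : Cd g c) {x y : ℕ} (hx : x < 64) (hy : y < 64) :
    bit F (ff (ap c x) (ap c y)) = dec F x ⬝ᵥ ((gᵀ * J (Fin 3) F * g) *ᵥ dec F y) := by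
  rw [← form_mul, ← (h.2.2.2 x hx).2, ← (h.2.2.2 y hy).2, SPMx.form (h.2.2.2 x hx).1 (h.2.2.2 y hy).1]

theorem Cd.sp [CharP F 2] {g : Matrix I6 I6 F} {c : ℕ} (h : Cd g c) (hg : g ∈ symplecticGroup (Fin 3) F) : SP c :=
  ⟨⟨h.1, h.2.2.1, h.2.1.ge, by rw [h.2.1]; omega, fun i hi => (h.2.2.2 _ (pow_lt64 hi)).1, fun i hi j hj =>
    bit_inj (F := F) (by rw [h.form (pow_lt64 hi) (pow_lt64 hj), SymplecticGroup.mem_iff'.1 hg,
      SPMx.form (pow_lt64 hi) (pow_lt64 hj)])⟩, h.2.1⟩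

theorem onto [CharP F 2] {c : ℕ} (h : SP c) : ∃ g ∈ symplecticGroup (Fin 3) F, Cd g c := by
  have hc : Cd (of fun k l => dec F (ap c (2 ^ idx l)) k) c := Cd.of_pow h.1.1 h.2 h.1.2.1 fun i hi => by
    obtain ⟨k, rfl⟩ := idx_pow.1 i hi
    refine ⟨h.1.2.2.2.2.1 _ hi, ?_⟩
    rw [dec_pow, mulVec_single_one]; rfl
  refine ⟨_, SymplecticGroup.mem_iff'.2 (Matrix.ext fun k l => ?_), hc⟩
  have hk := pow_lt64 (idx_pow.2.1 k)
  have hl := pow_lt64 (idx_pow.2.1 l)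
  have := hc.form hk hl
  rw [h.1.ff hk hl, ← SPMx.form hk hl, dec_pow, dec_pow, mulVec_single_one, mulVec_single_one, single_one_dotProduct,
    single_one_dotProduct] at this
  exact this.symm

end SPMx

open SPMx in
theorem spm : SPM.{v} := by
  intro F _ _ hF
  have : CharP F 2 := by
    obtain ⟨p, hp⟩ := CharP.exists F
    obtain ⟨n, hp', hn⟩ := FiniteField.card F p
    have : p = 2 := (Nat.prime_dvd_prime_iff_eq hp' Nat.prime_two).1 (by
      rw [← hF, hn]; exact dvd_pow_self _ n.ne_zero)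
    exact this ▸ hp
  choose cd hcd using fun g : Matrix I6 I6 F => Cd.ex hF g
  have hZ : center (symplecticGroup (Fin 3) F) = ⊥ := eq_bot_iff.2 fun g hg => by
    rcases (CL.Sp.mem_center_symplecticGroup_iff g).1 hg with h | h
    · exact Subtype.ext h
    · exact Subtype.ext (h.trans (Matrix.ext fun i j => CharTwo.neg_eq _))
  let e : PSp 3 F ≃* symplecticGroup (Fin 3) F :=
    (QuotientGroup.quotientMulEquivOfEq hZ).trans QuotientGroup.quotientBot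
  refine ⟨fun a => cd (e a).1, fun a b => ?_, fun a b h => ?_, fun a => (hcd _).sp (e a).2, fun c hc => ?_⟩
  · rw [map_mul]; exact (hcd _).uniq ((hcd _).mul (hcd _))
  · have h : cd (e a).1 = cd (e b).1 := h
    exact e.injective (Subtype.ext ((hcd _).inj (h ▸ hcd _)))
  · obtain ⟨g, hg, h⟩ := onto (F := F) hc
    exact ⟨e.symm ⟨g, hg⟩, by rw [e.apply_symm_apply]; exact (hcd _).uniq h⟩

end CL.F6
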