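/-
Project F6: if `T` is a Sylow 2-subgroup of `G` then `A` is strongly closed in its normaliser.
-/
import Cfsg.Agent.F6.NB2

set_option autoImplicit false

namespace CL.F6

open Subgroup CL.Even CL.Grp CL.U6 CL.Fc Cfsg

universe u

/-- column of a `9 × 9` table -/
def sy1c (L k : ℕ) : ℕ := Nat.land (Nat.shiftRight L k) 511

/-- application of a `9 × 9` table -/
def sy1li (L n : ℕ) : ℕ :=
  Nat.xor (Nat.xor (Nat.xor (Nat.xor (sel n 0 (sy1c L 0)) (sel n 1 (sy1c L 9))) (Nat.xor (sel n 2 (sy1c L 18)) (sel n 3 (sy1c L 27))))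
    (Nat.xor (Nat.xor (sel n 4 (sy1c L 36)) (sel n 5 (sy1c L 45))) (Nat.xor (sel n 6 (sy1c L 54)) (sel n 7 (sy1c L 63)))))
    (sel n 8 (sy1c L 72))

theorem sy1li_eq (L n : ℕ) : sy1li L n =
    (((sel n 0 (sy1c L 0) ^^^ sel n 1 (sy1c L 9)) ^^^ (sel n 2 (sy1c L 18) ^^^ sel n 3 (sy1c L 27))) ^^^
    ((sel n 4 (sy1c L 36) ^^^ sel n 5 (sy1c L 45)) ^^^ (sel n 6 (sy1c L 54) ^^^ sel n 7 (sy1c L 63)))) ^^^
    sel n 8 (sy1c L 72) := rfl

theorem sy1li_xor (L a b : ℕ) : sy1li L (a ^^^ b) = sy1li L a ^^^ sy1li L b := by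
  simp only [sy1li_eq, sel_xor]
  ac_rfl

theorem sy1li_zero (L : ℕ) : sy1li L 0 = 0 := by simp [sy1li_eq, sel_eq]

/-- representatives of `T / V₀`: code, table of the action on `V₀`, commutators modulo `W` -/
def sy1RL : List (ℕ × ℕ × ℕ) :=
  [(9241421688590303745, 1210107565283851686118401, 1), (9241430484683391489, 1512339024972583584138241, 33685761),
  (9241421722950173185, 1210697870664359600456705, 4415226380545), (9241430519043260929, 1512929332604891312161793, 578712552117108993),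
  (9241439280776348417, 1814570475096114075796993, 33620481), (9241448076869436161, 2116801934784845973816833, 16908801),
  (9241448111229240065, 2117392235380279283811841, 868082073905332995), (9241439315136283393, 1815160787513496408163841, 868082073905332995),
  (9243673488403988993, 1219561521762365319676929, 1), (9243682284497076737, 1521792981486281589785601, 33685761),
  (9243673522763858433, 1220151827213241978192897, 4415226380545), (9243682318856946177, 1522383289188958061986817, 578712552117108993),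
  (9243691080590033665, 1828746798057497354569217, 33620481), (9243699876683121409, 2130978257781413624677889, 16908801),
  (9243699911042925313, 2131568558412031306761729, 868082073905332995), (9243691114949968641, 1829337110580432803202561, 868082073905332995),
  (9245925288217674241, 1228997049229866215408641, 1), (9245934084310761985, 1535950875401467758642177, 33685761),
  (9245925322577543681, 1229596578193517217055745, 4415226380545), (9245934118670631425, 1536550406652102946063361, 578712552117108993),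
  (9245942880403718913, 1833459959042197324563969, 33620481), (9245951676496806657, 2140413785213798867797505, 16908801),
  (9245951710856610561, 2141013309392375265101313, 868082073905332995), (9245942914763653889, 1834059495077907116328449, 868082073905332995),
  (9248177088031359489, 1238451005708379848967169, 1), (9248185884124447233, 1545404831915165764289537, 33685761),
  (9248177122391228929, 1239032087576113420174337, 4415226380545), (9248185918484316673, 1545985915999514777093121, 578712552117108993),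
  (9248194680217404161, 1847636282003580603336193, 33620481), (9248203476310491905, 2145145375244627228231169, 16908801),
  (9248203510670295809, 2145726452292101823006209, 868082073905332995), (9248194714577339137, 1848217370908188592571905, 868082073905332995),
  (9250428887845044737, 1210144494800796258403329, 1), (9250437683938132481, 1521820687631189307294721, 33685761),
  (9250428922204914177, 1210753246925377882293249, 4415226380545), (9250437718298001921, 1522429442077939489047553, 578712552117108993),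
  (9250446480031089409, 1833496870544743387366913, 33620481), (9250455276124177153, 2145173063375136436258305, 16908801),
  (9250455310483981057, 2145781810538721595360769, 868082073905332995), (9250446514391024385, 1834105629952490033907201, 868082073905332995),
  (9252680687658729985, 1219598451279309891961857, 1), (9252689483751817729, 1512385177861565011198977, 33685761),
  (9252680722018599425, 1220207203474260260029441, 4415226380545), (9252689518111687169, 1512993932237946448774145, 578712552117108993),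
  (9252698279844774657, 1847673193506126666139137, 33620481), (9252707075937862401, 2140459920088381785376257, 16908801),
  (9252707110297666305, 2141068667638995037455873, 868082073905332995), (9252698314204709633, 1848281952526845219702273, 868082073905332995),
  (9254932487472415233, 1229033978746810787693569, 1), (9254941283565502977, 1545432538060073481798657, 33685761),
  (9254932521832284673, 1229651954454535498892289, 4415226380545), (9254941317925372417, 1546050515632569913705473, 578712552117108993),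
  (9254950079658459905, 1814607422627457157563905, 33620481), (9254958875751547649, 2131005981940719851668993, 16908801),
  (9254958910111351553, 2131623952687448098080257, 868082073905332995), (9254950114018394881, 1815225405160950054258177, 868082073905332995),
  (9257184287286100481, 1238487935225324421252097, 1), (9257193083379188225, 1535997028290449185702913, 33685761),
  (9257184321645969921, 1239087463837131702010881, 4415226380545), (9257193117739057665, 1536596559541084373124097, 578712552117108993),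
  (9257201879472145153, 1828783745588840436336129, 33620481), (9257210675565232897, 2116848105688225910359553, 16908801),
  (9257210709925036801, 2117447629655696075130369, 868082073905332995), (9257201913832080129, 1829383281483812739745281, 868082073905332995)]

/-- representatives of `A / W` -/
def sy1RA : List (ℕ × ℕ × ℕ) :=
  [(9243673488403988993, 1219561521762365319676929, 1),
  (9245925288217674241, 1228997049229866215408641, 1),
  (9248177088031359489, 1238451005708379848967169, 1),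
  (9250428887845044737, 1210144494800796258403329, 1),
  (9252680687658729985, 1219598451279309891961857, 1),
  (9254932487472415233, 1229033978746810787693569, 1),
  (9257184287286100481, 1238487935225324421252097, 1)]

/-- the table belongs to the code -/
def Sy1Ok (p : ℕ × ℕ × ℕ) : Prop :=
  TC p.1 ∧ ∀ i < 9, sy1li p.2.1 (2 ^ i) < 512 ∧ mm p.1 (vc (2 ^ i)) = mm (vc (sy1li p.2.1 (2 ^ i))) p.1

noncomputable instance (p : ℕ × ℕ × ℕ) : Decidable (Sy1Ok p) := inferInstanceAs (Decidable (_ ∧ _))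

/-- non-degenerate elements of `V₀` -/
def Sy1ND (n : ℕ) : Prop := ∀ p ∈ sy1RA, sy1li p.2.1 n ≠ n

noncomputable instance (n : ℕ) : Decidable (Sy1ND n) := inferInstanceAs (Decidable (∀ p ∈ sy1RA, _))

/-- the coordinates of a linear element of `V₀` -/
def sy1un (v : ℕ) : ℕ := 8 * (ap v 32 % 2 + ap v 16 / 2 % 2 * 2 + ap v 8 / 4 % 2 * 4 + ap v 32 / 2 % 2 * 8 +
  ap v 32 / 4 % 2 * 16 + ap v 16 / 4 % 2 * 32)

theorem sy1_ok : ∀ p ∈ sy1RL, Sy1Ok p := by decide +kernel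

theorem sy1_ok' : ∀ p ∈ sy1RA, Sy1Ok p ∧ ∃ x < 64, 8 ≤ x ∧ p.1 = tr x := by decide +kernel

theorem sy1_lt : ∀ l ∈ LT, ∃ r ∈ LV, ap r 2 = ap l 2 ∧ ap r 4 = ap l 4 ∧ sy1un (mm l (mm r (mm r r))) < 512 ∧
    l = mm (vc (sy1un (mm l (mm r (mm r r))))) r := by decide +kernel

theorem sy1_rep : ∀ y < 8, (∃ q ∈ sy1RL, q.1 = tr (8 * y)) ∧ ∀ r ∈ LV, ∃ p ∈ sy1RL, p.1 = mm (tr (8 * y)) r := by
  decide +kernel

theorem sy1_tr : ∀ x < 64, tr x = mm (vc (x % 8)) (tr (8 * (x / 8))) := by decide +kernel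

theorem sy1_64 : ∀ n < 512, ap (vc n) 64 ^^^ 64 < 8 := by decide +kernel

theorem sy1_a : ∀ p ∈ sy1RL, (∀ w < 8, sy1li p.2.1 w = w) → (∀ n < 512, sy1li p.2.1 n = n) ∨
    ((∀ n < 512, sy1li p.2.1 n ^^^ n < 8) ∧ ∀ w < 8, ∃ n < 512, sy1li p.2.1 n ^^^ n = w) := by decide +kernel

theorem sy1_msk : ∀ p ∈ sy1RL, ∀ n < 512, p.2.2.testBit ((sy1li p.2.1 n ^^^ n) / 8) = true := by decide +kernel

theorem sy1_c : ∀ p ∈ sy1RL, (∀ i < 9, sy1li p.2.1 (sy1li p.2.1 (2 ^ i)) = 2 ^ i) → ∀ q ∈ sy1RL,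
    (∀ i < 9, sy1li q.2.1 (sy1li q.2.1 (2 ^ i)) = 2 ^ i) →
    (∀ i < 9, q.2.2.testBit ((sy1li p.2.1 (2 ^ i) ^^^ 2 ^ i) / 8) = true) →
    (∀ w < 8, sy1li p.2.1 w = w) ∨ (∀ w < 8, sy1li q.2.1 w = w) ∨ ∀ w < 8, sy1li p.2.1 w = sy1li q.2.1 w := by
  decide +kernel

theorem sy1_d : ∀ l ∈ LT, ap l 8 ^^^ 8 < 8 ∧ ((∀ i < 6, ap l (ap l (2 ^ i)) = 2 ^ i) →
    ∃ x ∈ [16, 32, 48], ap l x ^^^ x < 8) := by decide +kernel

theorem sy1_nc : ∀ x < 64, 8 ≤ x → ∃ i < 9, mm (tr x) (vc (2 ^ i)) ≠ mm (vc (2 ^ i)) (tr x) := by decide +kernel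

theorem sy1_nd : ∀ n < 512, Sy1ND n → (∃ p ∈ sy1RA, sy1li p.2.1 n = 1 ^^^ n) ∧
    ∃ p ∈ sy1RL, ¬ (sy1li p.2.1 n ^^^ n < 8 ∨ Sy1ND (sy1li p.2.1 n ^^^ n)) := by decide +kernel

theorem sy1_tc : ∀ w < 64, w ≠ 0 → ∃ v < 64, ap (tc (v ^^^ w)) (ap (tc (1 ^^^ v)) 1) = w := by decide +kernel

theorem Sy1Ok.all {p : ℕ × ℕ × ℕ} (h : Sy1Ok p) :
    ∀ n < 512, sy1li p.2.1 n < 512 ∧ mm p.1 (vc n) = mm (vc (sy1li p.2.1 n)) p.1 :=
  ind_bits (k := 9) (by rw [sy1li_zero, vc_zero, mm_I8 h.1.1.1, I8_mm h.1.1.1]; exact ⟨by omega, rfl⟩)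
    fun a ha i hi e => by
      obtain ⟨h1, h2⟩ := h.2 i hi
      rw [sy1li_xor, ← (vc_TC a ha).2 i hi, ← mm_assoc, e.2, mm_assoc, h2, ← mm_assoc, vc_mul e.1 h1]
      exact ⟨xor512 e.1 h1, rfl⟩

theorem sy1_dec {c : ℕ} (hc : TC c) : ∃ n < 512, ∃ p ∈ sy1RL, c = mm (vc n) p.1 := by
  obtain ⟨l, hl, x, hx, rfl⟩ := hc.ex
  obtain ⟨r, hr, -, -, h1, h2⟩ := sy1_lt l hl
  obtain ⟨⟨q, hq, e1⟩, h3⟩ := sy1_rep (x / 8) (by omega)
  obtain ⟨p, hp, e2⟩ := h3 r hr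
  generalize sy1un _ = n at h1 h2
  obtain ⟨h4, h5⟩ := (sy1_ok q hq).all n h1
  refine ⟨_, xor512 (show x % 8 < 512 by omega) h4, p, hp, ?_⟩
  rw [h2, sy1_tr x hx, e2, ← e1, mm_assoc, ← mm_assoc q.1, h5, ← vc_mul (by omega) h4, mm_assoc, mm_assoc]

theorem sy1_cc {G : Type u} [Group G] (a b c : G) : a * (b * c * b⁻¹) * a⁻¹ = a * b * c * (a * b)⁻¹ := by group

namespace NM

variable {G : Type u} [Group G] (M : NM G) {y y' g a v : G} {U U' : Subgroup G} {L x : ℕ}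

theorem sy1_comm (h : v ∈ M.V0) (h' : a ∈ M.V0) : Commute v a := by
  rw [commute_iff_eq, ← inv_eq_of_mul_eq_one_right (M.V0_sq _ (mul_mem h h')), mul_inv_rev,
    inv_eq_of_mul_eq_one_right (M.V0_sq _ h), inv_eq_of_mul_eq_one_right (M.V0_sq _ h')]

theorem sy1_vc {n : ℕ} (h : n < 512) : M.el (vc n) ∈ M.V0 := M.mem_V0.2 ⟨n, h, rfl⟩

theorem sy1_memW : v ∈ M.A ⊓ M.V0 ↔ ∃ w < 8, v = M.el (vc w) := by
  refine ⟨fun ⟨h1, h2⟩ => ?_, ?_⟩
  · obtain ⟨x, hx, rfl⟩ := M.mem_A.1 h1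
    obtain ⟨n, hn, e⟩ := M.mem_V0.1 h2
    have h := sy1_64 n hn
    rw [← M.el_inj (tr_TC x hx) (vc_TC n hn).1 e, (ap_tr x hx).1, show Nat.xor 64 x ^^^ 64 = x from by
      show 64 ^^^ x ^^^ 64 = x
      rw [Nat.xor_comm 64, Nat.xor_xor_cancel_right]] at h
    exact ⟨x, h, by rw [vc_tr x h]⟩
  · rintro ⟨w, hw, rfl⟩
    exact ⟨by rw [vc_tr w hw]; exact M.tr_mem (by omega), M.sy1_vc (by omega)⟩

/-- `y` acts on `V₀` through the table `L` -/
def Sy1Act (y : G) (L : ℕ) : Prop :=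
  ∀ n < 512, sy1li L n < 512 ∧ y * M.el (vc n) * y⁻¹ = M.el (vc (sy1li L n))

theorem sy1_act {p : ℕ × ℕ × ℕ} (h : Sy1Ok p) : M.Sy1Act (M.el p.1) p.2.1 := fun n hn =>
  ⟨(h.all n hn).1, M.conj_T h.1 (vc_TC n hn).1 (vc_TC _ (h.all n hn).1).1 (h.all n hn).2⟩

theorem sy1_actT (hy : y ∈ M.T) : ∃ p ∈ sy1RL, M.Sy1Act y p.2.1 := by
  obtain ⟨c, hc, rfl⟩ := M.mem_T.1 hy
  obtain ⟨k, hk, p, hp, rfl⟩ := sy1_dec hc
  refine ⟨p, hp, fun n hn => ?_⟩
  obtain ⟨h1, h2⟩ := M.sy1_act (sy1_ok p hp) n hn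
  rw [← M.mul_el (vc_TC k hk).1 (sy1_ok p hp).1, ← sy1_cc, h2, (M.sy1_comm (M.sy1_vc hk) (M.sy1_vc h1)).eq,
    mul_inv_cancel_right]
  exact ⟨h1, rfl⟩

variable {M}

theorem Sy1Act.fix (h : M.Sy1Act y L) {n : ℕ} (hn : n < 512) : Commute y (M.el (vc n)) ↔ sy1li L n = n :=
  ⟨fun c => M.vc_inj (h n hn).1 hn (by rw [← (h n hn).2, c.eq, mul_inv_cancel_right]),
    fun e => mul_inv_eq_iff_eq_mul.1 (by rw [(h n hn).2, e])⟩

theorem Sy1Act.cm (h : M.Sy1Act y L) {n : ℕ} (hn : n < 512) :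
    y * M.el (vc n) * y⁻¹ * M.el (vc n) = M.el (vc (sy1li L n ^^^ n)) := by rw [(h n hn).2, M.vc_xor (h n hn).1 hn]

theorem Sy1Act.sq (h : M.Sy1Act y L) (h2 : y * y = 1) : ∀ i < 9, sy1li L (sy1li L (2 ^ i)) = 2 ^ i := fun i hi => by
  have hn : 2 ^ i < 512 := Nat.pow_lt_pow_right (a := 2) (n := 9) (by omega) hi
  refine M.vc_inj (h _ (h _ hn).1).1 hn ?_
  rw [← (h _ (h _ hn).1).2, ← (h _ hn).2, sy1_cc, h2, one_mul, inv_one, mul_one]

theorem Sy1Act.cW (h : M.Sy1Act y L) : y ∈ 𝒞(M.A ⊓ M.V0) ↔ ∀ w < 8, sy1li L w = w :=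
  ⟨fun c w hw => (h.fix (by omega)).1 (comm_of_mem c (M.sy1_memW.2 ⟨w, hw, rfl⟩)).symm, fun e =>
    mem_centralizer_iff.2 fun v hv => by
      obtain ⟨w, hw, rfl⟩ := M.sy1_memW.1 hv
      exact ((h.fix (by omega)).2 (e w hw)).symm⟩

variable (M) in
/-- `U` is the set of the commutators of `y` with `V₀` -/
def Sy1Cm (y : G) (U : Subgroup G) : Prop := ∀ u, u ∈ U ↔ ∃ v ∈ M.V0, y * v * y⁻¹ * v = u

theorem Sy1Cm.conj (h : M.Sy1Cm y U) (hg : g ∈ 𝒩(M.V0)) : M.Sy1Cm (g * y * g⁻¹) (cj g U) := fun u => by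
  rw [mem_cj, h]
  refine ⟨fun ⟨v, hv, e⟩ => ⟨_, conj_mem hg hv, ?_⟩, fun ⟨v, hv, e⟩ => ⟨_, conj_mem' hg hv, by rw [← e]; group⟩⟩
  rw [show u = g * (g⁻¹ * u * g) * g⁻¹ by group, ← e]; group

theorem Sy1Cm.uniq (h : M.Sy1Cm y U) (h' : M.Sy1Cm y U') : U = U' := Subgroup.ext fun u => (h u).trans (h' u).symm

variable [Finite G]

variable (M) in
theorem sy1_TV : M.T ≤ 𝒩(M.V0) := fun y hy => mem_norm_of_cj_le (by
  rintro _ ⟨v, hv, rfl⟩
  obtain ⟨n, hn, rfl⟩ := M.mem_V0.1 hv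
  obtain ⟨p, -, h⟩ := M.sy1_actT hy
  exact M.mem_V0.2 ⟨_, (h n hn).1, (h n hn).2⟩)

theorem Sy1Cm.mul (h : M.Sy1Cm y U) (hy : y ∈ M.T) (ha : a ∈ M.V0) : M.Sy1Cm (a * y) U := fun u =>
  (h u).trans (exists_congr fun v => and_congr_right fun hv => by
    rw [← sy1_cc, (M.sy1_comm ha (conj_mem (M.sy1_TV hy) hv)).eq, mul_inv_cancel_right])

theorem sy1_cmA (hy : y ∈ M.T) (c : y ∈ 𝒞(M.A ⊓ M.V0)) : (∀ v ∈ M.V0, Commute y v) ∨ M.Sy1Cm y (M.A ⊓ M.V0) := by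
  obtain ⟨p, hp, h⟩ := M.sy1_actT hy
  refine (sy1_a p hp (h.cW.1 c)).imp (fun e v hv => ?_) fun e u => M.sy1_memW.trans ⟨?_, ?_⟩
  · obtain ⟨n, hn, rfl⟩ := M.mem_V0.1 hv
    exact (h.fix hn).2 (e n hn)
  · rintro ⟨w, hw, rfl⟩
    obtain ⟨n, hn, rfl⟩ := e.2 w hw
    exact ⟨_, M.sy1_vc hn, h.cm hn⟩
  · rintro ⟨v, hv, rfl⟩
    obtain ⟨n, hn, rfl⟩ := M.mem_V0.1 hv
    exact ⟨_, e.1 n hn, h.cm hn⟩

theorem sy1_cmtr (hx : x < 64) (h8 : 8 ≤ x) : M.Sy1Cm (M.el (tr x)) (M.A ⊓ M.V0) := by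
  refine (sy1_cmA (M.AT (M.tr_mem hx)) (mem_centralizer_iff.2 fun v hv => ?_)).resolve_left fun h => ?_
  · obtain ⟨x', hx', rfl⟩ := M.mem_A.1 hv.1
    rw [M.tr_xor hx hx', M.tr_xor hx' hx, Nat.xor_comm]
  · obtain ⟨i, hi, e⟩ := sy1_nc x hx h8
    have hn : 2 ^ i < 512 := Nat.pow_lt_pow_right (a := 2) (n := 9) (by omega) hi
    exact e ((M.comm_el (tr_TC x hx) (vc_TC _ hn).1).1 (h _ (M.sy1_vc hn)))

theorem sy1_cmC (hy : y ∈ M.T) (hy' : y' ∈ M.T) (h2 : y * y = 1) (h2' : y' * y' = 1) (h : M.Sy1Cm y U)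
    (h' : M.Sy1Cm y' U) : y ∈ 𝒞(M.A ⊓ M.V0) ∨ y' ∈ 𝒞(M.A ⊓ M.V0) ∨ y * y' ∈ 𝒞(M.A ⊓ M.V0) := by
  obtain ⟨p, hp, k⟩ := M.sy1_actT hy
  obtain ⟨q, hq, k'⟩ := M.sy1_actT hy'
  refine (sy1_c p hp (k.sq h2) q hq (k'.sq h2') fun i hi => ?_).imp k.cW.2 (Or.imp k'.cW.2 fun e =>
    mem_centralizer_iff.2 fun v hv => ?_)
  · have hn : 2 ^ i < 512 := Nat.pow_lt_pow_right (a := 2) (n := 9) (by omega) hi
    obtain ⟨v, hv, e⟩ := (h' _).1 ((h _).2 ⟨_, M.sy1_vc hn, k.cm hn⟩)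
    obtain ⟨n, hn', rfl⟩ := M.mem_V0.1 hv
    rw [k'.cm hn'] at e
    rw [← M.vc_inj (xor512 (k' n hn').1 hn') (xor512 (k _ hn).1 hn) e]
    exact sy1_msk q hq n hn'
  · obtain ⟨w, hw, rfl⟩ := M.sy1_memW.1 hv
    refine (mul_inv_eq_iff_eq_mul.1 ?_).symm
    rw [← sy1_cc, (k' w (by omega)).2, ← e w hw, ← (k w (by omega)).2, sy1_cc, h2, one_mul, inv_one, mul_one]

variable (hT : IsSylowIn 2 M.T ⊤)
include hT

/-- (SC) -/
theorem sy1_sc (hx : x < 64) (h8 : 8 ≤ x) (hg : g ∈ 𝒩(M.V0)) (hy : g * M.el (tr x) * g⁻¹ ∈ M.T) :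
    g ∈ 𝒩(M.A ⊓ M.V0) := by
  have TW : M.T ≤ 𝒩(M.A ⊓ M.V0) := le_norm_inf M.syl.le M.sy1_TV
  have h1 := (sy1_cmtr hx h8).conj hg
  have h2 : g * M.el (tr x) * g⁻¹ * (g * M.el (tr x) * g⁻¹) = 1 := by
    rw [conj_mul, M.A_sq _ (M.tr_mem hx), mul_one, mul_inv_cancel]
  generalize g * M.el (tr x) * g⁻¹ = y at hy h1 h2
  have key : ∀ x < 64, ap (M.ν y) x ^^^ x < 8 → M.el (tr x) ∈ 𝒩(M.V0) ⊓ 𝒩(cj g (M.A ⊓ M.V0)) := fun x hx h => by
    have n1 := M.sy1_TV (M.AT (M.tr_mem hx))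
    refine ⟨n1, cj_eq_iff_mem.1 ((h1.conj n1).uniq ?_)⟩
    have e : M.el (tr x) * y * (M.el (tr x))⁻¹ = M.el (vc (ap (M.ν y) x ^^^ x)) * y := by
      rw [vc_tr _ h, Nat.xor_comm, ← M.tr_xor hx ((M.ν_AS (M.TN hy)).lt hx), ← M.act (M.TN hy) x hx,
        inv_eq_of_mul_eq_one_right (M.A_sq _ (M.tr_mem hx))]
      group
    rw [e]
    exact h1.mul hy (M.sy1_vc (by omega))
  obtain ⟨l, hl, x0, hx0, e⟩ := (M.ν_TC hy).1.ex
  have e1 : ∀ a < 64, ap (M.ν y) a = ap l a := fun a ha => by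
    rw [e, ap_mm, (ap_tr x0 hx0).2.2 _ ((LT_TC l hl).1.1.lt ha)]
  obtain ⟨d1, d2⟩ := sy1_d l hl
  obtain ⟨x2, m2, d2⟩ := d2 fun i hi => by
    rw [← e1 _ (pow_lt64 hi), ← e1 _ ((M.ν_AS (M.TN hy)).lt (pow_lt64 hi)), ← ap_mm, ← M.ν_mul (M.TN hy) (M.TN hy), h2,
      M.ν_one, ap_I8 _ ((pow_lt64 hi).trans (by omega))]
  have b : x2 < 64 ∧ 8 ≤ x2 ∧ 8 ≤ 8 ^^^ x2 := (by decide : ∀ x ∈ [16, 32, 48], x < 64 ∧ 8 ≤ x ∧ 8 ≤ 8 ^^^ x) x2 m2
  obtain ⟨c, hc, h3⟩ := syl_conj_le (U := M.A ⊓ (𝒩(M.V0) ⊓ 𝒩(cj g (M.A ⊓ M.V0))))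
    ((syl_cj_of_mem_norm hT (g := g) (le_normalizer (mem_top g))).of_le (K := 𝒩(M.V0) ⊓ 𝒩(cj g (M.A ⊓ M.V0)))
      (le_inf (cj_le_of_mem M.sy1_TV hg) (cj_norm g _ ▸ cj_mono g TW)) le_top)
    (hT.isPGroup.to_le (inf_le_left.trans M.AT)) inf_le_right
  rw [le_cj_iff, ← Even.cj_mul] at h3
  have nk := mul_mem (inv_mem hg) hc.1
  have e2 : cj (g⁻¹ * c) (M.A ⊓ M.V0) = M.A ⊓ M.V0 := by
    have k1 := key 8 (by omega) (e1 8 (by omega) ▸ d1)
    have k2 := key x2 b.1 (e1 x2 b.1 ▸ d2)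
    have fin : ∀ x < 64, 8 ≤ x → M.el (tr x) ∈ 𝒩(M.V0) ⊓ 𝒩(cj g (M.A ⊓ M.V0)) →
        g⁻¹ * c * M.el (tr x) * (g⁻¹ * c)⁻¹ ∈ 𝒞(M.A ⊓ M.V0) → cj (g⁻¹ * c) (M.A ⊓ M.V0) = M.A ⊓ M.V0 := fun x hx h8 k h => by
      have m := (sy1_cmtr hx h8).conj nk
      refine m.uniq ((sy1_cmA (h3 (conj_mem_cj _ ⟨M.tr_mem hx, k⟩)) h).resolve_left fun h' => ?_)
      have : M.el (vc 1) = 1 := by
        obtain ⟨v, hv, e⟩ := (m _).1 (conj_mem_cj _ (M.sy1_memW.2 ⟨1, by omega, rfl⟩))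
        rw [(h' v hv).eq, mul_inv_cancel_right, M.V0_sq v hv] at e
        exact conj_eq_one_iff.1 e.symm
      exact absurd (M.vc_inj (by omega) (by omega) (this.trans (by rw [vc_zero, M.el_I8] : _ = M.el (vc 0)))) (by omega)
    have sq : ∀ x < 64, g⁻¹ * c * M.el (tr x) * (g⁻¹ * c)⁻¹ * (g⁻¹ * c * M.el (tr x) * (g⁻¹ * c)⁻¹) = 1 := fun x hx => by
      rw [conj_mul, M.A_sq _ (M.tr_mem hx), mul_one, mul_inv_cancel]
    rcases sy1_cmC (h3 (conj_mem_cj _ ⟨M.tr_mem (by omega), k1⟩)) (h3 (conj_mem_cj _ ⟨M.tr_mem b.1, k2⟩)) (sq 8 (by omega))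
      (sq x2 b.1) ((sy1_cmtr (by omega) le_rfl).conj nk) ((sy1_cmtr b.1 b.2.1).conj nk) with h | h | h
    · exact fin 8 (by omega) le_rfl k1 h
    · exact fin x2 b.1 b.2.1 k2 h
    · have k3 := mul_mem k1 k2
      rw [conj_mul] at h
      rw [M.tr_xor (by omega) b.1] at h k3
      exact fin _ (xor64 (by omega) b.1) b.2.2 k3 h
  rw [Even.cj_mul, ← cj_inj (g := g), cj_cj_inv] at e2
  exact cj_eq_iff_mem.1 (cj_inj.1 ((cj_eq hc.2).trans e2.symm))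

variable (u2 : U2.{u})
include u2

/-- (0) -/
theorem sy1_fus (hv : v ∈ M.V0) (h : g * v * g⁻¹ ∈ M.V0) : ∃ n ∈ 𝒩(M.V0), n * v * n⁻¹ = g * v * g⁻¹ := by
  have wc : ∀ k, cj k M.V0 ≤ M.T → cj k M.V0 = M.V0 := fun k hk => eq_of_le_of_card_ge (u2 G M _ hk (by
    rintro _ ⟨a, ha, rfl⟩
    rw [← map_mul, M.V0_sq a ha, map_one]) (by rw [card_cj, M.card_V0])) (card_cj k _).ge
  have pV := hT.isPGroup.to_le M.V0_le
  obtain ⟨S, hS, h1⟩ := exists_isSylowIn_ge (H := centralizer {g * v * g⁻¹}) pV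
    fun a ha => mem_centralizer_singleton_iff.2 (M.sy1_comm ha h).eq
  obtain ⟨c, hc, h2⟩ := syl_conj_le hS (isPGroup_cj pV g) (by
    rintro _ ⟨a, ha, rfl⟩
    exact mem_centralizer_singleton_iff.2 ((M.sy1_comm ha hv).conj g).eq)
  obtain ⟨k, -, h3⟩ := syl_conj_le hT hS.isPGroup le_top
  have e1 := wc k ((cj_mono k h1).trans h3)
  have e2 := wc (k * (c * g)) (by rw [Even.cj_mul, Even.cj_mul]; exact (cj_mono k h2).trans h3)
  rw [Even.cj_mul, ← e1, cj_inj, e1] at e2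
  refine ⟨c * g, cj_eq_iff_mem.1 e2, ?_⟩
  rw [← sy1_cc, mem_centralizer_singleton_iff.1 hc, mul_inv_cancel_right]

/-- (1) -/
theorem sy1_one (hx : x < 64) (h8 : 8 ≤ x) (hv : v ∈ M.V0) (h : IsConj (M.el (vc 1)) v) (c : Commute (M.el (tr x)) v) :
    v ∈ M.A ⊓ M.V0 := by
  obtain ⟨g, rfl⟩ := isConj_iff.1 h
  obtain ⟨k, hk, e⟩ := sy1_fus hT u2 (M.sy1_vc (by omega)) hv
  rw [← e] at c ⊢
  obtain ⟨d, hd, h1⟩ := syl_conj_le (U := zpowers (M.el (tr x)))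
    ((syl_cj_of_mem_norm hT (g := k) (le_normalizer (mem_top k))).of_le
      (K := 𝒩(M.V0) ⊓ centralizer {k * M.el (vc 1) * k⁻¹}) (le_inf (cj_le_of_mem M.sy1_TV hk) (by
        rintro _ ⟨y, hy, rfl⟩
        refine mem_centralizer_singleton_iff.2 (Commute.conj (mul_inv_eq_iff_eq_mul.1 ?_) k).eq
        rw [vc_tr 1 (by omega), M.act (M.TN hy) 1 (by omega),
          show ap (M.ν y) 1 = 1 from Nat.xor_eq_zero_iff.1 (Nat.lt_one_iff.1 ((M.ν_TC hy).1.2 0 (by omega)))])) le_top)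
    (hT.isPGroup.to_le (zpowers_le.2 (M.AT (M.tr_mem hx))))
    (zpowers_le.2 ⟨M.sy1_TV (M.AT (M.tr_mem hx)), mem_centralizer_singleton_iff.2 c.eq⟩)
  rw [le_cj_iff, ← Even.cj_mul] at h1
  have := conj_mem' (sy1_sc hT hx h8 (mul_mem (inv_mem hk) hd.1) (h1 (conj_mem_cj _ (mem_zpowers _))))
    (M.sy1_memW.2 ⟨1, by omega, rfl⟩)
  rwa [show (k⁻¹ * d)⁻¹ * M.el (vc 1) * (k⁻¹ * d) = d⁻¹ * (k * M.el (vc 1) * k⁻¹ * d) by group,
    ← mem_centralizer_singleton_iff.1 hd.2, inv_mul_cancel_left] at this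

omit hT u2 [Finite G] in
theorem sy1_trans (ha : a ∈ M.A) : a = 1 ∨ IsConj (M.el (vc 1)) a := by
  obtain ⟨w, hw, rfl⟩ := M.mem_A.1 ha
  by_cases h : w = 0
  · exact .inl (by rw [h, tr_zero, M.el_I8])
  obtain ⟨v, hv, e⟩ := sy1_tc w hw h
  have a1 := (tc_SP _ (xor64 (show 1 < 64 by omega) hv)).1.1
  obtain ⟨n, hn, e1⟩ := M.ν_surj a1
  obtain ⟨n', hn', e2⟩ := M.ν_surj (tc_SP _ (xor64 hv hw)).1.1
  refine .inr (isConj_iff.2 ⟨n' * n, ?_⟩)
  rw [← sy1_cc, vc_tr 1 (by omega), M.act hn 1 (by omega), e1, M.act hn' _ (a1.lt (by omega)), e2, e]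

/-- (2) -/
theorem sy1_two (hv : v ∈ M.V0) (h : IsConj (M.el (vc 1)) v) : v ∈ M.A ⊓ M.V0 := by
  have nd : ∀ n < 512, (M.el (vc n) = 1 ∨ IsConj (M.el (vc 1)) (M.el (vc n))) → n < 8 ∨ Sy1ND n := fun n hn h => by
    refine or_iff_not_imp_left.2 fun h8 p hp e => h8 ?_
    obtain ⟨k, x, hx, x8, e'⟩ := sy1_ok' p hp
    obtain ⟨w, hw, e2⟩ := M.sy1_memW.1 (h.elim (fun h => h ▸ one_mem _) fun h =>
      sy1_one hT u2 hx x8 (M.sy1_vc hn) h (e' ▸ ((M.sy1_act k).fix hn).2 e))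
    rwa [M.vc_inj hn (by omega) e2]
  have z : ∀ u ∈ M.V0, IsConj (M.el (vc 1)) u → M.el (vc 1) * u = 1 ∨ IsConj (M.el (vc 1)) (M.el (vc 1) * u) :=
    fun u hu h => by
    obtain ⟨n, hn, rfl⟩ := M.mem_V0.1 hu
    rcases nd n hn (.inr h) with h1 | h1
    · exact sy1_trans (mul_mem (M.sy1_memW.2 ⟨1, by omega, rfl⟩) (M.sy1_memW.2 ⟨n, h1, rfl⟩)).1
    · obtain ⟨p, hp, e⟩ := (sy1_nd n hn h1).1
      rw [M.vc_xor (by omega) hn, ← e, ← (M.sy1_act (sy1_ok' p hp).1 n hn).2]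
      exact .inr (h.trans (isConj_iff.2 ⟨_, rfl⟩))
  obtain ⟨n, hn, rfl⟩ := M.mem_V0.1 hv
  refine M.sy1_memW.2 ⟨n, (nd n hn (.inr h)).resolve_right fun h1 => ?_, rfl⟩
  obtain ⟨p, hp, e⟩ := (sy1_nd n hn h1).2
  have k := M.sy1_act (sy1_ok p hp)
  refine e (nd _ (xor512 (k n hn).1 hn) ?_)
  obtain ⟨g, e1⟩ := isConj_iff.1 (h.trans (isConj_iff.2 ⟨M.el p.1, (k n hn).2⟩))
  obtain ⟨m, hm, e2⟩ := sy1_fus hT u2 (M.sy1_vc (show 1 < 512 by omega)) (e1 ▸ M.sy1_vc (k n hn).1)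
  rw [← M.vc_xor (k n hn).1 hn, ← e1, ← e2,
    show m * M.el (vc 1) * m⁻¹ * M.el (vc n) = m * (M.el (vc 1) * (m⁻¹ * M.el (vc n) * m)) * m⁻¹ by group]
  exact (z _ (conj_mem' hm hv) (h.trans (isConj_iff.2 ⟨m⁻¹, by rw [inv_inv]⟩))).imp conj_eq_one_iff.2
    fun h => h.trans (isConj_iff.2 ⟨m, rfl⟩)

end NM

theorem sy1 : SY1.{u} := by
  intro u2 u3 G _ _ M hT a ha g h
  rcases NM.sy1_trans ha with rfl | hc
  · rw [mul_one, mul_inv_cancel]; exact one_mem _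
  have h2 : g * a * g⁻¹ * (g * a * g⁻¹) = 1 := by rw [conj_mul, M.A_sq a ha, mul_one, mul_inv_cancel]
  obtain ⟨k, hk, h1⟩ := syl_conj_le M.syl (isPGroup_zpowers (k := 1) (by rw [pow_one, sq, h2])) (zpowers_le.2 h)
  obtain ⟨n, hn, h3⟩ := u3 G M _ (h1 (conj_mem_cj k (mem_zpowers _))) (by rw [conj_mul, h2, mul_one, mul_inv_cancel])
  have := conj_mem' hk (conj_mem' hn (NM.sy1_two hT u2 h3
    (((hc.trans (isConj_iff.2 ⟨g, rfl⟩)).trans (isConj_iff.2 ⟨k, rfl⟩)).trans (isConj_iff.2 ⟨n, rfl⟩))).1)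
  simpa only [mul_assoc, inv_mul_cancel_left, inv_mul_cancel, mul_one] using this

end CL.F6
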