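/-
Project F6: the action of `T` on `V₀`, and the decomposition of the codes of `T` modulo `V₀`.
-/
import Cfsg.Agent.F6.NB2

set_option autoImplicit false

namespace CL.F6

open Subgroup CL.U6

universe u

/-- representatives of the 64 classes of `T` modulo `V₀` -/
def rp (k : ℕ) : ℕ := mm (tr (8 * (k % 8))) (LV.getD (k / 8) 0)

/-- the images of the basis of `V₀` under `rp k`, nine bits each -/
def tb (k : ℕ) : ℕ := Nat.shiftRight
  0xc1b1887ff2c0240e0300e018e43fc1601207018070ec7217e0b6090380c03846310bfe5b0481c0601c3b0083f82d8200e0300e118241ff96c10070180706c1207fcb0080380c038060103f0580401c0601e031887302c0240c0300f0d8e439b1601206018078ac7214d8b6090300c03c66310a605b048180601e330083302d8200c0300f1582419b16c10060180786c1204d8b0080300c03c0601026058040180601e021486a82c0240a0300f0d0843569601205018078a85212a0b6090280c03c6421095a5b048140601e320482ad2d8200a0300f1500415416c1005018078681202b4b0080280c03c0401015058040140601c1a1486242c024080300e0108431016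01204018070e8521090b6090200c038442108405b048100601c3a0482242d820080300e1100411016c100401807068120090b0080200c0380401004058040100601a2b1887ff090240e0200d1d8e43fc04812070100680c7217e020090380803426310bfe100481c0401a3b0083f8090200e0200d158241ff84810070100684c1207fc200803808034060103f0100401c0401833188730090240c0200c118e439b04812060100604c7214d820090300803006310a6010048180401833008330090200c0200c1182419b04810060100604c1204d82008030080300601026010040180401a2a1486a8090240a0200d1d0843568481205010068085212a02009028080342421095a10048140401a3a0482ad090200a0200d150041540481005010068481202b4200802808034040101501004014040183214862409024080200c11084310048120401006048521090200902008030042108401004810040183204822409020080200c110041100481004010060481200902008020080300401004010040100401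
  (Nat.mul 81 k)

/-- entry `i` of a table -/
def en (L i : ℕ) : ℕ := Nat.land (Nat.shiftRight L (Nat.mul 9 i)) 511

/-- the additive map with the table `L` -/
def li (L n : ℕ) : ℕ :=
  Nat.xor (Nat.xor (Nat.xor (Nat.xor (sel n 0 (en L 0)) (sel n 1 (en L 1))) (Nat.xor (sel n 2 (en L 2)) (sel n 3 (en L 3))))
    (Nat.xor (Nat.xor (sel n 4 (en L 4)) (sel n 5 (en L 5))) (Nat.xor (sel n 6 (en L 6)) (sel n 7 (en L 7)))))
      (sel n 8 (en L 8))

theorem li_xor (L a b : ℕ) : li L (a ^^^ b) = li L a ^^^ li L b := by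
  have e : ∀ n, li L n = (((sel n 0 (en L 0) ^^^ sel n 1 (en L 1)) ^^^ (sel n 2 (en L 2) ^^^ sel n 3 (en L 3))) ^^^
    ((sel n 4 (en L 4) ^^^ sel n 5 (en L 5)) ^^^ (sel n 6 (en L 6) ^^^ sel n 7 (en L 7)))) ^^^ sel n 8 (en L 8) :=
      fun _ => rfl
  simp only [e, sel_xor]
  ac_rfl

theorem li_zero (L : ℕ) : li L 0 = 0 := by simpa using li_xor L 0 0

theorem rp_chk : ∀ k < 64, TC (rp k) ∧ ∀ i < 9, li (tb k) (2 ^ i) < 512 ∧
    mm (rp k) (vc (2 ^ i)) = mm (vc (li (tb k) (2 ^ i))) (rp k) := by decide +kernel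

theorem rp_TC {k : ℕ} (hk : k < 64) : TC (rp k) := (rp_chk k hk).1

theorem rp_zero : rp 0 = I8 := by decide +kernel

theorem rp_tr : ∀ y < 8, rp y = tr (8 * y) ∧ ∀ j < 8, rp (8 * j + y) = mm (tr (8 * y)) (LV.getD j 0) := by decide +kernel

/-- the action of the representatives on `V₀` -/
theorem rp_act {k n : ℕ} (hk : k < 64) (hn : n < 512) :
    li (tb k) n < 512 ∧ mm (rp k) (vc n) = mm (vc (li (tb k) n)) (rp k) :=
  ind_bits (k := 9) (P := fun n => li (tb k) n < 512 ∧ mm (rp k) (vc n) = mm (vc (li (tb k) n)) (rp k))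
    ⟨by rw [li_zero]; omega, by rw [li_zero, vc_zero, mm_I8 (rp_TC hk).1.1, I8_mm (rp_TC hk).1.1]⟩
    (fun a ha i hi h => by
      obtain ⟨h1, h2⟩ := (rp_chk k hk).2 i hi
      rw [li_xor, ← (vc_TC a ha).2 i hi, ← mm_assoc, h.2, mm_assoc, h2, ← mm_assoc, vc_mul h.1 h1]
      exact ⟨xor512 h.1 h1, rfl⟩) n hn

/-- the decomposition of the members of `LT` -/
def du (i : ℕ) : ℕ := en
  0xc3e8719aada64b7f99bfdaae961a3d4a9959c36831babdae4f7d98bf5aeeb60a354e9b58c76a30ba3dee6f6d90bb58efb68a756e8b50c7ea709a2de66b6f91bbd8af969a7d6a8951cb6c33bbbd2e0f5d88b75eecb70ab50ebb48cbec739bad260b5f89b7deac971abd0ab949cfee729b2d662b4f81b3dcad979afd2aa941cf6e32bb3d6e2f4d80b35cedb78af52eab40ebfa3b9e3f674fcfd893c8e59288bc4e3918eb7a7bbe2f6f4bcdd99348a5b298b44a3b19ef787abeaf2f6bddd1974aa4b218f46a2b11eff83a9ebf276fdfd097cae49208fc6e2910e3fe399f3fe70fefc89bcce793883c0e1908e37e79bf2fef0bedc99b4ca7b398340a1b09e77c78bfafaf2bfdc19f4ea6b318742a0b01e7fc389fbfa72fffc09fcee693087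c2e090067bc19af272b69ced8339c8ca70279689a58673c598f37236dccd9331ccc8712716c985963be18afa76b49ded0379e8da78239488a50633e588fb7634ddcd1371ecd8792314c88516f385b8e37a32decc93b18ce8612f12cb8496fb81bae27ab29eec83b988ea602f928ba486b3a5a8eb7e30dfcc13f1acf8692b10ca8416bba1aaea7eb09fec03f9a8fa682b908aa404fae53abb5ea6d7e991f8ec7a390f86c3a194f2e138ba5e2697c981f0e878380f06838184bac52ab35aa4d6e911b8cc6a310b84c2a114b2c128b25a2496c901b0c868300b048281047aa51aab56a2d5e89178ac5a290782c1a09472a118aa562295c88170a8582807028180843a850aa352a0d4e811388c4a210380c0a014328108a2522094c80130884820030080800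
  i

theorem LT_chk : ∀ p ∈ LT.zipIdx, p.1 = mm (vc (8 * (du p.2 % 64))) (LV.getD (du p.2 / 64) 0) := by decide +kernel

theorem xor_div : ∀ x < 64, x % 8 ^^^ 8 * (x / 8) = x := by decide +kernel

/-- every `TC` code is an element of `V₀` times a representative -/
theorem TC.ex2 {c : ℕ} (hc : TC c) : ∃ n < 512, ∃ k < 64, c = mm (vc n) (rp k) := by
  obtain ⟨l, hl, x, hx, rfl⟩ := hc.ex
  obtain ⟨i, hi, rfl⟩ := List.getElem_of_mem hl
  have e := LT_chk (LT[i], i) (List.mem_zipIdx_iff_getElem?.2 (List.getElem?_eq_getElem hi))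
  have h9 : du i < 512 := Nat.and_lt_two_pow (n := 9) _ (by norm_num : 511 < 2 ^ 9)
  generalize du i = d at e h9
  obtain ⟨e1, e2⟩ := rp_tr (x / 8) (by omega)
  obtain ⟨a1, a2⟩ := rp_act (k := x / 8) (n := 8 * (d % 64)) (by omega) (by omega)
  refine ⟨_, xor512 (show x % 8 < 512 by omega) a1, 8 * (d / 64) + x / 8, by omega, ?_⟩
  rw [show LT[i] = _ from e, e2 _ (by omega), ← vc_mul (by omega) a1, mm_assoc, ← mm_assoc (vc (li _ _)), ← e1, ← a2,
    mm_assoc, ← mm_assoc (vc (x % 8)), e1, vc_tr (x % 8) (by omega), tr_mul _ (by omega) _ (by omega), xor_div x hx]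

namespace NM

variable {G : Type u} [Group G] (M : NM G)

theorem rp_conj {k n : ℕ} (hk : k < 64) (hn : n < 512) :
    M.el (rp k) * M.el (vc n) * (M.el (rp k))⁻¹ = M.el (vc (li (tb k) n)) :=
  M.conj_T (rp_TC hk) (vc_TC n hn).1 (vc_TC _ (rp_act hk hn).1).1 (rp_act hk hn).2

theorem T_ex {y : G} (hy : y ∈ M.T) : ∃ n < 512, ∃ k < 64, y = M.el (vc n) * M.el (rp k) := by
  obtain ⟨c, hc, rfl⟩ := M.mem_T.1 hy
  obtain ⟨n, hn, k, hk, rfl⟩ := hc.ex2
  exact ⟨n, hn, k, hk, (M.mul_el (vc_TC n hn).1 (rp_TC hk)).symm⟩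

theorem vc_mem {n : ℕ} (hn : n < 512) : M.el (vc n) ∈ M.V0 := M.mem_V0.2 ⟨n, hn, rfl⟩

theorem vc_comm {n n' : ℕ} (hn : n < 512) (hn' : n' < 512) : Commute (M.el (vc n)) (M.el (vc n')) := by
  rw [commute_iff_eq, M.vc_xor hn hn', M.vc_xor hn' hn, Nat.xor_comm]

/-- the action of `T` on `V₀` -/
theorem T_conj {m k n : ℕ} (hm : m < 512) (hk : k < 64) (hn : n < 512) :
    M.el (vc m) * M.el (rp k) * M.el (vc n) * (M.el (vc m) * M.el (rp k))⁻¹ = M.el (vc (li (tb k) n)) := by
  rw [show ∀ a b c : G, a * b * c * (a * b)⁻¹ = a * (b * c * b⁻¹) * a⁻¹ from fun a b c => by group, M.rp_conj hk hn,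
    (M.vc_comm hm (rp_act hk hn).1).eq, mul_inv_cancel_right]

theorem V0_conj {y v : G} (hy : y ∈ M.T) (hv : v ∈ M.V0) : y * v * y⁻¹ ∈ M.V0 := by
  obtain ⟨m, hm, k, hk, rfl⟩ := M.T_ex hy
  obtain ⟨n, hn, rfl⟩ := M.mem_V0.1 hv
  rw [M.T_conj hm hk hn]
  exact M.vc_mem (rp_act hk hn).1

end NM

end CL.F6
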