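/-
Project F6: `V₀` is the only elementary abelian subgroup of order `2⁹` in `T`.
-/
import Cfsg.Agent.F6.VA

set_option autoImplicit false

namespace CL.F6

open Subgroup CL.Even CL.Grp CL.U6 CL.Fc Cfsg

universe u

/-- the classes of the involutions, with the masks of their fixed points in `V₀` -/
def u2GF : List (ℕ × ℕ) :=
  [(1, 0xffffffff00000000ffffffff),
  (2, 0xffff0000ffff00000000000000000000ffff0000ffff),
  (3, 0xffff00000000000000000000000000000000000000000000ffff000000000000000000000000ffff00000000000000000000000000000000000000000000ffff),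
  (4, 0xff00ff00ff00ff00000000000000000000000000000000000000000000000000ff00ff00ff00ff),
  (5, 0xff00ff000000000000000000000000000000000000ff00ff00000000000000000000000000000000ff00ff000000000000000000000000000000000000ff00ff),
  (6, 0xff000000ff000000000000ff000000ff0000000000000000000000000000000000000000000000000000000000000000ff000000ff000000000000ff000000ff),
  (7, 0xff00000000ff0000000000ff000000000000ff00000000000000ff0000000000000000ff000000000000000000ff00000000000000000000ff),
  (8, 0xf0f0f0f000000000f0f0f0f000000000f0f0f0f000000000f0f0f0f),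
  (9, 0xf0f0f0f000000000f0f0f0f0000000000f0f0f0f000000000f0f0f0f),
  (10, 0xf0f00000000000000f0f000000000000f0f00000000000000f0f),
  (11, 0xf0f000000000000f0f0000000000000f0f00000000000000f0f),
  (16, 0xf0f0f0f000000000f0f0f0f00000000000000000000000000000000000000000f0f0f0f000000000f0f0f0f),
  (17, 0xf0f0f0f000000000f0f0f0f000000000000000000000000000000000000000000f0f0f0f000000000f0f0f0f),
  (20, 0xf000f000000000000f000f000000000000000000000000000000000000000000f000f000000000000f000f),
  (21, 0xf000f0000000000f000f0000000000000000000000000000000000000000000f000f000000000000f000f),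
  (24, 0xf0f0f0f000000000f0f0f0f0000000000000000000000000000000000000000000000000000000000000000000000000f0f0f0f000000000f0f0f0f),
  (25, 0xf0f0f0f000000000f0f0f0f00000000000000000000000000000000000000000000000000000000000000000000000000f0f0f0f000000000f0f0f0f),
  (30, 0xf0000f000000000f000000f0000000000000000000000000000000000000000000000000000000000000000000000000f0000f000000000f000000f),
  (31, 0xf000000f000000000f0000f00000000000000000000000000000000000000000000000000000000000000000000000000f0000f000000000f000000f),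
  (32, 0x333300003333000033330000333300003333000033330000333300003333),
  (33, 0xcccc000000000000cccc00000000000033330000000000003333),
  (34, 0xcccc0000cccc00003333000033330000cccc0000cccc0000333300003333),
  (35, 0x3333000000000000cccc000000000000cccc0000000000003333),
  (40, 0xc3c3000000000000c3c3000000000000c3c3000000000000c3c3000000000000000000000000c3c3000000000000c3c3000000000000c3c3000000000000c3c3),
  (41, 0x3c3c0000000000003c3c000000000000c3c3000000000000c3c3),
  (42, 0x3c3c000000000000c3c30000000000003c3c000000000000c3c3),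
  (43, 0xc3c30000000000003c3c0000000000003c3c000000000000c3c3000000000000000000000000c3c30000000000003c3c0000000000003c3c000000000000c3c3)]

/-- the number of bits below `r` -/
noncomputable def u2pc (m r : ℕ) : ℕ := Nat.rec 0 (fun i s => Nat.add s (Nat.land (Nat.shiftRight m i) 1)) r

theorem u2pc_eq (m : ℕ) : ∀ r, u2pc m r = ((Finset.range r).filter fun i => m.testBit i).card
  | 0 => rfl
  | r + 1 => by
    have e : Nat.land (Nat.shiftRight m r) 1 = if m.testBit r then 1 else 0 := (one_mul _).symm.trans (sel_eq m r 1)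
    rw [Finset.range_add_one, Finset.filter_insert, show u2pc m (r + 1) = u2pc m r + _ from rfl, e, u2pc_eq m r]
    split_ifs
    · rw [Finset.card_insert_of_notMem (by simp)]
    · rfl

theorem u2_sq : ∀ k < 64, k = 0 ∨ (∃ p ∈ u2GF, p.1 = k) ∨ ap (mm (rp k) (rp k)) 2 ≠ 2 ∨ ap (mm (rp k) (rp k)) 4 ≠ 4 ∨
    8 ≤ ap (mm (rp k) (rp k)) 64 ^^^ 64 := by decide +kernel

theorem u2_vc : ∀ m < 512, ap (vc m) 2 = 2 ∧ ap (vc m) 4 = 4 ∧ ap (vc m) 64 ^^^ 64 < 8 := by decide +kernel

theorem u2_fix : ∀ p ∈ u2GF, ∀ n < 512, li (tb p.1) n = n → p.2.testBit n := by decide +kernel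

theorem u2_cnt : ∀ p ∈ u2GF, u2pc p.2 512 ≤ 64 ∧
    (u2GF.filter fun q => Nat.blt 16 (u2pc (Nat.land p.2 q.2) 512)).length ≤ 7 ∧
    (u2GF.filter fun q => Nat.blt 32 (u2pc (Nat.land p.2 q.2) 512)).length ≤ 1 := by decide +kernel

theorem u2 : U2.{u} := fun G _ _ M E hE sq hc => by
  classical
  by_contra nE
  have := Fintype.ofFinite E
  choose n hn k hk e using fun y : E => M.T_ex (hE y.2)
  have cm : ∀ x ∈ E, ∀ y ∈ E, x * y = y * x := fun x hx y hy => by
    rw [← inv_eq_of_mul_eq_one_right (sq _ (mul_mem hx hy)), mul_inv_rev, inv_eq_of_mul_eq_one_right (sq x hx),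
      inv_eq_of_mul_eq_one_right (sq y hy)]
  have h1 : 512 ≤ Nat.card (E ⊓ M.V0 : Subgroup G) * (Finset.univ.image k).card := by
    refine hc.trans ((Nat.card_eq_fintype_card.trans Finset.card_univ.symm).le.trans
      (Finset.card_le_mul_card_image _ _ fun a ha => ?_))
    obtain ⟨y0, -, rfl⟩ := Finset.mem_image.1 ha
    rw [← Nat.card_eq_finsetCard]
    refine Nat.card_le_card_of_injective (fun y => (⟨y.1 * (y0 : G)⁻¹, mem_inf.2 ⟨mul_mem y.1.2 (inv_mem y0.2), by
      rw [e y.1, e y0, (Finset.mem_filter.1 y.2).2, mul_inv_rev, mul_assoc, mul_inv_cancel_left]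
      exact mul_mem (M.vc_mem (hn _)) (inv_mem (M.vc_mem (hn _)))⟩⟩ : (E ⊓ M.V0 : Subgroup G))) fun a b h => ?_
    exact Subtype.ext (Subtype.ext (mul_right_cancel (congrArg Subtype.val h)))
  have h2 : ∀ y : E, k y = 0 ∨ ∃ p ∈ u2GF, p.1 = k y := fun y => by
    have m : M.el (rp (k y)) * M.el (rp (k y)) ∈ M.V0 := by
      have := sq y y.2
      rw [e y, show ∀ a b : G, a * b * (a * b) = a * (b * a * b⁻¹) * (b * b) from fun a b => by group] at this
      exact eq_inv_of_mul_eq_one_right this ▸ inv_mem (mul_mem (M.vc_mem (hn y))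
        (M.V0_conj (M.el_mem (rp_TC (hk y))) (M.vc_mem (hn y))))
    obtain ⟨m, hm, e1⟩ := M.mem_V0.1 m
    rw [M.mul_el (rp_TC (hk y)) (rp_TC (hk y))] at e1
    have e2 := M.el_inj (M.el_mul (rp_TC (hk y)) (rp_TC (hk y))).1 (vc_TC m hm).1 e1
    obtain ⟨a, b, c⟩ := u2_vc m hm
    have := u2_sq _ (hk y)
    rw [e2] at this
    rcases this with h | h | h | h | h
    exacts [.inl h, .inr h, (h a).elim, (h b).elim, (c.not_ge h).elim]
  have h3 : ∀ p ∈ u2GF, ∀ q ∈ u2GF, ∀ y y' : E, p.1 = k y → q.1 = k y' →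
      Nat.card (E ⊓ M.V0 : Subgroup G) ≤ u2pc (Nat.land p.2 q.2) 512 := fun p hp q hq y y' e1 e2 => by
    have k0 : ∀ p ∈ u2GF, ∀ y : E, p.1 = k y → ∀ a < 512, M.el (vc a) ∈ E → p.2.testBit a := fun p hp y e1 a ha m =>
      u2_fix p hp a ha (M.vc_inj (e1 ▸ (rp_act (hk y) ha).1) ha (by
        rw [e1, ← M.T_conj (hn y) (hk y) ha, ← e y, cm y y.2 _ m, mul_inv_cancel_right]))
    choose a ha ea using fun v : (E ⊓ M.V0 : Subgroup G) => M.mem_V0.1 v.2.2
    rw [u2pc_eq, ← Nat.card_eq_finsetCard]
    refine Nat.card_le_card_of_injective (fun v => ⟨a v, Finset.mem_filter.2 ⟨Finset.mem_range.2 (ha v), ?_⟩⟩)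
      fun v w h => Subtype.ext (by rw [ea v, ea w, show a v = a w from congrArg Subtype.val h])
    rw [show Nat.land p.2 q.2 = p.2 &&& q.2 from rfl, Nat.testBit_and, k0 p hp y e1 _ (ha v) (ea v ▸ v.2.1),
      k0 q hq y' e2 _ (ha v) (ea v ▸ v.2.1)]
    rfl
  obtain ⟨y, hy, ny⟩ := SetLike.not_le_iff_exists.1 nE
  obtain ⟨p, hp, ep⟩ := (h2 ⟨y, hy⟩).resolve_left fun h => ny (by
    have := e ⟨y, hy⟩
    rw [h, rp_zero, M.el_I8, mul_one] at this
    exact (show y = _ from this) ▸ M.vc_mem (hn _))
  have h4 : ∀ t, t < Nat.card (E ⊓ M.V0 : Subgroup G) → (Finset.univ.image k).card ≤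
      (u2GF.filter fun q => Nat.blt t (u2pc (Nat.land p.2 q.2) 512)).length + 1 := fun t ht => by
    have k1 : ∀ l : List (ℕ × ℕ), (insert 0 (l.map Prod.fst).toFinset).card ≤ l.length + 1 := fun l =>
      (Finset.card_insert_le _ _).trans (Nat.add_le_add_right ((List.toFinset_card_le _).trans (List.length_map _).le) 1)
    refine le_trans (Finset.card_le_card fun a ha => ?_) (k1 _)
    obtain ⟨y', -, rfl⟩ := Finset.mem_image.1 ha
    refine Finset.mem_insert.2 ((h2 y').imp_right fun ⟨q, hq, eq⟩ => List.mem_toFinset.2 (List.mem_map.2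
      ⟨q, List.mem_filter.2 ⟨hq, ?_⟩, eq⟩))
    exact Nat.blt_eq.mpr (ht.trans_le (h3 p hp q hq _ y' ep eq))
  obtain ⟨c1, c2, c3⟩ := u2_cnt p hp
  have c4 := h3 p hp p hp _ _ ep ep
  rw [show Nat.land p.2 p.2 = p.2 from Nat.and_self _] at c4
  have c5 := h4 0 Nat.card_pos
  have c6 := c5.trans (Nat.add_le_add_right ((List.length_filter_le _ _).trans (show u2GF.length ≤ 27 by decide)) 1)
  have c7 := h4 16 (by by_contra h; nlinarith)
  have c8 := h4 32 (by by_contra h; nlinarith)
  nlinarith

end CL.F6
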