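/-
Project F6: the group `V = 2¹⁰` and its fusion.
-/
import Cfsg.Agent.F6.JC

set_option autoImplicit false

namespace CL.F6

open Subgroup CL.Even CL.Grp CL.U6 CL.Fc CL.MT Cfsg

universe u

theorem vx_dec : (∀ a ∈ l0, ap t0 a = a) ∧ ∀ w ∈ EW, tw w ∈ TL ∧ (w = [] ∨
    ∃ g ∈ [[], [89, 87], [127, 117], [7, 87], [94, 87], [112, 117], [122, 117], [66, 118], [76, 126], [68, 119]],
      (∀ v ∈ g, Iso v) ∧ (∀ a ∈ l0, ap (tw g) a ∈ l0) ∧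
        (mm (tw g) (tw w) = mm t0 (tw g) ∨ mm (tw g) (tw w) = mm b0 (tw g))) := by decide +kernel

namespace XF

variable {G : Type u} {Γ : Type} [Group G] [Finite G] [Group Γ] {S : JB G} {m : Γ → ℕ} (X : XF S m)

theorem vx_red {w : List ℕ} (hw : w ∈ EW) : w = [] ∨ ∃ u ∈ X.Nn, u ∈ 𝒩(𝒞(S.I)) ∧ ∃ ε ∈ X.V, ε * ε = 1 ∧
    ∀ γ, m γ = tw w → X.r u * γ * (X.r u)⁻¹ = X.r ε := by
  refine (vx_dec.2 w hw).2.imp_right fun ⟨g, _, h1, h2, h3⟩ => ?_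
  obtain ⟨δ, hδ⟩ := X.md.exists_tw h1
  obtain ⟨u, hu, rfl⟩ := X.surj δ
  refine ⟨u, hu, norm_le_norm_cent _ (mem_normalizer_fintype fun y hy => ?_), ?_⟩
  · obtain ⟨a, ha, e, f, rfl⟩ := S.mem_I.1 hy
    obtain ⟨e', f', h, -⟩ := X.toJ0.act hu (l0_spec.2.1 a ha).1 e f
    rw [h, hδ]
    exact S.j_I (h2 a ha) _ _
  have k : ∀ ε A, m (X.r ε) = A → mm (tw g) (tw w) = mm A (tw g) → ∀ γ, m γ = tw w → X.r u * γ * (X.r u)⁻¹ = X.r ε :=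
    fun ε A e1 e2 γ e => mul_inv_eq_iff_eq_mul.2 (X.md.inj (by rw [X.md.mul, X.md.mul, hδ, e, e1, e2]))
  rcases h3 with h3 | h3
  · refine ⟨X.κ, ⟨X.κT, fun y hy => ?_⟩, X.κκ, k _ _ X.rκ h3⟩
    obtain ⟨a, ha, e, f, rfl⟩ := S.mem_I.1 hy
    exact (X.toCM.κj (l0_spec.2.1 a ha).1 (vx_dec.1 a ha) e f).symm
  · refine ⟨X.β, ⟨X.βT, fun y hy => ?_⟩, X.ββ, k _ _ X.rβ h3⟩
    obtain ⟨a, ha, e, f, rfl⟩ := S.mem_I.1 hy
    exact (X.toCM.βj ha e f).symm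

theorem vx_O {o : G} (ho : o ∈ X.O1) : o ∈ 𝒩(𝒞(S.I)) := le_normalizer (cent_mono S.IJ (X.OJ1 ho))

theorem vx_IV : S.I ≤ X.V := le_inf (S.IJ.trans X.JT) S.I_cent

theorem vx_sq : ∀ y ∈ X.V, y * y = 1 := fun y hy => by
  have hN := X.toJ0.TN hy.1
  obtain ⟨w, hw, e⟩ := X.md.mem_EW (γ := X.r y) fun a ha => X.toJ0.fix hN (l0_spec.2.1 a ha).1
    (conj_eq_of_mem hy.2 (S.j_I ha false false))
  rcases X.vx_red hw with rfl | ⟨u, hu, un, ε, hε, ε2, h⟩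
  · exact S.I_sq y (S.mem_I_of (X.toJ0.mem_J_of_T hy.1 (X.md.eq_one_iff.1 e.symm)) hy.2)
  obtain ⟨k, hk⟩ := IsPGroup.pw X.syl.isPGroup hy.1
  obtain ⟨o, ho, a, ha, e', f, h1⟩ := X.toJ0.lift1 (p := u * y * u⁻¹) (k := k) (mul_mem (mul_mem hu hN) (inv_mem hu))
    (by rw [conj_pow, hk, mul_one, mul_inv_cancel]) hε.1 (by rw [X.toJ0.r_conj hu hN, h _ e.symm])
  have h2 := conj_mem (X.vx_O ho) (conj_mem un hy.2)
  rw [h1, 𝒞(S.I).mul_mem_cancel_left hε.2] at h2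
  have h3 := S.mem_I_of (S.j_mem ha e' f) h2
  have h4 : ε * S.j a e' f * (ε * S.j a e' f) = 1 := by
    rw [← sq, (show Commute ε (S.j a e' f) from (comm_of_mem hε.2 h3).symm).mul_pow, sq, sq, ε2, S.I_sq _ h3, mul_one]
  rwa [← h1, conj_mul, conj_eq_one_iff, conj_mul, conj_eq_one_iff] at h4

theorem vx_card : 1024 ≤ Nat.card X.V := by
  obtain ⟨I, h1, h2⟩ := X.toJ0.exists_im (E := X.V) (inf_le_left.trans X.syl.le) X.syl.isPGroup.to_inf_left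
  have h3 := card_le_of_le (le_inf X.vx_IV S.IJ)
  have h4 := X.md.le_card (K := I) EW_spec.1 fun A hA => by
    obtain ⟨w, hw, rfl⟩ := List.mem_map.1 hA
    rcases X.vx_red hw with rfl | ⟨u, hu, un, ε, hε, ε2, h⟩
    · exact ⟨1, one_mem _, X.md.one⟩
    obtain ⟨γ, hγ, e⟩ := X.md.exists_TL _ (vx_dec.2 w hw).1
    obtain ⟨y, hy, rfl⟩ := X.onT γ hγ
    have hN := X.toJ0.TN hε.1
    have pN := mul_mem (mul_mem (inv_mem hu) hN) (inv_mem (inv_mem hu))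
    have rp : X.r y = X.r (u⁻¹ * ε * u⁻¹⁻¹) := by rw [X.toJ0.r_conj (inv_mem hu) hN, X.toJ0.r_inv hu, ← h _ e]; group
    obtain ⟨o, ho, a, ha, e', f, h5⟩ := X.toJ0.lift1 (k := 1) pN
      (by rw [pow_one, sq, conj_mul, ε2, mul_one, mul_inv_cancel]) hy rp
    refine ⟨_, (h1 _).2 ⟨_, ⟨h5 ▸ mul_mem hy (X.JT (S.j_mem ha e' f)),
      conj_mem (X.vx_O ho) (conj_mem (inv_mem un) hε.2)⟩, ?_⟩, e⟩
    rw [X.toJ0.r_conj (X.ON ho) pN, X.toJ0.r_O ho, rp, one_mul, inv_one, mul_one]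
  rw [S.card_I] at h3
  rw [h2]
  exact Nat.mul_le_mul h3 h4

theorem vx_uq {E : Subgroup G} (hE : E ≤ X.T) (h2 : ∀ a ∈ E, a * a = 1) (hc : 1024 ≤ Nat.card E) :
    E ≤ X.V ∧ Nat.card E ≤ 1024 := by
  obtain ⟨I, h1, h3⟩ := X.toJ0.exists_im (hE.trans X.syl.le) (X.syl.isPGroup.to_le hE)
  have h4 := S.ab_le (E := E ⊓ S.J) inf_le_right fun a ha b hb => Md.comm_of_sq h2 ha.1 hb.1
  have h5 : ∀ γ ∈ I, γ * γ = 1 := fun γ hγ => by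
    obtain ⟨a, ha, rfl⟩ := (h1 γ).1 hγ
    rw [← X.r_mul (X.toJ0.TN (hE ha)) (X.toJ0.TN (hE ha)), h2 a ha, X.toJ0.r_one]
  have h6 := X.md.rank h5
  obtain ⟨γ, hγ, e⟩ := X.md.exists_b0 (E := I) (fun γ hγ => by
    obtain ⟨a, ha, rfl⟩ := (h1 γ).1 hγ
    exact X.rT (hE ha)) h5 (by nlinarith)
  obtain ⟨y, hy, rfl⟩ := (h1 γ).1 hγ
  have h7 : E ⊓ S.J = S.I := eq_of_le_of_card_ge (fun x hx => by
    obtain ⟨a, ha, e', f, rfl⟩ := S.ex_j hx.2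
    exact S.j_I (l0_spec.2.2 a ha (.inl (e ▸ X.toJ0.fix (X.toJ0.TN (hE hy)) ha
      (mul_inv_eq_iff_eq_mul.2 (Md.comm_of_sq h2 hy hx.1))))) _ _) (by rw [S.card_I]; nlinarith)
  exact ⟨fun a ha => ⟨hE ha, fun b hb => Md.comm_of_sq h2 (h7.ge hb).1 ha⟩, by nlinarith⟩

theorem vx_cj {g : G} (h : cj g X.V ≤ X.T) : cj g X.V = X.V :=
  eq_of_le_of_card_ge (X.vx_uq h (by
    rintro _ ⟨a, ha, rfl⟩
    rw [← map_mul, X.vx_sq a ha, map_one]) (by rw [card_cj]; exact X.vx_card)).1 (card_cj g _).ge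

theorem vx_ctl (hT : IsSylowIn 2 X.T ⊤) {K : Subgroup G} (hK : X.T ≤ K) {v g : G} (hg : g ∈ K) (hv : v ∈ X.V)
    (h : g * v * g⁻¹ ∈ X.V) : ∃ n ∈ 𝒩(X.V) ⊓ K, n * v * n⁻¹ = g * v * g⁻¹ := by
  have pV : IsPGroup 2 X.V := hT.isPGroup.to_inf_left
  have VK : X.V ≤ K := inf_le_left.trans hK
  obtain ⟨R, hR, h1⟩ := exists_isSylowIn_ge (H := K ⊓ centralizer {g * v * g⁻¹}) pV
    fun a ha => ⟨VK ha, mem_centralizer_singleton_iff.2 (Md.comm_of_sq X.vx_sq ha h)⟩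
  obtain ⟨c, hc, h2⟩ := syl_conj_le hR (isPGroup_cj pV g) (le_inf (cj_le_of_mem VK hg) (by
    rintro _ ⟨a, ha, rfl⟩
    exact mem_centralizer_singleton_iff.2 (Commute.conj (Md.comm_of_sq X.vx_sq ha hv) g).eq))
  obtain ⟨k, -, h3⟩ := syl_conj_le hT hR.isPGroup le_top
  have e1 := X.vx_cj ((cj_mono k h1).trans h3)
  have e2 := X.vx_cj (g := k * (c * g)) (by rw [Even.cj_mul, Even.cj_mul]; exact (cj_mono k h2).trans h3)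
  rw [Even.cj_mul] at e2
  refine ⟨c * g, ⟨cj_eq_iff_mem.1 (cj_inj.1 (e2.trans e1.symm)), K.mul_mem hc.1 hg⟩, ?_⟩
  rw [show c * g * v * (c * g)⁻¹ = c * (g * v * g⁻¹) * c⁻¹ by group, mem_centralizer_singleton_iff.1 hc.2,
    mul_inv_cancel_right]

end XF

theorem vx : VX.{u} := by
  intro G Γ _ _ _ S m X sy
  refine ⟨X.vx_sq, fun u hu g h => ?_⟩
  by_cases c : Commute g S.z
  · obtain ⟨n, hn, e⟩ := X.vx_ctl sy.syl (K := centralizer {S.z})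
      (fun y hy => mem_centralizer_singleton_iff.2 (X.toJ0.Nz (X.toJ0.TN hy))) (mem_centralizer_singleton_iff.2 c) hu h
    exact ⟨n, hn.1, e, fun _ => mem_centralizer_singleton_iff.1 hn.2⟩
  · obtain ⟨n, hn, e⟩ := X.vx_ctl sy.syl le_top (mem_top g) hu h
    exact ⟨n, hn.1, e, fun h => (c h).elim⟩

end CL.F6
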