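/-
Project F6: weak closure of `J`, and `T` is a Sylow 2-subgroup of `G`.
-/
import Cfsg.Agent.F6.JC

set_option autoImplicit false

namespace CL.F6

open Subgroup CL.Even CL.Grp CL.U6 CL.Fc CL.MT Cfsg

universe u

variable {G : Type u} {Γ : Type} [Group G] [Group Γ] {m : Γ → ℕ}

theorem wl_conj (S : JB G) {x y : G} (hx : x ∈ S.J) (hy : y ∈ S.J) : y * x * y⁻¹ = x ∨ y * x * y⁻¹ = x * S.z := by
  obtain ⟨a, ha, e, f, rfl⟩ := S.ex_j hx
  obtain ⟨b, hb, e', f', rfl⟩ := S.ex_j hy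
  rw [S.j_conj ha hb, S.j_mul_z]
  cases BB a b <;> simp

theorem wl_three (md : Md m) {K : Subgroup Γ} (h2 : ∀ a ∈ K, a * a = 1) (h3 : 3 ≤ Nat.card K) :
    ∃ γ ∈ K, γ ≠ 1 ∧ ¬ Tv m γ := by
  have := md.finite
  obtain ⟨a, ha, b, hb, c, hc, ab, ac, bc⟩ := (Set.two_lt_ncard (s := (K : Set Γ))).1 h3
  have m1 := K.mul_mem (K.inv_mem ha) hb
  have m2 := K.mul_mem (K.inv_mem ha) hc
  by_contra! k
  obtain ⟨v, hv, e1⟩ := k _ m1 fun e => ab (inv_mul_eq_one.1 e)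
  obtain ⟨w, hw, e2⟩ := k _ m2 fun e => ac (inv_mul_eq_one.1 e)
  obtain ⟨u, hu, e3⟩ := k _ (K.mul_mem m1 m2) fun e => bc (mul_left_cancel (mul_right_cancel (e.trans (h2 _ m2).symm)))
  exact md.tv_mul_ne hu hv hw e1 e2 (Md.comm_of_sq h2 m1 m2) e3

theorem wl_sing (md : Md m) {γ : Γ} (h : Cj m γ b0) {a : ℕ} (ha : a < 256) (e : ap (m γ) a = a) : qq a = false := by
  obtain ⟨δ, h⟩ := h
  rw [← md.qinv δ a ha]
  exact (b0_fix _ (ap_lt _ _) (by rw [← h, md.ap_mul, md.ap_mul, md.ap_inv δ ha, e])).1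

theorem wl : WL.{u} := by
  intro G Γ _ _ _ S m X h hz hT
  have md := X.md
  have := md.finite
  have zc := conj_eq_of_commute hz
  have hN : cj h S.J ≤ X.Nn := hT.trans X.syl.le
  have sq : ∀ y ∈ cj h S.J, y * y = 1 ∨ y * y = S.z := fun y hy => by
    have e : y * y = h * (h⁻¹ * y * h * (h⁻¹ * y * h)) * h⁻¹ := by group
    exact (S.J_sq (mem_cj.1 hy)).imp (fun k => by rw [e, k]; group) fun k => by rw [e, k, zc]
  have cn : ∀ x ∈ cj h S.J, ∀ y ∈ cj h S.J, y * x * y⁻¹ = x ∨ y * x * y⁻¹ = x * S.z := fun x hx y hy => by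
    have e : y * x * y⁻¹ = h * (h⁻¹ * y * h * (h⁻¹ * x * h) * (h⁻¹ * y * h)⁻¹) * h⁻¹ := by group
    refine (wl_conj S (mem_cj.1 hx) (mem_cj.1 hy)).imp (fun k => by rw [e, k]; group) fun k => ?_
    rw [e, k]
    conv_rhs => rw [← zc]
    group
  obtain ⟨I, hI, c⟩ := X.toJ0.exists_im hN (isPGroup_cj S.isP h)
  rw [card_cj, S.card_J] at c
  have I2 : ∀ γ ∈ I, γ * γ = 1 := fun γ hγ => by
    obtain ⟨y, hy, rfl⟩ := (hI γ).1 hγ
    rw [← X.r_mul (hN hy) (hN hy)]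
    rcases sq y hy with e | e <;> rw [e]
    exacts [X.toJ0.r_one, X.toJ0.r_J S.zJ]
  have I16 := md.rank I2
  have fx : ∀ y ∈ cj h S.J, ∀ a < 256, ∀ e f, S.j a e f ∈ cj h S.J → ap (m (X.r y)) a = a := fun y hy a ha e f hx => by
    rcases cn _ hx y hy with k | k
    · exact X.toJ0.fix (hN hy) ha k
    · exact X.toJ0.fix (hN hy) ha (k.trans (S.j_mul_z a e f))
  have bd : ∀ γ ∈ I, γ ≠ 1 → Nat.card ↥(cj h S.J ⊓ S.J) ≤ 256 ∧ (¬ Tv m γ → Nat.card ↥(cj h S.J ⊓ S.J) ≤ 64) := by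
    intro γ hγ g1
    obtain ⟨l, h1, h2⟩ := fix_le md (I2 γ hγ) g1
    obtain ⟨y, hy, rfl⟩ := (hI γ).1 hγ
    have := S.card_le (E := cj h S.J ⊓ S.J) (l := l) fun x hx => by
      obtain ⟨a, ha, e, f, rfl⟩ := S.ex_j hx.2
      exact ⟨a, h2 a ha (fx y hy a ha e f hx.1), e, f, rfl⟩
    rcases h1 with k | ⟨k1, k⟩
    · exact ⟨by omega, fun _ => by omega⟩
    · exact ⟨by omega, fun k2 => absurd k1 k2⟩
  by_cases triv : ∀ γ ∈ I, γ = 1
  · exact eq_of_le_of_card_ge (fun y hy => X.toJ0.mem_J_of_T (hT hy) (triv _ ((hI _).2 ⟨y, hy, rfl⟩)))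
      (card_cj h S.J).ge
  exfalso
  push Not at triv
  obtain ⟨γ0, h0, n0⟩ := triv
  have b1 := (bd γ0 h0 n0).1
  obtain ⟨γ1, h1, n1, t1⟩ := wl_three md I2 (by by_contra k; nlinarith)
  have b2 := (bd γ1 h1 n1).2 t1
  have c16 : Nat.card I = 16 := by nlinarith
  have c64 : Nat.card ↥(cj h S.J ⊓ S.J) = 64 := by rw [c16] at c; omega
  have c8 : 3 ≤ Nat.card ↥(I ⊓ LL m) := by
    have := md.normal
    have d := relIndex_dvd_index_of_normal (LL m) I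
    have e := ((LL m).subgroupOf I).card_mul_index
    rw [← inf_subgroupOf_left, card_subgroupOf_of_le inf_le_left, inf_subgroupOf_left, c16] at e
    have d2 : ((LL m).subgroupOf I).index ≤ 2 := by
      rcases md.index_LL with k | ⟨k, -⟩ <;> rw [k] at d
      · exact (Nat.le_of_dvd one_pos d).trans one_le_two
      · exact Nat.le_of_dvd two_pos d
    by_contra k
    nlinarith
  obtain ⟨γ, hγ, n2, t2⟩ := wl_three md (K := I ⊓ LL m) (fun a ha => I2 a ha.1) c8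
  have cb : Cj m γ b0 := ((md.types_in (I2 γ hγ.1) (md.mem_LL.1 hγ.2)).resolve_left n2).resolve_left t2
  obtain ⟨y, hy, rfl⟩ := (hI γ).1 hγ.1
  have bb : ∀ a < 256, ∀ c < 256, ap (m (X.r y)) a = a → ap (m (X.r y)) c = c → BB a c = false := by
    intro a ha c hc e1 e2
    have := wl_sing md cb (xor_lt ha hc) (by rw [ap_xor, e1, e2])
    rwa [qq_xor, wl_sing md cb ha e1, wl_sing md cb hc e2, Bool.xor_self, Bool.false_xor] at this
  obtain ⟨b, hb, rb, b2, bs⟩ := X.sb y (hT hy) cb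
  have bN := X.toJ0.TN hb
  have bj : ∀ a < 256, ap (m (X.r y)) a = a → ∀ e f, Commute b (S.j a e f) := fun a ha k =>
    S.comm_j (X.toJ0.Nz bN) ((X.toJ0.comm_d bN).2 (rb ▸ md.mem_LL.1 hγ.2)) (bs a ha k)
  obtain ⟨c0, hc, e0, f0, ey⟩ := X.toJ0.eq_mul (hT hy) hb rb.symm
  have fc : ap (m (X.r y)) c0 = c0 := by
    obtain ⟨e', f', k, -⟩ := X.toJ0.act bN hc e0 f0
    have e : y * y = S.j (ap (m (X.r b)) c0) e' f' * S.j c0 e0 f0 := by
      rw [← k, inv_eq_of_mul_eq_one_right b2]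
      conv_lhs => rw [ey]
      group
    rw [S.j_mul (ap_lt _ _) hc, rb] at e
    refine Nat.xor_eq_zero_iff.1 ?_
    rcases sq y hy with k | k
    · exact (S.j_inj (xor_lt (ap_lt _ _) hc) (by omega) (e.symm.trans (k.trans S.j_one.symm))).1
    · exact (S.j_inj (xor_lt (ap_lt _ _) hc) (by omega) (e.symm.trans (k.trans S.j_z.symm))).1
  have k1 : cj h S.J ⊓ S.J ≤ 𝒞(cj h S.J ⊓ S.J) := fun x hx x' hx' => by
    obtain ⟨a, ha, e, f, rfl⟩ := S.ex_j hx.2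
    obtain ⟨a', ha', e', f', rfl⟩ := S.ex_j hx'.2
    exact (S.j_comm ha' ha ..).2 (bb a' ha' a ha (fx y hy a' ha' e' f' hx'.1) (fx y hy a ha e f hx.1))
  have k2 : zpowers y ≤ 𝒞(cj h S.J ⊓ S.J) := zpowers_le.2 fun x hx => by
    obtain ⟨a, ha, e, f, rfl⟩ := S.ex_j hx.2
    have fa := fx y hy a ha e f hx.1
    rw [ey]
    exact (Commute.mul_left (bj a ha fa e f) ((S.j_comm hc ha ..).2 (bb c0 hc a ha fc fa))).symm
  have k3 : zpowers y ≤ 𝒞(zpowers y) := zpowers_le.2 fun x ⟨n, hn⟩ => hn ▸ (Commute.zpow_self y n).eq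
  have k4 : (cj h S.J ⊓ S.J) ⊔ zpowers y ≤ 𝒞((cj h S.J ⊓ S.J) ⊔ zpowers y) := by
    rw [cent_sup]
    exact sup_le (le_inf k1 (le_centralizer_iff.1 k2)) (le_inf k2 k3)
  have k5 := S.ab_le (E := cj h⁻¹ ((cj h S.J ⊓ S.J) ⊔ zpowers y))
    (cj_le_iff.2 (by rw [inv_inv]; exact sup_le inf_le_left (zpowers_le.2 hy))) fun a ha a' ha' => by
      have := k4 (mem_cj.1 ha') _ (mem_cj.1 ha)
      calc a * a' = h⁻¹ * (h⁻¹⁻¹ * a * h⁻¹ * (h⁻¹⁻¹ * a' * h⁻¹)) * h := by group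
        _ = a' * a := by rw [this]; group
  rw [card_cj, ← c64] at k5
  exact n2 (X.toJ0.r_J ((eq_of_le_of_card_ge le_sup_left k5).ge (mem_sup_right (mem_zpowers y))).2)

theorem syx : SYX.{u} := by
  intro W G Γ _ _ _ S m X _
  have : Fact (Nat.Prime 2) := ⟨Nat.prime_two⟩
  have w := W G Γ S m X.toJM
  have cen : ∀ u ∈ X.T, (∀ y ∈ X.T, Commute u y) → u = 1 ∨ u = S.z := fun u hu hc => by
    obtain ⟨k, hk⟩ := IsPGroup.pw X.syl.isPGroup hu
    exact X.toCM.cent_two (fun y hy => (hc y (X.JT hy)).symm) (hc _ X.toCM.tT) hk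
  have syl : IsSylowIn 2 X.T ⊤ := by
    obtain ⟨P, hP, hle⟩ := exists_isSylowIn_ge X.syl.isPGroup le_top
    rcases hle.eq_or_lt with e | e
    · exact e ▸ hP
    exfalso
    obtain ⟨g, hg, ng⟩ := SetLike.exists_of_lt (lt_inf_normalizer_of_isPGroup hP.isPGroup e)
    have zT := X.JT S.zJ
    have gz : g * S.z * g⁻¹ = S.z := by
      refine (cen _ (conj_mem hg.2 zT) fun y hy => ?_).resolve_left (by simpa using S.z1)
      have := (X.toJ0.Nz (X.toJ0.TN (conj_mem' hg.2 hy))).eq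
      change _ = _
      calc g * S.z * g⁻¹ * y = g * (S.z * (g⁻¹ * y * g)) * g⁻¹ := by group
        _ = y * (g * S.z * g⁻¹) := by rw [← this]; group
    have gN : g ∈ X.Nn := X.full ▸ cj_eq_iff_mem.1 (w g (mul_inv_eq_iff_eq_mul.1 gz) (cj_le_of_le X.JT hg.2))
    exact ng ((X.syl.eq_of_le (hP.isPGroup.to_le (sup_le hle (zpowers_le.2 hg.1))) le_sup_left
      (sup_le X.syl.le (zpowers_le.2 gN))).le (mem_sup_right (mem_zpowers g)))
  refine ⟨fun h hz hle => ?_, syl, cen, fun h hz P hP hc hle p hp => ?_⟩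
  · obtain ⟨k, hk, e⟩ := syl_conj_le X.syl (isPGroup_cj S.isP h) (X.full ▸ hle)
    rw [← Even.cj_mul] at e
    have := w (k * h) ((X.toJ0.Nz hk).mul_left hz) e
    rw [Even.cj_mul] at this
    exact cj_inj.1 (this.trans (cj_eq (X.toJ0.NJ hk)).symm)
  · obtain ⟨k, hk, e⟩ := syl_conj_le (syl.of_le (K := centralizer {S.z})
      (fun y hy => mem_centralizer_singleton_iff.2 (X.toJ0.Nz (X.toJ0.TN hy))) le_top) hP
      fun y hy => mem_centralizer_singleton_iff.2 (hc y hy)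
    have := w (k * h) (Commute.mul_left (mem_centralizer_singleton_iff.1 hk) hz)
      (by rw [Even.cj_mul]; exact (cj_mono k hle).trans e)
    have m1 := X.toJ0.NJ (X.toJ0.TN (e (conj_mem_cj k hp)))
    rw [← this, Even.cj_mul, ← cj_norm, mem_cj] at m1
    simpa [mul_assoc] using m1

end CL.F6
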